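import Cfsg.Agent.Lib.Coset.Letters
import Cfsg.Prelude.Def_Spor_Fi23

/-! # The presentation of the Fischer group Fi23 in numbered letters -/

set_option autoImplicit false

namespace Cfsg.Agent.Lib.SporPres.FiTwentyThree

open Cfsg.Agent.Lib.Coset Cfsg.Spor

/-- The generators, numbered. -/
def idx : Cfsg.Spor.Fi23.Gen → ℕ
  | .a => 0
  | .b => 1
  | .c => 2
  | .d => 3
  | .e => 4
  | .f => 5
  | .g => 6
  | .h => 7
  | .i => 8
  | .j => 9

/-- The presentation in numbered letters. -/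
def pres : Pres Cfsg.Spor.Fi23.Gen Cfsg.Spor.Fi23.edges Cfsg.Spor.Fi23.extra where
  gl := [.a, .b, .c, .d, .e, .f, .g, .h, .i, .j]
  dflt := .a
  words := [rep 10 [3, 2, 1, 3, 4, 5, 3, 7, 8], rep 9 [0, 1, 2, 3, 4, 5, 7]]
  mem a := by cases a <;> simp
  nodes a := by cases a <;> decide
  lift {Δ} _ f hf := by
    simp only [Cfsg.Spor.Fi23.extra, Cfsg.Spor.Fi23.a, Cfsg.Spor.Fi23.b, Cfsg.Spor.Fi23.c,
      Cfsg.Spor.Fi23.d, Cfsg.Spor.Fi23.e, Cfsg.Spor.Fi23.f, Cfsg.Spor.Fi23.g, Cfsg.Spor.Fi23.h,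
      Cfsg.Spor.Fi23.i, Cfsg.Spor.Fi23.j, List.map_cons, List.map_nil, map_mul, map_pow, FreeGroup.lift_apply_of,
      ev_rep, ev_cons, ev_nil, mul_one, List.getD_cons_zero, List.getD_cons_succ, mul_assoc]

/-- The generators in the presented group. -/
abbrev φ : ℕ → Cfsg.Spor.Fi23 := pres.φ

theorem idx_lt (a : Cfsg.Spor.Fi23.Gen) : idx a < pres.gl.length := by
  cases a <;> decide

theorem gl_idx (a : Cfsg.Spor.Fi23.Gen) : pres.gl.getD (idx a) pres.dflt = a := by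
  cases a <;> rfl

theorem idx_gl : ∀ k < pres.gl.length, idx (pres.gl.getD k pres.dflt) = k := by decide +kernel

theorem words_lt : ∀ w ∈ pres.words, ∀ k ∈ w, k < pres.gl.length := by decide +kernel

end Cfsg.Agent.Lib.SporPres.FiTwentyThree
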