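import Cfsg.Agent.Lib.SporPres.FiTwentyThree.Pres
import Cfsg.Agent.Lib.SporPres.FiTwentyThree.S31671Tab
import Cfsg.Agent.Lib.Coset.Action

/-! # Checks of the relators in a range of cosets -/

set_option autoImplicit false

namespace Cfsg.Agent.Lib.SporPres.FiTwentyThree

open Cfsg.Agent.Lib.Coset

theorem relCheck3 : ∀ k < 94, 72 ≤ k →
    S31671.tab.relOK pres.base (k * 340) (min 340 (S31671.tab.size - k * 340)) = true := by
  intro k hk hlo
  interval_cases k <;> decide +kernel

end Cfsg.Agent.Lib.SporPres.FiTwentyThree
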