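import Cfsg.Agent.Lib.SporPres.FiTwentyThree.Rel0
import Cfsg.Agent.Lib.SporPres.FiTwentyThree.Rel1
import Cfsg.Agent.Lib.SporPres.FiTwentyThree.Rel2
import Cfsg.Agent.Lib.SporPres.FiTwentyThree.Rel3
import Cfsg.Agent.Lib.SporPres.FiTwentyThree.Pres
import Cfsg.Agent.Lib.Coset.BigOrbit

/-! # The action of the presented Fi23 on 31671 points -/

set_option autoImplicit false

namespace Cfsg.Agent.Lib.SporPres.FiTwentyThree

open Cfsg.Agent.Lib.Coset

/-- The table. -/
abbrev tab : Tab := S31671.tab

theorem size_eq : tab.size = 31671 := rfl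

theorem good : tab.Good :=
  Tab.good_of_invOK (B := 2000) (fun k hk => by
    have hk' : k < 16 := by have := size_eq; omega
    interval_cases k <;> decide +kernel) (by norm_num)

theorem relators : ∀ i < tab.size, ∀ w ∈ pres.base, tab.app w i = i :=
  Tab.relOK_spec (B := 340) (by norm_num) fun k hk => by
    have hk' : k < 94 := by have := size_eq; omega
    by_cases h0 : k < 24
    · exact relCheck0 k h0 (by omega)
    by_cases h1 : k < 48
    · exact relCheck1 k h1 (by omega)
    by_cases h2 : k < 72
    · exact relCheck2 k h2 (by omega)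
    exact relCheck3 k hk' (by omega)

theorem base_lt : ∀ w ∈ pres.base, ∀ k ∈ w, k < tab.gens := by decide +kernel

/-- The action on the cosets. -/
noncomputable def act : Cfsg.Spor.Fi23 →* Equiv.Perm (Fin tab.size) :=
  pres.toPerm tab good relators base_lt idx idx_lt gl_idx idx_gl words_lt

theorem act_φ : ∀ g < tab.gens, act (φ g) = tab.perm good g :=
  pres.toPerm_φ tab good relators base_lt idx idx_lt gl_idx idx_gl words_lt rfl

theorem act_ev (w : List ℕ) (hw : w.all (· < tab.gens) = true) :
    act (ev φ w) = ev (tab.perm good) w := by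
  simp only [List.all_eq_true, decide_eq_true_eq] at hw
  rw [ev_comp, ev, ev, List.map_congr_left (f := ⇑act ∘ φ) (g := tab.perm good) fun a ha =>
    act_φ a (hw a ha)]

end Cfsg.Agent.Lib.SporPres.FiTwentyThree
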