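import Cfsg.Agent.Lib.SporPres.FiTwentyThree.Order

/-! # The subgroup of index 31671 named by its generators -/

set_option autoImplicit false

namespace Cfsg.Agent.Lib.SporPres.FiTwentyThree

open Cfsg.Agent.Lib.Coset Cfsg.Spor.Fi23

theorem subK_eq : ((Subgroup.closure ({a, b, c, d, e, f, g, h, i} : Set (FreeGroup Gen))).map
    (PresentedGroup.mk (Cfsg.Spor.coxRelators edges ∪ {r | r ∈ extra}))) = subK := by
  rw [MonoidHom.map_closure]
  refine congrArg Subgroup.closure ?_
  simp only [subWords, List.mem_cons, List.not_mem_nil, or_false, Set.setOf_or, Set.image_union,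
    Set.setOf_eq_eq_singleton, Set.image_singleton, Set.image_insert_eq]
  simp only [ev_cons, ev_nil, mul_one, Set.singleton_union]
  rfl

end Cfsg.Agent.Lib.SporPres.FiTwentyThree
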