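import Cfsg.Agent.Lib.SporPres.FiTwentyThree.Suborbits
import Cfsg.Agent.Lib.SporPres.FiTwentyTwo.Order

/-! # The subgroup of index 31671 acts on a suborbit as the presented Fi22 -/

set_option autoImplicit false

namespace Cfsg.Agent.Lib.SporPres.FiTwentyThree

open Cfsg.Agent.Lib.Coset

/-- The subgroup of index 31671. -/
abbrev subK : Subgroup Cfsg.Spor.Fi23 := wordSub φ subWords

/-- The point of a coset of the smaller table. -/
noncomputable def iota (i : Fin FiTwentyTwo.tab.size) : Fin tab.size :=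
  ⟨nodeOf iotaS i % 31671, Nat.mod_lt _ (by norm_num)⟩

theorem iota_chunk : ∀ k : ℕ, k < 4 → ∀ j : Fin 900, k * 900 + (j : ℕ) < 3510 →
    nodeOf iotaS (k * 900 + (j : ℕ)) < 31671 ∧
      nodeOf iotaInvS (nodeOf iotaS (k * 900 + (j : ℕ))) = k * 900 + (j : ℕ) := by
  intro k hk
  interval_cases k <;> decide +kernel

theorem iota_spec (i : Fin FiTwentyTwo.tab.size) :
    nodeOf iotaS i < 31671 ∧ nodeOf iotaInvS (nodeOf iotaS i) = i := by
  have hi : (i : ℕ) < 3510 := i.2
  have h := iota_chunk (i / 900) (by omega) ⟨i % 900, Nat.mod_lt _ (by norm_num)⟩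
    (by simp only; omega)
  rwa [show (i : ℕ) / 900 * 900 + (((⟨(i : ℕ) % 900, Nat.mod_lt _ (by norm_num)⟩ : Fin 900)) : ℕ) = i
    from Nat.div_add_mod' _ _] at h

theorem iota_inj : Function.Injective iota := fun i j h => Fin.ext (by
  have h' : nodeOf iotaS i % 31671 = nodeOf iotaS j % 31671 := congrArg Fin.val h
  rw [Nat.mod_eq_of_lt (iota_spec i).1, Nat.mod_eq_of_lt (iota_spec j).1] at h'
  rw [← (iota_spec i).2, ← (iota_spec j).2, h'])

/-- Checks the equivariance of the points in a range. -/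
noncomputable def equivRange (lo len : ℕ) : Bool :=
  (List.range len).all fun k => (List.range 9).all fun g =>
    Nat.beq (tab.act g (nodeOf iotaS (lo + k))) (nodeOf iotaS (FiTwentyTwo.tab.act g (lo + k)))

theorem equivariant (g : ℕ) (hg : g < 9) (i : Fin FiTwentyTwo.tab.size) :
    tab.act g (nodeOf iotaS i) = nodeOf iotaS (FiTwentyTwo.tab.act g i) := by
  have hchunk : ∀ k, k * 900 < 3510 → equivRange (k * 900) (min 900 (3510 - k * 900)) = true := by
    intro k hk
    have hk' : k < 4 := by omega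
    interval_cases k <;> decide +kernel
  have hi : (i : ℕ) < 3510 := i.2
  have hd := Nat.div_add_mod' (i : ℕ) 900
  have := hchunk ((i : ℕ) / 900) (by omega)
  simp only [equivRange, List.all_eq_true, List.mem_range, Nat.beq_eq] at this
  have := this ((i : ℕ) % 900) (lt_min (Nat.mod_lt _ (by norm_num)) (by omega)) g hg
  rwa [hd] at this

/-- A permutation of the large table induces one of the small one. -/
def Compat (p : Equiv.Perm (Fin tab.size)) (σ : Equiv.Perm (Fin FiTwentyTwo.tab.size)) : Prop :=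
  ∀ i, p (iota i) = iota (σ i)

theorem compat_mul {p r : Equiv.Perm (Fin tab.size)} {σ τ : Equiv.Perm (Fin FiTwentyTwo.tab.size)}
    (hp : Compat p σ) (hr : Compat r τ) : Compat (p * r) (σ * τ) := fun i => by
  rw [Equiv.Perm.mul_apply, hr, hp, Equiv.Perm.mul_apply]

theorem compat_unique {p : Equiv.Perm (Fin tab.size)} {σ τ : Equiv.Perm (Fin FiTwentyTwo.tab.size)}
    (hs : Compat p σ) (ht : Compat p τ) : σ = τ :=
  Equiv.ext fun i => iota_inj ((hs i).symm.trans (ht i))

theorem compat_gen (g : ℕ) (hg : g < 9) :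
    Compat (act (ev φ [g])) (FiTwentyTwo.act (FiTwentyTwo.φ g)) := fun i => Fin.ext (by
  have h10 : g < tab.gens := Nat.lt_succ_of_lt hg
  rw [ev_cons, ev_nil, mul_one, act_φ g h10, FiTwentyTwo.act_φ g hg, Tab.perm, Tab.perm,
    dif_pos h10, dif_pos (show g < FiTwentyTwo.tab.gens from hg)]
  show tab.act g (nodeOf iotaS i % 31671) = nodeOf iotaS (FiTwentyTwo.tab.act g i) % 31671
  rw [Nat.mod_eq_of_lt (iota_spec i).1, equivariant g hg i,
    Nat.mod_eq_of_lt (iota_spec ⟨_, (FiTwentyTwo.good i i.2 g hg).1⟩).1])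

theorem letter_mem (g : ℕ) (hg : g < 9) : [g] ∈ subWords := by
  interval_cases g <;> decide

theorem exists_compat {x : Cfsg.Spor.Fi23} (hx : x ∈ subK) :
    ∃ σ ∈ FiTwentyTwo.act.range, Compat (act x) σ := by
  induction hx using Subgroup.closure_induction with
  | mem x hx =>
    obtain ⟨w, hw, rfl⟩ := hx
    obtain ⟨g, hg, rfl⟩ : ∃ g < 9, w = [g] :=
      (by decide +kernel : ∀ w ∈ subWords, ∃ g < 9, w = [g]) w hw
    exact ⟨_, ⟨_, rfl⟩, compat_gen g hg⟩
  | one => exact ⟨1, one_mem _, fun i => by rw [map_one]; rfl⟩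
  | mul x y _ _ hx hy =>
    obtain ⟨σ, hσm, hσ⟩ := hx
    obtain ⟨τ, hτm, hτ⟩ := hy
    exact ⟨σ * τ, mul_mem hσm hτm, by rw [map_mul]; exact compat_mul hσ hτ⟩
  | inv x _ hx =>
    obtain ⟨σ, hσm, hσ⟩ := hx
    refine ⟨σ⁻¹, inv_mem hσm, fun i => ?_⟩
    rw [map_inv, Equiv.Perm.inv_eq_iff_eq, hσ]
    simp

/-- The action of the subgroup on the smaller table. -/
noncomputable def coverHom : subK →* Equiv.Perm (Fin FiTwentyTwo.tab.size) :=
  MonoidHom.mk' (fun x => (exists_compat x.2).choose) fun x y =>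
    compat_unique (exists_compat (x * y).2).choose_spec.2 (by
      rw [Subgroup.coe_mul, map_mul]
      exact compat_mul (exists_compat x.2).choose_spec.2 (exists_compat y.2).choose_spec.2)

theorem coverHom_eq (x : subK) {σ : Equiv.Perm (Fin FiTwentyTwo.tab.size)}
    (h : Compat (act (x : Cfsg.Spor.Fi23)) σ) : coverHom x = σ :=
  compat_unique (exists_compat x.2).choose_spec.2 h

theorem range_coverHom : coverHom.range = FiTwentyTwo.act.range := by
  refine le_antisymm ?_ ?_
  · rintro _ ⟨x, rfl⟩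
    exact (exists_compat x.2).choose_spec.1
  · rw [MonoidHom.range_eq_map, ← FiTwentyTwo.gen, MonoidHom.map_closure, Subgroup.closure_le]
    rintro _ ⟨_, ⟨g, hg, rfl⟩, rfl⟩
    exact ⟨⟨_, Subgroup.subset_closure ⟨[g], letter_mem g hg, rfl⟩⟩,
      coverHom_eq _ (compat_gen g hg)⟩

theorem compat_word : ∀ w : List ℕ, (∀ a ∈ w, a < 9) →
    Compat (act (ev φ w)) (FiTwentyTwo.act (ev FiTwentyTwo.φ w))
  | [], _ => fun i => by rw [ev_nil, ev_nil, map_one, map_one]; rfl
  | a :: w, h => by
    have h1 := compat_mul (compat_gen a (h a (by simp)))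
      (compat_word w fun b hb => h b (List.mem_cons_of_mem _ hb))
    rwa [← map_mul, ← map_mul, ev_cons φ a [], ev_nil, mul_one, ← ev_cons, ← ev_cons] at h1

/-- The word of the further relator of the smaller presentation. -/
def centreWord : List ℕ := Coset.rep 9 [1, 2, 3, 4, 5, 6, 7]

theorem act_eq_one_of_ker {x : subK} (h : x ∈ (act.comp subK.subtype).ker) :
    act (x : Cfsg.Spor.Fi23) = 1 := h

theorem act_eq_one_of_word {w : List ℕ} (hz : ev φ w ∈ subK) (hw : w.all (· < tab.gens) = true)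
    (h : (⟨_, hz⟩ : subK) ∈ (act.comp subK.subtype).ker) : ev (tab.perm good) w = 1 :=
  (act_ev w hw).symm.trans (act_eq_one_of_ker h)

theorem map_subK_card : 129123503308800 ≤ Nat.card (subK.map act) := by
  let f := act.comp subK.subtype
  have hrange : f.range = subK.map act := by
    rw [MonoidHom.range_comp, Subgroup.range_subtype]
  have hker : f.ker ≤ coverHom.ker := fun x hx => coverHom_eq x (fun i => by
    rw [show act (x : Cfsg.Spor.Fi23) = 1 from hx]; rfl)
  have hz : ev φ centreWord ∈ subK := ev_mem_closure φ fun a ha => by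
    refine Subgroup.subset_closure ⟨[a], letter_mem a ?_, by rw [ev_cons, ev_nil, mul_one]⟩
    exact (by decide +kernel : ∀ a ∈ centreWord, a < 9) a ha
  have hzk : (⟨_, hz⟩ : subK) ∈ coverHom.ker := coverHom_eq _ (by
    have h := compat_word centreWord (by decide +kernel)
    rwa [FiTwentyTwo.pres.base_eq_one centreWord (by simp [Pres.base, FiTwentyTwo.pres, centreWord]),
      map_one] at h)
  have hzf : (⟨_, hz⟩ : subK) ∉ f.ker := fun h => by
    have h1 : ev (tab.perm good) centreWord = 1 := act_eq_one_of_word hz (by decide +kernel) h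
    have h2 := congrArg (fun σ : Equiv.Perm (Fin tab.size) =>
      ((σ ⟨1, by decide +kernel⟩ : Fin _) : ℕ)) h1
    rw [Tab.ev_perm_apply good _ (by decide +kernel)] at h2
    exact absurd h2 (by decide +kernel)
  have hlt : f.ker < coverHom.ker := lt_of_le_of_ne hker fun h => hzf (h ▸ hzk)
  have hidx : f.ker.relIndex coverHom.ker * coverHom.ker.index = f.ker.index :=
    Subgroup.relIndex_mul_index hker
  have h22 : coverHom.ker.index = 64561751654400 := by
    rw [Subgroup.index_ker, range_coverHom,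
      ← Nat.card_congr (MonoidHom.ofInjective FiTwentyTwo.card_and_inj.2).toEquiv,
      FiTwentyTwo.card_and_inj.1]
  rw [← hrange, ← Subgroup.index_ker, ← hidx, h22]
  have h1 : f.ker.relIndex coverHom.ker ≠ 1 := fun h =>
    hlt.not_ge (Subgroup.relIndex_eq_one.1 h)
  have h0 : f.ker.relIndex coverHom.ker ≠ 0 := fun h => by
    rw [h, zero_mul, Subgroup.index_ker] at hidx
    exact Nat.card_pos.ne hidx
  calc 129123503308800 = 2 * 64561751654400 := by norm_num
    _ ≤ _ := Nat.mul_le_mul (by omega) le_rfl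

end Cfsg.Agent.Lib.SporPres.FiTwentyThree
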