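import Cfsg.Agent.Lib.SporPres.FiTwentyThree.S31671Part0
import Cfsg.Agent.Lib.SporPres.FiTwentyThree.S31671Part1
import Cfsg.Agent.Lib.SporPres.FiTwentyThree.S31671Part2
import Cfsg.Agent.Lib.SporPres.FiTwentyThree.S31671Part3
import Cfsg.Agent.Lib.SporPres.FiTwentyThree.S31671Part4
import Cfsg.Agent.Lib.SporPres.FiTwentyThree.S31671Part5
import Cfsg.Agent.Lib.SporPres.FiTwentyThree.S31671Part6
import Cfsg.Agent.Lib.SporPres.FiTwentyThree.S31671Part7
import Cfsg.Agent.Lib.SporPres.FiTwentyThree.S31671Part8
import Cfsg.Agent.Lib.SporPres.FiTwentyThree.S31671Part9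
import Cfsg.Agent.Lib.SporPres.FiTwentyThree.S31671Part10
import Cfsg.Agent.Lib.SporPres.FiTwentyThree.S31671Part11
import Cfsg.Agent.Lib.SporPres.FiTwentyThree.S31671Part12
import Cfsg.Agent.Lib.SporPres.FiTwentyThree.S31671Part13
import Cfsg.Agent.Lib.SporPres.FiTwentyThree.S31671Part14
import Cfsg.Agent.Lib.SporPres.FiTwentyThree.S31671Part15
import Cfsg.Agent.Lib.SporPres.FiTwentyThree.S31671Part16
import Cfsg.Agent.Lib.SporPres.FiTwentyThree.S31671Part17
import Cfsg.Agent.Lib.SporPres.FiTwentyThree.S31671Part18
import Cfsg.Agent.Lib.SporPres.FiTwentyThree.S31671Part19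
import Cfsg.Agent.Lib.SporPres.FiTwentyThree.S31671Part20
import Cfsg.Agent.Lib.SporPres.FiTwentyThree.S31671Part21
import Cfsg.Agent.Lib.SporPres.FiTwentyThree.S31671Part22
import Cfsg.Agent.Lib.SporPres.FiTwentyThree.S31671Part23
import Cfsg.Agent.Lib.SporPres.FiTwentyThree.S31671Part24
import Cfsg.Agent.Lib.SporPres.FiTwentyThree.S31671Part25
import Cfsg.Agent.Lib.SporPres.FiTwentyThree.S31671Part26
import Cfsg.Agent.Lib.SporPres.FiTwentyThree.S31671Part27
import Cfsg.Agent.Lib.SporPres.FiTwentyThree.S31671Part28
import Cfsg.Agent.Lib.SporPres.FiTwentyThree.S31671Part29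
import Cfsg.Agent.Lib.SporPres.FiTwentyThree.S31671Part30
import Cfsg.Agent.Lib.SporPres.FiTwentyThree.S31671Part31
import Cfsg.Agent.Lib.SporPres.FiTwentyThree.S31671Part32
import Cfsg.Agent.Lib.SporPres.FiTwentyThree.S31671Part33
import Cfsg.Agent.Lib.SporPres.FiTwentyThree.S31671Part34
import Cfsg.Agent.Lib.SporPres.FiTwentyThree.S31671Part35

/-! # Generated coset enumeration data: S31671 -/

set_option autoImplicit false

namespace Cfsg.Agent.Lib.SporPres.FiTwentyThree.S31671

open Cfsg.Agent.Lib.Coset

variable {Γ : Type*} [Group Γ] {φ : ℕ → Γ} {K : Subgroup Γ}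

theorem facts_hold (M : Cert.Model cert φ K) : ∀ j < cert.nfacts, cert.Holds φ K j := by
  have h : ∀ j < 0, cert.Holds φ K j := fun j hj => absurd hj (Nat.not_lt_zero j)
  have h : ∀ j < 512, cert.Holds φ K j := fun j hj =>
    Cert.blockOK_spec M h proofsB0_ok j (by rw [proofsB0_len]; omega)
  have h : ∀ j < 1024, cert.Holds φ K j := fun j hj =>
    Cert.blockOK_spec M h proofsB512_ok j (by rw [proofsB512_len]; omega)
  have h : ∀ j < 1536, cert.Holds φ K j := fun j hj =>
    Cert.blockOK_spec M h proofsB1024_ok j (by rw [proofsB1024_len]; omega)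
  have h : ∀ j < 2048, cert.Holds φ K j := fun j hj =>
    Cert.blockOK_spec M h proofsB1536_ok j (by rw [proofsB1536_len]; omega)
  have h : ∀ j < 2560, cert.Holds φ K j := fun j hj =>
    Cert.blockOK_spec M h proofsB2048_ok j (by rw [proofsB2048_len]; omega)
  have h : ∀ j < 3072, cert.Holds φ K j := fun j hj =>
    Cert.blockOK_spec M h proofsB2560_ok j (by rw [proofsB2560_len]; omega)
  have h : ∀ j < 3584, cert.Holds φ K j := fun j hj =>
    Cert.blockOK_spec M h proofsB3072_ok j (by rw [proofsB3072_len]; omega)
  have h : ∀ j < 4096, cert.Holds φ K j := fun j hj =>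
    Cert.blockOK_spec M h proofsB3584_ok j (by rw [proofsB3584_len]; omega)
  have h : ∀ j < 4608, cert.Holds φ K j := fun j hj =>
    Cert.blockOK_spec M h proofsB4096_ok j (by rw [proofsB4096_len]; omega)
  have h : ∀ j < 5120, cert.Holds φ K j := fun j hj =>
    Cert.blockOK_spec M h proofsB4608_ok j (by rw [proofsB4608_len]; omega)
  have h : ∀ j < 5632, cert.Holds φ K j := fun j hj =>
    Cert.blockOK_spec M h proofsB5120_ok j (by rw [proofsB5120_len]; omega)
  have h : ∀ j < 6144, cert.Holds φ K j := fun j hj =>
    Cert.blockOK_spec M h proofsB5632_ok j (by rw [proofsB5632_len]; omega)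
  have h : ∀ j < 6656, cert.Holds φ K j := fun j hj =>
    Cert.blockOK_spec M h proofsB6144_ok j (by rw [proofsB6144_len]; omega)
  have h : ∀ j < 7168, cert.Holds φ K j := fun j hj =>
    Cert.blockOK_spec M h proofsB6656_ok j (by rw [proofsB6656_len]; omega)
  have h : ∀ j < 7680, cert.Holds φ K j := fun j hj =>
    Cert.blockOK_spec M h proofsB7168_ok j (by rw [proofsB7168_len]; omega)
  have h : ∀ j < 8192, cert.Holds φ K j := fun j hj =>
    Cert.blockOK_spec M h proofsB7680_ok j (by rw [proofsB7680_len]; omega)
  have h : ∀ j < 8704, cert.Holds φ K j := fun j hj =>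
    Cert.blockOK_spec M h proofsB8192_ok j (by rw [proofsB8192_len]; omega)
  have h : ∀ j < 9216, cert.Holds φ K j := fun j hj =>
    Cert.blockOK_spec M h proofsB8704_ok j (by rw [proofsB8704_len]; omega)
  have h : ∀ j < 9728, cert.Holds φ K j := fun j hj =>
    Cert.blockOK_spec M h proofsB9216_ok j (by rw [proofsB9216_len]; omega)
  have h : ∀ j < 10240, cert.Holds φ K j := fun j hj =>
    Cert.blockOK_spec M h proofsB9728_ok j (by rw [proofsB9728_len]; omega)
  have h : ∀ j < 10752, cert.Holds φ K j := fun j hj =>
    Cert.blockOK_spec M h proofsB10240_ok j (by rw [proofsB10240_len]; omega)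
  have h : ∀ j < 11264, cert.Holds φ K j := fun j hj =>
    Cert.blockOK_spec M h proofsB10752_ok j (by rw [proofsB10752_len]; omega)
  have h : ∀ j < 11776, cert.Holds φ K j := fun j hj =>
    Cert.blockOK_spec M h proofsB11264_ok j (by rw [proofsB11264_len]; omega)
  have h : ∀ j < 12288, cert.Holds φ K j := fun j hj =>
    Cert.blockOK_spec M h proofsB11776_ok j (by rw [proofsB11776_len]; omega)
  have h : ∀ j < 12800, cert.Holds φ K j := fun j hj =>
    Cert.blockOK_spec M h proofsB12288_ok j (by rw [proofsB12288_len]; omega)
  have h : ∀ j < 13312, cert.Holds φ K j := fun j hj =>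
    Cert.blockOK_spec M h proofsB12800_ok j (by rw [proofsB12800_len]; omega)
  have h : ∀ j < 13824, cert.Holds φ K j := fun j hj =>
    Cert.blockOK_spec M h proofsB13312_ok j (by rw [proofsB13312_len]; omega)
  have h : ∀ j < 14336, cert.Holds φ K j := fun j hj =>
    Cert.blockOK_spec M h proofsB13824_ok j (by rw [proofsB13824_len]; omega)
  have h : ∀ j < 14848, cert.Holds φ K j := fun j hj =>
    Cert.blockOK_spec M h proofsB14336_ok j (by rw [proofsB14336_len]; omega)
  have h : ∀ j < 15360, cert.Holds φ K j := fun j hj =>
    Cert.blockOK_spec M h proofsB14848_ok j (by rw [proofsB14848_len]; omega)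
  have h : ∀ j < 15872, cert.Holds φ K j := fun j hj =>
    Cert.blockOK_spec M h proofsB15360_ok j (by rw [proofsB15360_len]; omega)
  have h : ∀ j < 16384, cert.Holds φ K j := fun j hj =>
    Cert.blockOK_spec M h proofsB15872_ok j (by rw [proofsB15872_len]; omega)
  have h : ∀ j < 16896, cert.Holds φ K j := fun j hj =>
    Cert.blockOK_spec M h proofsB16384_ok j (by rw [proofsB16384_len]; omega)
  have h : ∀ j < 17408, cert.Holds φ K j := fun j hj =>
    Cert.blockOK_spec M h proofsB16896_ok j (by rw [proofsB16896_len]; omega)
  have h : ∀ j < 17920, cert.Holds φ K j := fun j hj =>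
    Cert.blockOK_spec M h proofsB17408_ok j (by rw [proofsB17408_len]; omega)
  have h : ∀ j < 18432, cert.Holds φ K j := fun j hj =>
    Cert.blockOK_spec M h proofsB17920_ok j (by rw [proofsB17920_len]; omega)
  have h : ∀ j < 18944, cert.Holds φ K j := fun j hj =>
    Cert.blockOK_spec M h proofsB18432_ok j (by rw [proofsB18432_len]; omega)
  have h : ∀ j < 19456, cert.Holds φ K j := fun j hj =>
    Cert.blockOK_spec M h proofsB18944_ok j (by rw [proofsB18944_len]; omega)
  have h : ∀ j < 19968, cert.Holds φ K j := fun j hj =>
    Cert.blockOK_spec M h proofsB19456_ok j (by rw [proofsB19456_len]; omega)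
  have h : ∀ j < 20480, cert.Holds φ K j := fun j hj =>
    Cert.blockOK_spec M h proofsB19968_ok j (by rw [proofsB19968_len]; omega)
  have h : ∀ j < 20992, cert.Holds φ K j := fun j hj =>
    Cert.blockOK_spec M h proofsB20480_ok j (by rw [proofsB20480_len]; omega)
  have h : ∀ j < 21504, cert.Holds φ K j := fun j hj =>
    Cert.blockOK_spec M h proofsB20992_ok j (by rw [proofsB20992_len]; omega)
  have h : ∀ j < 22016, cert.Holds φ K j := fun j hj =>
    Cert.blockOK_spec M h proofsB21504_ok j (by rw [proofsB21504_len]; omega)
  have h : ∀ j < 22528, cert.Holds φ K j := fun j hj =>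
    Cert.blockOK_spec M h proofsB22016_ok j (by rw [proofsB22016_len]; omega)
  have h : ∀ j < 23040, cert.Holds φ K j := fun j hj =>
    Cert.blockOK_spec M h proofsB22528_ok j (by rw [proofsB22528_len]; omega)
  have h : ∀ j < 23552, cert.Holds φ K j := fun j hj =>
    Cert.blockOK_spec M h proofsB23040_ok j (by rw [proofsB23040_len]; omega)
  have h : ∀ j < 24064, cert.Holds φ K j := fun j hj =>
    Cert.blockOK_spec M h proofsB23552_ok j (by rw [proofsB23552_len]; omega)
  have h : ∀ j < 24576, cert.Holds φ K j := fun j hj =>
    Cert.blockOK_spec M h proofsB24064_ok j (by rw [proofsB24064_len]; omega)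
  have h : ∀ j < 25088, cert.Holds φ K j := fun j hj =>
    Cert.blockOK_spec M h proofsB24576_ok j (by rw [proofsB24576_len]; omega)
  have h : ∀ j < 25600, cert.Holds φ K j := fun j hj =>
    Cert.blockOK_spec M h proofsB25088_ok j (by rw [proofsB25088_len]; omega)
  have h : ∀ j < 26112, cert.Holds φ K j := fun j hj =>
    Cert.blockOK_spec M h proofsB25600_ok j (by rw [proofsB25600_len]; omega)
  have h : ∀ j < 26624, cert.Holds φ K j := fun j hj =>
    Cert.blockOK_spec M h proofsB26112_ok j (by rw [proofsB26112_len]; omega)
  have h : ∀ j < 27136, cert.Holds φ K j := fun j hj =>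
    Cert.blockOK_spec M h proofsB26624_ok j (by rw [proofsB26624_len]; omega)
  have h : ∀ j < 27648, cert.Holds φ K j := fun j hj =>
    Cert.blockOK_spec M h proofsB27136_ok j (by rw [proofsB27136_len]; omega)
  have h : ∀ j < 28160, cert.Holds φ K j := fun j hj =>
    Cert.blockOK_spec M h proofsB27648_ok j (by rw [proofsB27648_len]; omega)
  have h : ∀ j < 28672, cert.Holds φ K j := fun j hj =>
    Cert.blockOK_spec M h proofsB28160_ok j (by rw [proofsB28160_len]; omega)
  have h : ∀ j < 29184, cert.Holds φ K j := fun j hj =>
    Cert.blockOK_spec M h proofsB28672_ok j (by rw [proofsB28672_len]; omega)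
  have h : ∀ j < 29696, cert.Holds φ K j := fun j hj =>
    Cert.blockOK_spec M h proofsB29184_ok j (by rw [proofsB29184_len]; omega)
  have h : ∀ j < 30208, cert.Holds φ K j := fun j hj =>
    Cert.blockOK_spec M h proofsB29696_ok j (by rw [proofsB29696_len]; omega)
  have h : ∀ j < 30720, cert.Holds φ K j := fun j hj =>
    Cert.blockOK_spec M h proofsB30208_ok j (by rw [proofsB30208_len]; omega)
  have h : ∀ j < 31232, cert.Holds φ K j := fun j hj =>
    Cert.blockOK_spec M h proofsB30720_ok j (by rw [proofsB30720_len]; omega)
  have h : ∀ j < 31744, cert.Holds φ K j := fun j hj =>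
    Cert.blockOK_spec M h proofsB31232_ok j (by rw [proofsB31232_len]; omega)
  have h : ∀ j < 32256, cert.Holds φ K j := fun j hj =>
    Cert.blockOK_spec M h proofsB31744_ok j (by rw [proofsB31744_len]; omega)
  have h : ∀ j < 32768, cert.Holds φ K j := fun j hj =>
    Cert.blockOK_spec M h proofsB32256_ok j (by rw [proofsB32256_len]; omega)
  have h : ∀ j < 33280, cert.Holds φ K j := fun j hj =>
    Cert.blockOK_spec M h proofsB32768_ok j (by rw [proofsB32768_len]; omega)
  have h : ∀ j < 33792, cert.Holds φ K j := fun j hj =>
    Cert.blockOK_spec M h proofsB33280_ok j (by rw [proofsB33280_len]; omega)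
  have h : ∀ j < 34304, cert.Holds φ K j := fun j hj =>
    Cert.blockOK_spec M h proofsB33792_ok j (by rw [proofsB33792_len]; omega)
  have h : ∀ j < 34816, cert.Holds φ K j := fun j hj =>
    Cert.blockOK_spec M h proofsB34304_ok j (by rw [proofsB34304_len]; omega)
  have h : ∀ j < 35328, cert.Holds φ K j := fun j hj =>
    Cert.blockOK_spec M h proofsB34816_ok j (by rw [proofsB34816_len]; omega)
  have h : ∀ j < 35840, cert.Holds φ K j := fun j hj =>
    Cert.blockOK_spec M h proofsB35328_ok j (by rw [proofsB35328_len]; omega)
  have h : ∀ j < 36352, cert.Holds φ K j := fun j hj =>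
    Cert.blockOK_spec M h proofsB35840_ok j (by rw [proofsB35840_len]; omega)
  have h : ∀ j < 36864, cert.Holds φ K j := fun j hj =>
    Cert.blockOK_spec M h proofsB36352_ok j (by rw [proofsB36352_len]; omega)
  have h : ∀ j < 37376, cert.Holds φ K j := fun j hj =>
    Cert.blockOK_spec M h proofsB36864_ok j (by rw [proofsB36864_len]; omega)
  have h : ∀ j < 37888, cert.Holds φ K j := fun j hj =>
    Cert.blockOK_spec M h proofsB37376_ok j (by rw [proofsB37376_len]; omega)
  have h : ∀ j < 38400, cert.Holds φ K j := fun j hj =>
    Cert.blockOK_spec M h proofsB37888_ok j (by rw [proofsB37888_len]; omega)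
  have h : ∀ j < 38912, cert.Holds φ K j := fun j hj =>
    Cert.blockOK_spec M h proofsB38400_ok j (by rw [proofsB38400_len]; omega)
  have h : ∀ j < 39424, cert.Holds φ K j := fun j hj =>
    Cert.blockOK_spec M h proofsB38912_ok j (by rw [proofsB38912_len]; omega)
  have h : ∀ j < 39936, cert.Holds φ K j := fun j hj =>
    Cert.blockOK_spec M h proofsB39424_ok j (by rw [proofsB39424_len]; omega)
  have h : ∀ j < 40448, cert.Holds φ K j := fun j hj =>
    Cert.blockOK_spec M h proofsB39936_ok j (by rw [proofsB39936_len]; omega)
  have h : ∀ j < 40960, cert.Holds φ K j := fun j hj =>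
    Cert.blockOK_spec M h proofsB40448_ok j (by rw [proofsB40448_len]; omega)
  have h : ∀ j < 41472, cert.Holds φ K j := fun j hj =>
    Cert.blockOK_spec M h proofsB40960_ok j (by rw [proofsB40960_len]; omega)
  have h : ∀ j < 41984, cert.Holds φ K j := fun j hj =>
    Cert.blockOK_spec M h proofsB41472_ok j (by rw [proofsB41472_len]; omega)
  have h : ∀ j < 42496, cert.Holds φ K j := fun j hj =>
    Cert.blockOK_spec M h proofsB41984_ok j (by rw [proofsB41984_len]; omega)
  have h : ∀ j < 43008, cert.Holds φ K j := fun j hj =>
    Cert.blockOK_spec M h proofsB42496_ok j (by rw [proofsB42496_len]; omega)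
  have h : ∀ j < 43520, cert.Holds φ K j := fun j hj =>
    Cert.blockOK_spec M h proofsB43008_ok j (by rw [proofsB43008_len]; omega)
  have h : ∀ j < 44032, cert.Holds φ K j := fun j hj =>
    Cert.blockOK_spec M h proofsB43520_ok j (by rw [proofsB43520_len]; omega)
  have h : ∀ j < 44544, cert.Holds φ K j := fun j hj =>
    Cert.blockOK_spec M h proofsB44032_ok j (by rw [proofsB44032_len]; omega)
  have h : ∀ j < 45056, cert.Holds φ K j := fun j hj =>
    Cert.blockOK_spec M h proofsB44544_ok j (by rw [proofsB44544_len]; omega)
  have h : ∀ j < 45568, cert.Holds φ K j := fun j hj =>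
    Cert.blockOK_spec M h proofsB45056_ok j (by rw [proofsB45056_len]; omega)
  have h : ∀ j < 46080, cert.Holds φ K j := fun j hj =>
    Cert.blockOK_spec M h proofsB45568_ok j (by rw [proofsB45568_len]; omega)
  have h : ∀ j < 46592, cert.Holds φ K j := fun j hj =>
    Cert.blockOK_spec M h proofsB46080_ok j (by rw [proofsB46080_len]; omega)
  have h : ∀ j < 47104, cert.Holds φ K j := fun j hj =>
    Cert.blockOK_spec M h proofsB46592_ok j (by rw [proofsB46592_len]; omega)
  have h : ∀ j < 47616, cert.Holds φ K j := fun j hj =>
    Cert.blockOK_spec M h proofsB47104_ok j (by rw [proofsB47104_len]; omega)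
  have h : ∀ j < 48128, cert.Holds φ K j := fun j hj =>
    Cert.blockOK_spec M h proofsB47616_ok j (by rw [proofsB47616_len]; omega)
  have h : ∀ j < 48640, cert.Holds φ K j := fun j hj =>
    Cert.blockOK_spec M h proofsB48128_ok j (by rw [proofsB48128_len]; omega)
  have h : ∀ j < 49152, cert.Holds φ K j := fun j hj =>
    Cert.blockOK_spec M h proofsB48640_ok j (by rw [proofsB48640_len]; omega)
  have h : ∀ j < 49664, cert.Holds φ K j := fun j hj =>
    Cert.blockOK_spec M h proofsB49152_ok j (by rw [proofsB49152_len]; omega)
  have h : ∀ j < 50176, cert.Holds φ K j := fun j hj =>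
    Cert.blockOK_spec M h proofsB49664_ok j (by rw [proofsB49664_len]; omega)
  have h : ∀ j < 50688, cert.Holds φ K j := fun j hj =>
    Cert.blockOK_spec M h proofsB50176_ok j (by rw [proofsB50176_len]; omega)
  have h : ∀ j < 51200, cert.Holds φ K j := fun j hj =>
    Cert.blockOK_spec M h proofsB50688_ok j (by rw [proofsB50688_len]; omega)
  have h : ∀ j < 51712, cert.Holds φ K j := fun j hj =>
    Cert.blockOK_spec M h proofsB51200_ok j (by rw [proofsB51200_len]; omega)
  have h : ∀ j < 52224, cert.Holds φ K j := fun j hj =>
    Cert.blockOK_spec M h proofsB51712_ok j (by rw [proofsB51712_len]; omega)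
  have h : ∀ j < 52736, cert.Holds φ K j := fun j hj =>
    Cert.blockOK_spec M h proofsB52224_ok j (by rw [proofsB52224_len]; omega)
  have h : ∀ j < 53248, cert.Holds φ K j := fun j hj =>
    Cert.blockOK_spec M h proofsB52736_ok j (by rw [proofsB52736_len]; omega)
  have h : ∀ j < 53760, cert.Holds φ K j := fun j hj =>
    Cert.blockOK_spec M h proofsB53248_ok j (by rw [proofsB53248_len]; omega)
  have h : ∀ j < 54272, cert.Holds φ K j := fun j hj =>
    Cert.blockOK_spec M h proofsB53760_ok j (by rw [proofsB53760_len]; omega)
  have h : ∀ j < 54784, cert.Holds φ K j := fun j hj =>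
    Cert.blockOK_spec M h proofsB54272_ok j (by rw [proofsB54272_len]; omega)
  have h : ∀ j < 55296, cert.Holds φ K j := fun j hj =>
    Cert.blockOK_spec M h proofsB54784_ok j (by rw [proofsB54784_len]; omega)
  have h : ∀ j < 55808, cert.Holds φ K j := fun j hj =>
    Cert.blockOK_spec M h proofsB55296_ok j (by rw [proofsB55296_len]; omega)
  have h : ∀ j < 56320, cert.Holds φ K j := fun j hj =>
    Cert.blockOK_spec M h proofsB55808_ok j (by rw [proofsB55808_len]; omega)
  have h : ∀ j < 56832, cert.Holds φ K j := fun j hj =>
    Cert.blockOK_spec M h proofsB56320_ok j (by rw [proofsB56320_len]; omega)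
  have h : ∀ j < 57344, cert.Holds φ K j := fun j hj =>
    Cert.blockOK_spec M h proofsB56832_ok j (by rw [proofsB56832_len]; omega)
  have h : ∀ j < 57856, cert.Holds φ K j := fun j hj =>
    Cert.blockOK_spec M h proofsB57344_ok j (by rw [proofsB57344_len]; omega)
  have h : ∀ j < 58368, cert.Holds φ K j := fun j hj =>
    Cert.blockOK_spec M h proofsB57856_ok j (by rw [proofsB57856_len]; omega)
  have h : ∀ j < 58880, cert.Holds φ K j := fun j hj =>
    Cert.blockOK_spec M h proofsB58368_ok j (by rw [proofsB58368_len]; omega)
  have h : ∀ j < 59392, cert.Holds φ K j := fun j hj =>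
    Cert.blockOK_spec M h proofsB58880_ok j (by rw [proofsB58880_len]; omega)
  have h : ∀ j < 59904, cert.Holds φ K j := fun j hj =>
    Cert.blockOK_spec M h proofsB59392_ok j (by rw [proofsB59392_len]; omega)
  have h : ∀ j < 60416, cert.Holds φ K j := fun j hj =>
    Cert.blockOK_spec M h proofsB59904_ok j (by rw [proofsB59904_len]; omega)
  have h : ∀ j < 60928, cert.Holds φ K j := fun j hj =>
    Cert.blockOK_spec M h proofsB60416_ok j (by rw [proofsB60416_len]; omega)
  have h : ∀ j < 61440, cert.Holds φ K j := fun j hj =>
    Cert.blockOK_spec M h proofsB60928_ok j (by rw [proofsB60928_len]; omega)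
  have h : ∀ j < 61952, cert.Holds φ K j := fun j hj =>
    Cert.blockOK_spec M h proofsB61440_ok j (by rw [proofsB61440_len]; omega)
  have h : ∀ j < 62464, cert.Holds φ K j := fun j hj =>
    Cert.blockOK_spec M h proofsB61952_ok j (by rw [proofsB61952_len]; omega)
  have h : ∀ j < 62976, cert.Holds φ K j := fun j hj =>
    Cert.blockOK_spec M h proofsB62464_ok j (by rw [proofsB62464_len]; omega)
  have h : ∀ j < 63488, cert.Holds φ K j := fun j hj =>
    Cert.blockOK_spec M h proofsB62976_ok j (by rw [proofsB62976_len]; omega)
  have h : ∀ j < 64000, cert.Holds φ K j := fun j hj =>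
    Cert.blockOK_spec M h proofsB63488_ok j (by rw [proofsB63488_len]; omega)
  have h : ∀ j < 64512, cert.Holds φ K j := fun j hj =>
    Cert.blockOK_spec M h proofsB64000_ok j (by rw [proofsB64000_len]; omega)
  have h : ∀ j < 65024, cert.Holds φ K j := fun j hj =>
    Cert.blockOK_spec M h proofsB64512_ok j (by rw [proofsB64512_len]; omega)
  have h : ∀ j < 65536, cert.Holds φ K j := fun j hj =>
    Cert.blockOK_spec M h proofsB65024_ok j (by rw [proofsB65024_len]; omega)
  have h : ∀ j < 66048, cert.Holds φ K j := fun j hj =>
    Cert.blockOK_spec M h proofsB65536_ok j (by rw [proofsB65536_len]; omega)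
  have h : ∀ j < 66560, cert.Holds φ K j := fun j hj =>
    Cert.blockOK_spec M h proofsB66048_ok j (by rw [proofsB66048_len]; omega)
  have h : ∀ j < 67072, cert.Holds φ K j := fun j hj =>
    Cert.blockOK_spec M h proofsB66560_ok j (by rw [proofsB66560_len]; omega)
  have h : ∀ j < 67584, cert.Holds φ K j := fun j hj =>
    Cert.blockOK_spec M h proofsB67072_ok j (by rw [proofsB67072_len]; omega)
  have h : ∀ j < 68096, cert.Holds φ K j := fun j hj =>
    Cert.blockOK_spec M h proofsB67584_ok j (by rw [proofsB67584_len]; omega)
  have h : ∀ j < 68608, cert.Holds φ K j := fun j hj =>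
    Cert.blockOK_spec M h proofsB68096_ok j (by rw [proofsB68096_len]; omega)
  have h : ∀ j < 69120, cert.Holds φ K j := fun j hj =>
    Cert.blockOK_spec M h proofsB68608_ok j (by rw [proofsB68608_len]; omega)
  have h : ∀ j < 69632, cert.Holds φ K j := fun j hj =>
    Cert.blockOK_spec M h proofsB69120_ok j (by rw [proofsB69120_len]; omega)
  have h : ∀ j < 70144, cert.Holds φ K j := fun j hj =>
    Cert.blockOK_spec M h proofsB69632_ok j (by rw [proofsB69632_len]; omega)
  have h : ∀ j < 70656, cert.Holds φ K j := fun j hj =>
    Cert.blockOK_spec M h proofsB70144_ok j (by rw [proofsB70144_len]; omega)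
  have h : ∀ j < 71168, cert.Holds φ K j := fun j hj =>
    Cert.blockOK_spec M h proofsB70656_ok j (by rw [proofsB70656_len]; omega)
  have h : ∀ j < 71680, cert.Holds φ K j := fun j hj =>
    Cert.blockOK_spec M h proofsB71168_ok j (by rw [proofsB71168_len]; omega)
  have h : ∀ j < 72192, cert.Holds φ K j := fun j hj =>
    Cert.blockOK_spec M h proofsB71680_ok j (by rw [proofsB71680_len]; omega)
  have h : ∀ j < 72704, cert.Holds φ K j := fun j hj =>
    Cert.blockOK_spec M h proofsB72192_ok j (by rw [proofsB72192_len]; omega)
  have h : ∀ j < 73216, cert.Holds φ K j := fun j hj =>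
    Cert.blockOK_spec M h proofsB72704_ok j (by rw [proofsB72704_len]; omega)
  have h : ∀ j < 73728, cert.Holds φ K j := fun j hj =>
    Cert.blockOK_spec M h proofsB73216_ok j (by rw [proofsB73216_len]; omega)
  have h : ∀ j < 74240, cert.Holds φ K j := fun j hj =>
    Cert.blockOK_spec M h proofsB73728_ok j (by rw [proofsB73728_len]; omega)
  have h : ∀ j < 74752, cert.Holds φ K j := fun j hj =>
    Cert.blockOK_spec M h proofsB74240_ok j (by rw [proofsB74240_len]; omega)
  have h : ∀ j < 75264, cert.Holds φ K j := fun j hj =>
    Cert.blockOK_spec M h proofsB74752_ok j (by rw [proofsB74752_len]; omega)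
  have h : ∀ j < 75776, cert.Holds φ K j := fun j hj =>
    Cert.blockOK_spec M h proofsB75264_ok j (by rw [proofsB75264_len]; omega)
  have h : ∀ j < 76288, cert.Holds φ K j := fun j hj =>
    Cert.blockOK_spec M h proofsB75776_ok j (by rw [proofsB75776_len]; omega)
  have h : ∀ j < 76800, cert.Holds φ K j := fun j hj =>
    Cert.blockOK_spec M h proofsB76288_ok j (by rw [proofsB76288_len]; omega)
  have h : ∀ j < 77312, cert.Holds φ K j := fun j hj =>
    Cert.blockOK_spec M h proofsB76800_ok j (by rw [proofsB76800_len]; omega)
  have h : ∀ j < 77824, cert.Holds φ K j := fun j hj =>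
    Cert.blockOK_spec M h proofsB77312_ok j (by rw [proofsB77312_len]; omega)
  have h : ∀ j < 78336, cert.Holds φ K j := fun j hj =>
    Cert.blockOK_spec M h proofsB77824_ok j (by rw [proofsB77824_len]; omega)
  have h : ∀ j < 78848, cert.Holds φ K j := fun j hj =>
    Cert.blockOK_spec M h proofsB78336_ok j (by rw [proofsB78336_len]; omega)
  have h : ∀ j < 79360, cert.Holds φ K j := fun j hj =>
    Cert.blockOK_spec M h proofsB78848_ok j (by rw [proofsB78848_len]; omega)
  have h : ∀ j < 79872, cert.Holds φ K j := fun j hj =>
    Cert.blockOK_spec M h proofsB79360_ok j (by rw [proofsB79360_len]; omega)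
  have h : ∀ j < 80384, cert.Holds φ K j := fun j hj =>
    Cert.blockOK_spec M h proofsB79872_ok j (by rw [proofsB79872_len]; omega)
  have h : ∀ j < 80896, cert.Holds φ K j := fun j hj =>
    Cert.blockOK_spec M h proofsB80384_ok j (by rw [proofsB80384_len]; omega)
  have h : ∀ j < 81408, cert.Holds φ K j := fun j hj =>
    Cert.blockOK_spec M h proofsB80896_ok j (by rw [proofsB80896_len]; omega)
  have h : ∀ j < 81920, cert.Holds φ K j := fun j hj =>
    Cert.blockOK_spec M h proofsB81408_ok j (by rw [proofsB81408_len]; omega)
  have h : ∀ j < 82432, cert.Holds φ K j := fun j hj =>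
    Cert.blockOK_spec M h proofsB81920_ok j (by rw [proofsB81920_len]; omega)
  have h : ∀ j < 82944, cert.Holds φ K j := fun j hj =>
    Cert.blockOK_spec M h proofsB82432_ok j (by rw [proofsB82432_len]; omega)
  have h : ∀ j < 83456, cert.Holds φ K j := fun j hj =>
    Cert.blockOK_spec M h proofsB82944_ok j (by rw [proofsB82944_len]; omega)
  have h : ∀ j < 83968, cert.Holds φ K j := fun j hj =>
    Cert.blockOK_spec M h proofsB83456_ok j (by rw [proofsB83456_len]; omega)
  have h : ∀ j < 84480, cert.Holds φ K j := fun j hj =>
    Cert.blockOK_spec M h proofsB83968_ok j (by rw [proofsB83968_len]; omega)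
  have h : ∀ j < 84992, cert.Holds φ K j := fun j hj =>
    Cert.blockOK_spec M h proofsB84480_ok j (by rw [proofsB84480_len]; omega)
  have h : ∀ j < 85504, cert.Holds φ K j := fun j hj =>
    Cert.blockOK_spec M h proofsB84992_ok j (by rw [proofsB84992_len]; omega)
  have h : ∀ j < 86016, cert.Holds φ K j := fun j hj =>
    Cert.blockOK_spec M h proofsB85504_ok j (by rw [proofsB85504_len]; omega)
  have h : ∀ j < 86528, cert.Holds φ K j := fun j hj =>
    Cert.blockOK_spec M h proofsB86016_ok j (by rw [proofsB86016_len]; omega)
  have h : ∀ j < 87040, cert.Holds φ K j := fun j hj =>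
    Cert.blockOK_spec M h proofsB86528_ok j (by rw [proofsB86528_len]; omega)
  have h : ∀ j < 87552, cert.Holds φ K j := fun j hj =>
    Cert.blockOK_spec M h proofsB87040_ok j (by rw [proofsB87040_len]; omega)
  have h : ∀ j < 88064, cert.Holds φ K j := fun j hj =>
    Cert.blockOK_spec M h proofsB87552_ok j (by rw [proofsB87552_len]; omega)
  have h : ∀ j < 88576, cert.Holds φ K j := fun j hj =>
    Cert.blockOK_spec M h proofsB88064_ok j (by rw [proofsB88064_len]; omega)
  have h : ∀ j < 89088, cert.Holds φ K j := fun j hj =>
    Cert.blockOK_spec M h proofsB88576_ok j (by rw [proofsB88576_len]; omega)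
  have h : ∀ j < 89600, cert.Holds φ K j := fun j hj =>
    Cert.blockOK_spec M h proofsB89088_ok j (by rw [proofsB89088_len]; omega)
  have h : ∀ j < 90112, cert.Holds φ K j := fun j hj =>
    Cert.blockOK_spec M h proofsB89600_ok j (by rw [proofsB89600_len]; omega)
  have h : ∀ j < 90624, cert.Holds φ K j := fun j hj =>
    Cert.blockOK_spec M h proofsB90112_ok j (by rw [proofsB90112_len]; omega)
  have h : ∀ j < 91136, cert.Holds φ K j := fun j hj =>
    Cert.blockOK_spec M h proofsB90624_ok j (by rw [proofsB90624_len]; omega)
  have h : ∀ j < 91648, cert.Holds φ K j := fun j hj =>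
    Cert.blockOK_spec M h proofsB91136_ok j (by rw [proofsB91136_len]; omega)
  have h : ∀ j < 92160, cert.Holds φ K j := fun j hj =>
    Cert.blockOK_spec M h proofsB91648_ok j (by rw [proofsB91648_len]; omega)
  have h : ∀ j < 92672, cert.Holds φ K j := fun j hj =>
    Cert.blockOK_spec M h proofsB92160_ok j (by rw [proofsB92160_len]; omega)
  have h : ∀ j < 93184, cert.Holds φ K j := fun j hj =>
    Cert.blockOK_spec M h proofsB92672_ok j (by rw [proofsB92672_len]; omega)
  have h : ∀ j < 93696, cert.Holds φ K j := fun j hj =>
    Cert.blockOK_spec M h proofsB93184_ok j (by rw [proofsB93184_len]; omega)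
  have h : ∀ j < 94208, cert.Holds φ K j := fun j hj =>
    Cert.blockOK_spec M h proofsB93696_ok j (by rw [proofsB93696_len]; omega)
  have h : ∀ j < 94720, cert.Holds φ K j := fun j hj =>
    Cert.blockOK_spec M h proofsB94208_ok j (by rw [proofsB94208_len]; omega)
  have h : ∀ j < 95232, cert.Holds φ K j := fun j hj =>
    Cert.blockOK_spec M h proofsB94720_ok j (by rw [proofsB94720_len]; omega)
  have h : ∀ j < 95744, cert.Holds φ K j := fun j hj =>
    Cert.blockOK_spec M h proofsB95232_ok j (by rw [proofsB95232_len]; omega)
  have h : ∀ j < 96256, cert.Holds φ K j := fun j hj =>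
    Cert.blockOK_spec M h proofsB95744_ok j (by rw [proofsB95744_len]; omega)
  have h : ∀ j < 96768, cert.Holds φ K j := fun j hj =>
    Cert.blockOK_spec M h proofsB96256_ok j (by rw [proofsB96256_len]; omega)
  have h : ∀ j < 97280, cert.Holds φ K j := fun j hj =>
    Cert.blockOK_spec M h proofsB96768_ok j (by rw [proofsB96768_len]; omega)
  have h : ∀ j < 97792, cert.Holds φ K j := fun j hj =>
    Cert.blockOK_spec M h proofsB97280_ok j (by rw [proofsB97280_len]; omega)
  have h : ∀ j < 98304, cert.Holds φ K j := fun j hj =>
    Cert.blockOK_spec M h proofsB97792_ok j (by rw [proofsB97792_len]; omega)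
  have h : ∀ j < 98816, cert.Holds φ K j := fun j hj =>
    Cert.blockOK_spec M h proofsB98304_ok j (by rw [proofsB98304_len]; omega)
  have h : ∀ j < 99328, cert.Holds φ K j := fun j hj =>
    Cert.blockOK_spec M h proofsB98816_ok j (by rw [proofsB98816_len]; omega)
  have h : ∀ j < 99840, cert.Holds φ K j := fun j hj =>
    Cert.blockOK_spec M h proofsB99328_ok j (by rw [proofsB99328_len]; omega)
  have h : ∀ j < 100352, cert.Holds φ K j := fun j hj =>
    Cert.blockOK_spec M h proofsB99840_ok j (by rw [proofsB99840_len]; omega)
  have h : ∀ j < 100864, cert.Holds φ K j := fun j hj =>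
    Cert.blockOK_spec M h proofsB100352_ok j (by rw [proofsB100352_len]; omega)
  have h : ∀ j < 101376, cert.Holds φ K j := fun j hj =>
    Cert.blockOK_spec M h proofsB100864_ok j (by rw [proofsB100864_len]; omega)
  have h : ∀ j < 101888, cert.Holds φ K j := fun j hj =>
    Cert.blockOK_spec M h proofsB101376_ok j (by rw [proofsB101376_len]; omega)
  have h : ∀ j < 102400, cert.Holds φ K j := fun j hj =>
    Cert.blockOK_spec M h proofsB101888_ok j (by rw [proofsB101888_len]; omega)
  have h : ∀ j < 102912, cert.Holds φ K j := fun j hj =>
    Cert.blockOK_spec M h proofsB102400_ok j (by rw [proofsB102400_len]; omega)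
  have h : ∀ j < 103424, cert.Holds φ K j := fun j hj =>
    Cert.blockOK_spec M h proofsB102912_ok j (by rw [proofsB102912_len]; omega)
  have h : ∀ j < 103936, cert.Holds φ K j := fun j hj =>
    Cert.blockOK_spec M h proofsB103424_ok j (by rw [proofsB103424_len]; omega)
  have h : ∀ j < 104448, cert.Holds φ K j := fun j hj =>
    Cert.blockOK_spec M h proofsB103936_ok j (by rw [proofsB103936_len]; omega)
  have h : ∀ j < 104960, cert.Holds φ K j := fun j hj =>
    Cert.blockOK_spec M h proofsB104448_ok j (by rw [proofsB104448_len]; omega)
  have h : ∀ j < 105472, cert.Holds φ K j := fun j hj =>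
    Cert.blockOK_spec M h proofsB104960_ok j (by rw [proofsB104960_len]; omega)
  have h : ∀ j < 105984, cert.Holds φ K j := fun j hj =>
    Cert.blockOK_spec M h proofsB105472_ok j (by rw [proofsB105472_len]; omega)
  have h : ∀ j < 106496, cert.Holds φ K j := fun j hj =>
    Cert.blockOK_spec M h proofsB105984_ok j (by rw [proofsB105984_len]; omega)
  have h : ∀ j < 107008, cert.Holds φ K j := fun j hj =>
    Cert.blockOK_spec M h proofsB106496_ok j (by rw [proofsB106496_len]; omega)
  have h : ∀ j < 107520, cert.Holds φ K j := fun j hj =>
    Cert.blockOK_spec M h proofsB107008_ok j (by rw [proofsB107008_len]; omega)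
  have h : ∀ j < 108032, cert.Holds φ K j := fun j hj =>
    Cert.blockOK_spec M h proofsB107520_ok j (by rw [proofsB107520_len]; omega)
  have h : ∀ j < 108544, cert.Holds φ K j := fun j hj =>
    Cert.blockOK_spec M h proofsB108032_ok j (by rw [proofsB108032_len]; omega)
  have h : ∀ j < 109056, cert.Holds φ K j := fun j hj =>
    Cert.blockOK_spec M h proofsB108544_ok j (by rw [proofsB108544_len]; omega)
  have h : ∀ j < 109568, cert.Holds φ K j := fun j hj =>
    Cert.blockOK_spec M h proofsB109056_ok j (by rw [proofsB109056_len]; omega)
  have h : ∀ j < 110080, cert.Holds φ K j := fun j hj =>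
    Cert.blockOK_spec M h proofsB109568_ok j (by rw [proofsB109568_len]; omega)
  have h : ∀ j < 110592, cert.Holds φ K j := fun j hj =>
    Cert.blockOK_spec M h proofsB110080_ok j (by rw [proofsB110080_len]; omega)
  have h : ∀ j < 111104, cert.Holds φ K j := fun j hj =>
    Cert.blockOK_spec M h proofsB110592_ok j (by rw [proofsB110592_len]; omega)
  have h : ∀ j < 111616, cert.Holds φ K j := fun j hj =>
    Cert.blockOK_spec M h proofsB111104_ok j (by rw [proofsB111104_len]; omega)
  have h : ∀ j < 112128, cert.Holds φ K j := fun j hj =>
    Cert.blockOK_spec M h proofsB111616_ok j (by rw [proofsB111616_len]; omega)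
  have h : ∀ j < 112640, cert.Holds φ K j := fun j hj =>
    Cert.blockOK_spec M h proofsB112128_ok j (by rw [proofsB112128_len]; omega)
  have h : ∀ j < 113152, cert.Holds φ K j := fun j hj =>
    Cert.blockOK_spec M h proofsB112640_ok j (by rw [proofsB112640_len]; omega)
  have h : ∀ j < 113664, cert.Holds φ K j := fun j hj =>
    Cert.blockOK_spec M h proofsB113152_ok j (by rw [proofsB113152_len]; omega)
  have h : ∀ j < 114176, cert.Holds φ K j := fun j hj =>
    Cert.blockOK_spec M h proofsB113664_ok j (by rw [proofsB113664_len]; omega)
  have h : ∀ j < 114688, cert.Holds φ K j := fun j hj =>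
    Cert.blockOK_spec M h proofsB114176_ok j (by rw [proofsB114176_len]; omega)
  have h : ∀ j < 115200, cert.Holds φ K j := fun j hj =>
    Cert.blockOK_spec M h proofsB114688_ok j (by rw [proofsB114688_len]; omega)
  have h : ∀ j < 115712, cert.Holds φ K j := fun j hj =>
    Cert.blockOK_spec M h proofsB115200_ok j (by rw [proofsB115200_len]; omega)
  have h : ∀ j < 116224, cert.Holds φ K j := fun j hj =>
    Cert.blockOK_spec M h proofsB115712_ok j (by rw [proofsB115712_len]; omega)
  have h : ∀ j < 116736, cert.Holds φ K j := fun j hj =>
    Cert.blockOK_spec M h proofsB116224_ok j (by rw [proofsB116224_len]; omega)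
  have h : ∀ j < 117248, cert.Holds φ K j := fun j hj =>
    Cert.blockOK_spec M h proofsB116736_ok j (by rw [proofsB116736_len]; omega)
  have h : ∀ j < 117760, cert.Holds φ K j := fun j hj =>
    Cert.blockOK_spec M h proofsB117248_ok j (by rw [proofsB117248_len]; omega)
  have h : ∀ j < 118272, cert.Holds φ K j := fun j hj =>
    Cert.blockOK_spec M h proofsB117760_ok j (by rw [proofsB117760_len]; omega)
  have h : ∀ j < 118784, cert.Holds φ K j := fun j hj =>
    Cert.blockOK_spec M h proofsB118272_ok j (by rw [proofsB118272_len]; omega)
  have h : ∀ j < 119296, cert.Holds φ K j := fun j hj =>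
    Cert.blockOK_spec M h proofsB118784_ok j (by rw [proofsB118784_len]; omega)
  have h : ∀ j < 119808, cert.Holds φ K j := fun j hj =>
    Cert.blockOK_spec M h proofsB119296_ok j (by rw [proofsB119296_len]; omega)
  have h : ∀ j < 120320, cert.Holds φ K j := fun j hj =>
    Cert.blockOK_spec M h proofsB119808_ok j (by rw [proofsB119808_len]; omega)
  have h : ∀ j < 120832, cert.Holds φ K j := fun j hj =>
    Cert.blockOK_spec M h proofsB120320_ok j (by rw [proofsB120320_len]; omega)
  have h : ∀ j < 121344, cert.Holds φ K j := fun j hj =>
    Cert.blockOK_spec M h proofsB120832_ok j (by rw [proofsB120832_len]; omega)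
  have h : ∀ j < 121856, cert.Holds φ K j := fun j hj =>
    Cert.blockOK_spec M h proofsB121344_ok j (by rw [proofsB121344_len]; omega)
  have h : ∀ j < 122368, cert.Holds φ K j := fun j hj =>
    Cert.blockOK_spec M h proofsB121856_ok j (by rw [proofsB121856_len]; omega)
  have h : ∀ j < 122880, cert.Holds φ K j := fun j hj =>
    Cert.blockOK_spec M h proofsB122368_ok j (by rw [proofsB122368_len]; omega)
  have h : ∀ j < 123392, cert.Holds φ K j := fun j hj =>
    Cert.blockOK_spec M h proofsB122880_ok j (by rw [proofsB122880_len]; omega)
  have h : ∀ j < 123904, cert.Holds φ K j := fun j hj =>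
    Cert.blockOK_spec M h proofsB123392_ok j (by rw [proofsB123392_len]; omega)
  have h : ∀ j < 124416, cert.Holds φ K j := fun j hj =>
    Cert.blockOK_spec M h proofsB123904_ok j (by rw [proofsB123904_len]; omega)
  have h : ∀ j < 124928, cert.Holds φ K j := fun j hj =>
    Cert.blockOK_spec M h proofsB124416_ok j (by rw [proofsB124416_len]; omega)
  have h : ∀ j < 125440, cert.Holds φ K j := fun j hj =>
    Cert.blockOK_spec M h proofsB124928_ok j (by rw [proofsB124928_len]; omega)
  have h : ∀ j < 125952, cert.Holds φ K j := fun j hj =>
    Cert.blockOK_spec M h proofsB125440_ok j (by rw [proofsB125440_len]; omega)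
  have h : ∀ j < 126464, cert.Holds φ K j := fun j hj =>
    Cert.blockOK_spec M h proofsB125952_ok j (by rw [proofsB125952_len]; omega)
  have h : ∀ j < 126976, cert.Holds φ K j := fun j hj =>
    Cert.blockOK_spec M h proofsB126464_ok j (by rw [proofsB126464_len]; omega)
  have h : ∀ j < 127488, cert.Holds φ K j := fun j hj =>
    Cert.blockOK_spec M h proofsB126976_ok j (by rw [proofsB126976_len]; omega)
  have h : ∀ j < 128000, cert.Holds φ K j := fun j hj =>
    Cert.blockOK_spec M h proofsB127488_ok j (by rw [proofsB127488_len]; omega)
  have h : ∀ j < 128512, cert.Holds φ K j := fun j hj =>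
    Cert.blockOK_spec M h proofsB128000_ok j (by rw [proofsB128000_len]; omega)
  have h : ∀ j < 129024, cert.Holds φ K j := fun j hj =>
    Cert.blockOK_spec M h proofsB128512_ok j (by rw [proofsB128512_len]; omega)
  have h : ∀ j < 129536, cert.Holds φ K j := fun j hj =>
    Cert.blockOK_spec M h proofsB129024_ok j (by rw [proofsB129024_len]; omega)
  have h : ∀ j < 130048, cert.Holds φ K j := fun j hj =>
    Cert.blockOK_spec M h proofsB129536_ok j (by rw [proofsB129536_len]; omega)
  have h : ∀ j < 130560, cert.Holds φ K j := fun j hj =>
    Cert.blockOK_spec M h proofsB130048_ok j (by rw [proofsB130048_len]; omega)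
  have h : ∀ j < 131072, cert.Holds φ K j := fun j hj =>
    Cert.blockOK_spec M h proofsB130560_ok j (by rw [proofsB130560_len]; omega)
  have h : ∀ j < 131584, cert.Holds φ K j := fun j hj =>
    Cert.blockOK_spec M h proofsB131072_ok j (by rw [proofsB131072_len]; omega)
  have h : ∀ j < 132096, cert.Holds φ K j := fun j hj =>
    Cert.blockOK_spec M h proofsB131584_ok j (by rw [proofsB131584_len]; omega)
  have h : ∀ j < 132608, cert.Holds φ K j := fun j hj =>
    Cert.blockOK_spec M h proofsB132096_ok j (by rw [proofsB132096_len]; omega)
  have h : ∀ j < 133120, cert.Holds φ K j := fun j hj =>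
    Cert.blockOK_spec M h proofsB132608_ok j (by rw [proofsB132608_len]; omega)
  have h : ∀ j < 133632, cert.Holds φ K j := fun j hj =>
    Cert.blockOK_spec M h proofsB133120_ok j (by rw [proofsB133120_len]; omega)
  have h : ∀ j < 134144, cert.Holds φ K j := fun j hj =>
    Cert.blockOK_spec M h proofsB133632_ok j (by rw [proofsB133632_len]; omega)
  have h : ∀ j < 134656, cert.Holds φ K j := fun j hj =>
    Cert.blockOK_spec M h proofsB134144_ok j (by rw [proofsB134144_len]; omega)
  have h : ∀ j < 135168, cert.Holds φ K j := fun j hj =>
    Cert.blockOK_spec M h proofsB134656_ok j (by rw [proofsB134656_len]; omega)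
  have h : ∀ j < 135680, cert.Holds φ K j := fun j hj =>
    Cert.blockOK_spec M h proofsB135168_ok j (by rw [proofsB135168_len]; omega)
  have h : ∀ j < 136192, cert.Holds φ K j := fun j hj =>
    Cert.blockOK_spec M h proofsB135680_ok j (by rw [proofsB135680_len]; omega)
  have h : ∀ j < 136704, cert.Holds φ K j := fun j hj =>
    Cert.blockOK_spec M h proofsB136192_ok j (by rw [proofsB136192_len]; omega)
  have h : ∀ j < 137216, cert.Holds φ K j := fun j hj =>
    Cert.blockOK_spec M h proofsB136704_ok j (by rw [proofsB136704_len]; omega)
  have h : ∀ j < 137728, cert.Holds φ K j := fun j hj =>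
    Cert.blockOK_spec M h proofsB137216_ok j (by rw [proofsB137216_len]; omega)
  have h : ∀ j < 138240, cert.Holds φ K j := fun j hj =>
    Cert.blockOK_spec M h proofsB137728_ok j (by rw [proofsB137728_len]; omega)
  have h : ∀ j < 138752, cert.Holds φ K j := fun j hj =>
    Cert.blockOK_spec M h proofsB138240_ok j (by rw [proofsB138240_len]; omega)
  have h : ∀ j < 139264, cert.Holds φ K j := fun j hj =>
    Cert.blockOK_spec M h proofsB138752_ok j (by rw [proofsB138752_len]; omega)
  have h : ∀ j < 139776, cert.Holds φ K j := fun j hj =>
    Cert.blockOK_spec M h proofsB139264_ok j (by rw [proofsB139264_len]; omega)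
  have h : ∀ j < 140288, cert.Holds φ K j := fun j hj =>
    Cert.blockOK_spec M h proofsB139776_ok j (by rw [proofsB139776_len]; omega)
  have h : ∀ j < 140800, cert.Holds φ K j := fun j hj =>
    Cert.blockOK_spec M h proofsB140288_ok j (by rw [proofsB140288_len]; omega)
  have h : ∀ j < 141312, cert.Holds φ K j := fun j hj =>
    Cert.blockOK_spec M h proofsB140800_ok j (by rw [proofsB140800_len]; omega)
  have h : ∀ j < 141824, cert.Holds φ K j := fun j hj =>
    Cert.blockOK_spec M h proofsB141312_ok j (by rw [proofsB141312_len]; omega)
  have h : ∀ j < 142336, cert.Holds φ K j := fun j hj =>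
    Cert.blockOK_spec M h proofsB141824_ok j (by rw [proofsB141824_len]; omega)
  have h : ∀ j < 142848, cert.Holds φ K j := fun j hj =>
    Cert.blockOK_spec M h proofsB142336_ok j (by rw [proofsB142336_len]; omega)
  have h : ∀ j < 143360, cert.Holds φ K j := fun j hj =>
    Cert.blockOK_spec M h proofsB142848_ok j (by rw [proofsB142848_len]; omega)
  have h : ∀ j < 143872, cert.Holds φ K j := fun j hj =>
    Cert.blockOK_spec M h proofsB143360_ok j (by rw [proofsB143360_len]; omega)
  have h : ∀ j < 144384, cert.Holds φ K j := fun j hj =>
    Cert.blockOK_spec M h proofsB143872_ok j (by rw [proofsB143872_len]; omega)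
  have h : ∀ j < 144896, cert.Holds φ K j := fun j hj =>
    Cert.blockOK_spec M h proofsB144384_ok j (by rw [proofsB144384_len]; omega)
  have h : ∀ j < 145408, cert.Holds φ K j := fun j hj =>
    Cert.blockOK_spec M h proofsB144896_ok j (by rw [proofsB144896_len]; omega)
  have h : ∀ j < 145920, cert.Holds φ K j := fun j hj =>
    Cert.blockOK_spec M h proofsB145408_ok j (by rw [proofsB145408_len]; omega)
  have h : ∀ j < 146432, cert.Holds φ K j := fun j hj =>
    Cert.blockOK_spec M h proofsB145920_ok j (by rw [proofsB145920_len]; omega)
  have h : ∀ j < 146944, cert.Holds φ K j := fun j hj =>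
    Cert.blockOK_spec M h proofsB146432_ok j (by rw [proofsB146432_len]; omega)
  have h : ∀ j < 147456, cert.Holds φ K j := fun j hj =>
    Cert.blockOK_spec M h proofsB146944_ok j (by rw [proofsB146944_len]; omega)
  have h : ∀ j < 147968, cert.Holds φ K j := fun j hj =>
    Cert.blockOK_spec M h proofsB147456_ok j (by rw [proofsB147456_len]; omega)
  have h : ∀ j < 148480, cert.Holds φ K j := fun j hj =>
    Cert.blockOK_spec M h proofsB147968_ok j (by rw [proofsB147968_len]; omega)
  have h : ∀ j < 148992, cert.Holds φ K j := fun j hj =>
    Cert.blockOK_spec M h proofsB148480_ok j (by rw [proofsB148480_len]; omega)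
  have h : ∀ j < 149504, cert.Holds φ K j := fun j hj =>
    Cert.blockOK_spec M h proofsB148992_ok j (by rw [proofsB148992_len]; omega)
  have h : ∀ j < 150016, cert.Holds φ K j := fun j hj =>
    Cert.blockOK_spec M h proofsB149504_ok j (by rw [proofsB149504_len]; omega)
  have h : ∀ j < 150528, cert.Holds φ K j := fun j hj =>
    Cert.blockOK_spec M h proofsB150016_ok j (by rw [proofsB150016_len]; omega)
  have h : ∀ j < 151040, cert.Holds φ K j := fun j hj =>
    Cert.blockOK_spec M h proofsB150528_ok j (by rw [proofsB150528_len]; omega)
  have h : ∀ j < 151552, cert.Holds φ K j := fun j hj =>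
    Cert.blockOK_spec M h proofsB151040_ok j (by rw [proofsB151040_len]; omega)
  have h : ∀ j < 152064, cert.Holds φ K j := fun j hj =>
    Cert.blockOK_spec M h proofsB151552_ok j (by rw [proofsB151552_len]; omega)
  have h : ∀ j < 152576, cert.Holds φ K j := fun j hj =>
    Cert.blockOK_spec M h proofsB152064_ok j (by rw [proofsB152064_len]; omega)
  have h : ∀ j < 153088, cert.Holds φ K j := fun j hj =>
    Cert.blockOK_spec M h proofsB152576_ok j (by rw [proofsB152576_len]; omega)
  have h : ∀ j < 153600, cert.Holds φ K j := fun j hj =>
    Cert.blockOK_spec M h proofsB153088_ok j (by rw [proofsB153088_len]; omega)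
  have h : ∀ j < 154112, cert.Holds φ K j := fun j hj =>
    Cert.blockOK_spec M h proofsB153600_ok j (by rw [proofsB153600_len]; omega)
  have h : ∀ j < 154624, cert.Holds φ K j := fun j hj =>
    Cert.blockOK_spec M h proofsB154112_ok j (by rw [proofsB154112_len]; omega)
  have h : ∀ j < 155136, cert.Holds φ K j := fun j hj =>
    Cert.blockOK_spec M h proofsB154624_ok j (by rw [proofsB154624_len]; omega)
  have h : ∀ j < 155648, cert.Holds φ K j := fun j hj =>
    Cert.blockOK_spec M h proofsB155136_ok j (by rw [proofsB155136_len]; omega)
  have h : ∀ j < 156160, cert.Holds φ K j := fun j hj =>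
    Cert.blockOK_spec M h proofsB155648_ok j (by rw [proofsB155648_len]; omega)
  have h : ∀ j < 156672, cert.Holds φ K j := fun j hj =>
    Cert.blockOK_spec M h proofsB156160_ok j (by rw [proofsB156160_len]; omega)
  have h : ∀ j < 157184, cert.Holds φ K j := fun j hj =>
    Cert.blockOK_spec M h proofsB156672_ok j (by rw [proofsB156672_len]; omega)
  have h : ∀ j < 157696, cert.Holds φ K j := fun j hj =>
    Cert.blockOK_spec M h proofsB157184_ok j (by rw [proofsB157184_len]; omega)
  have h : ∀ j < 158208, cert.Holds φ K j := fun j hj =>
    Cert.blockOK_spec M h proofsB157696_ok j (by rw [proofsB157696_len]; omega)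
  have h : ∀ j < 158720, cert.Holds φ K j := fun j hj =>
    Cert.blockOK_spec M h proofsB158208_ok j (by rw [proofsB158208_len]; omega)
  have h : ∀ j < 159232, cert.Holds φ K j := fun j hj =>
    Cert.blockOK_spec M h proofsB158720_ok j (by rw [proofsB158720_len]; omega)
  have h : ∀ j < 159744, cert.Holds φ K j := fun j hj =>
    Cert.blockOK_spec M h proofsB159232_ok j (by rw [proofsB159232_len]; omega)
  have h : ∀ j < 160256, cert.Holds φ K j := fun j hj =>
    Cert.blockOK_spec M h proofsB159744_ok j (by rw [proofsB159744_len]; omega)
  have h : ∀ j < 160768, cert.Holds φ K j := fun j hj =>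
    Cert.blockOK_spec M h proofsB160256_ok j (by rw [proofsB160256_len]; omega)
  have h : ∀ j < 161280, cert.Holds φ K j := fun j hj =>
    Cert.blockOK_spec M h proofsB160768_ok j (by rw [proofsB160768_len]; omega)
  have h : ∀ j < 161792, cert.Holds φ K j := fun j hj =>
    Cert.blockOK_spec M h proofsB161280_ok j (by rw [proofsB161280_len]; omega)
  have h : ∀ j < 162304, cert.Holds φ K j := fun j hj =>
    Cert.blockOK_spec M h proofsB161792_ok j (by rw [proofsB161792_len]; omega)
  have h : ∀ j < 162816, cert.Holds φ K j := fun j hj =>
    Cert.blockOK_spec M h proofsB162304_ok j (by rw [proofsB162304_len]; omega)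
  have h : ∀ j < 163328, cert.Holds φ K j := fun j hj =>
    Cert.blockOK_spec M h proofsB162816_ok j (by rw [proofsB162816_len]; omega)
  have h : ∀ j < 163840, cert.Holds φ K j := fun j hj =>
    Cert.blockOK_spec M h proofsB163328_ok j (by rw [proofsB163328_len]; omega)
  have h : ∀ j < 164352, cert.Holds φ K j := fun j hj =>
    Cert.blockOK_spec M h proofsB163840_ok j (by rw [proofsB163840_len]; omega)
  have h : ∀ j < 164864, cert.Holds φ K j := fun j hj =>
    Cert.blockOK_spec M h proofsB164352_ok j (by rw [proofsB164352_len]; omega)
  have h : ∀ j < 165376, cert.Holds φ K j := fun j hj =>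
    Cert.blockOK_spec M h proofsB164864_ok j (by rw [proofsB164864_len]; omega)
  have h : ∀ j < 165888, cert.Holds φ K j := fun j hj =>
    Cert.blockOK_spec M h proofsB165376_ok j (by rw [proofsB165376_len]; omega)
  have h : ∀ j < 166400, cert.Holds φ K j := fun j hj =>
    Cert.blockOK_spec M h proofsB165888_ok j (by rw [proofsB165888_len]; omega)
  have h : ∀ j < 166912, cert.Holds φ K j := fun j hj =>
    Cert.blockOK_spec M h proofsB166400_ok j (by rw [proofsB166400_len]; omega)
  have h : ∀ j < 167424, cert.Holds φ K j := fun j hj =>
    Cert.blockOK_spec M h proofsB166912_ok j (by rw [proofsB166912_len]; omega)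
  have h : ∀ j < 167936, cert.Holds φ K j := fun j hj =>
    Cert.blockOK_spec M h proofsB167424_ok j (by rw [proofsB167424_len]; omega)
  have h : ∀ j < 168448, cert.Holds φ K j := fun j hj =>
    Cert.blockOK_spec M h proofsB167936_ok j (by rw [proofsB167936_len]; omega)
  have h : ∀ j < 168960, cert.Holds φ K j := fun j hj =>
    Cert.blockOK_spec M h proofsB168448_ok j (by rw [proofsB168448_len]; omega)
  have h : ∀ j < 169472, cert.Holds φ K j := fun j hj =>
    Cert.blockOK_spec M h proofsB168960_ok j (by rw [proofsB168960_len]; omega)
  have h : ∀ j < 169984, cert.Holds φ K j := fun j hj =>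
    Cert.blockOK_spec M h proofsB169472_ok j (by rw [proofsB169472_len]; omega)
  have h : ∀ j < 170496, cert.Holds φ K j := fun j hj =>
    Cert.blockOK_spec M h proofsB169984_ok j (by rw [proofsB169984_len]; omega)
  have h : ∀ j < 171008, cert.Holds φ K j := fun j hj =>
    Cert.blockOK_spec M h proofsB170496_ok j (by rw [proofsB170496_len]; omega)
  have h : ∀ j < 171520, cert.Holds φ K j := fun j hj =>
    Cert.blockOK_spec M h proofsB171008_ok j (by rw [proofsB171008_len]; omega)
  have h : ∀ j < 172032, cert.Holds φ K j := fun j hj =>
    Cert.blockOK_spec M h proofsB171520_ok j (by rw [proofsB171520_len]; omega)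
  have h : ∀ j < 172544, cert.Holds φ K j := fun j hj =>
    Cert.blockOK_spec M h proofsB172032_ok j (by rw [proofsB172032_len]; omega)
  have h : ∀ j < 173056, cert.Holds φ K j := fun j hj =>
    Cert.blockOK_spec M h proofsB172544_ok j (by rw [proofsB172544_len]; omega)
  have h : ∀ j < 173568, cert.Holds φ K j := fun j hj =>
    Cert.blockOK_spec M h proofsB173056_ok j (by rw [proofsB173056_len]; omega)
  have h : ∀ j < 174080, cert.Holds φ K j := fun j hj =>
    Cert.blockOK_spec M h proofsB173568_ok j (by rw [proofsB173568_len]; omega)
  have h : ∀ j < 174592, cert.Holds φ K j := fun j hj =>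
    Cert.blockOK_spec M h proofsB174080_ok j (by rw [proofsB174080_len]; omega)
  have h : ∀ j < 175104, cert.Holds φ K j := fun j hj =>
    Cert.blockOK_spec M h proofsB174592_ok j (by rw [proofsB174592_len]; omega)
  have h : ∀ j < 175616, cert.Holds φ K j := fun j hj =>
    Cert.blockOK_spec M h proofsB175104_ok j (by rw [proofsB175104_len]; omega)
  have h : ∀ j < 176128, cert.Holds φ K j := fun j hj =>
    Cert.blockOK_spec M h proofsB175616_ok j (by rw [proofsB175616_len]; omega)
  have h : ∀ j < 176640, cert.Holds φ K j := fun j hj =>
    Cert.blockOK_spec M h proofsB176128_ok j (by rw [proofsB176128_len]; omega)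
  have h : ∀ j < 177152, cert.Holds φ K j := fun j hj =>
    Cert.blockOK_spec M h proofsB176640_ok j (by rw [proofsB176640_len]; omega)
  have h : ∀ j < 177664, cert.Holds φ K j := fun j hj =>
    Cert.blockOK_spec M h proofsB177152_ok j (by rw [proofsB177152_len]; omega)
  have h : ∀ j < 178176, cert.Holds φ K j := fun j hj =>
    Cert.blockOK_spec M h proofsB177664_ok j (by rw [proofsB177664_len]; omega)
  have h : ∀ j < 178688, cert.Holds φ K j := fun j hj =>
    Cert.blockOK_spec M h proofsB178176_ok j (by rw [proofsB178176_len]; omega)
  have h : ∀ j < 179200, cert.Holds φ K j := fun j hj =>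
    Cert.blockOK_spec M h proofsB178688_ok j (by rw [proofsB178688_len]; omega)
  have h : ∀ j < 179712, cert.Holds φ K j := fun j hj =>
    Cert.blockOK_spec M h proofsB179200_ok j (by rw [proofsB179200_len]; omega)
  have h : ∀ j < 180224, cert.Holds φ K j := fun j hj =>
    Cert.blockOK_spec M h proofsB179712_ok j (by rw [proofsB179712_len]; omega)
  have h : ∀ j < 180736, cert.Holds φ K j := fun j hj =>
    Cert.blockOK_spec M h proofsB180224_ok j (by rw [proofsB180224_len]; omega)
  have h : ∀ j < 181248, cert.Holds φ K j := fun j hj =>
    Cert.blockOK_spec M h proofsB180736_ok j (by rw [proofsB180736_len]; omega)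
  have h : ∀ j < 181760, cert.Holds φ K j := fun j hj =>
    Cert.blockOK_spec M h proofsB181248_ok j (by rw [proofsB181248_len]; omega)
  have h : ∀ j < 182272, cert.Holds φ K j := fun j hj =>
    Cert.blockOK_spec M h proofsB181760_ok j (by rw [proofsB181760_len]; omega)
  have h : ∀ j < 182784, cert.Holds φ K j := fun j hj =>
    Cert.blockOK_spec M h proofsB182272_ok j (by rw [proofsB182272_len]; omega)
  have h : ∀ j < 183296, cert.Holds φ K j := fun j hj =>
    Cert.blockOK_spec M h proofsB182784_ok j (by rw [proofsB182784_len]; omega)
  have h : ∀ j < 183808, cert.Holds φ K j := fun j hj =>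
    Cert.blockOK_spec M h proofsB183296_ok j (by rw [proofsB183296_len]; omega)
  have h : ∀ j < 184320, cert.Holds φ K j := fun j hj =>
    Cert.blockOK_spec M h proofsB183808_ok j (by rw [proofsB183808_len]; omega)
  have h : ∀ j < 184832, cert.Holds φ K j := fun j hj =>
    Cert.blockOK_spec M h proofsB184320_ok j (by rw [proofsB184320_len]; omega)
  have h : ∀ j < 185344, cert.Holds φ K j := fun j hj =>
    Cert.blockOK_spec M h proofsB184832_ok j (by rw [proofsB184832_len]; omega)
  have h : ∀ j < 185856, cert.Holds φ K j := fun j hj =>
    Cert.blockOK_spec M h proofsB185344_ok j (by rw [proofsB185344_len]; omega)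
  have h : ∀ j < 186368, cert.Holds φ K j := fun j hj =>
    Cert.blockOK_spec M h proofsB185856_ok j (by rw [proofsB185856_len]; omega)
  have h : ∀ j < 186880, cert.Holds φ K j := fun j hj =>
    Cert.blockOK_spec M h proofsB186368_ok j (by rw [proofsB186368_len]; omega)
  have h : ∀ j < 187392, cert.Holds φ K j := fun j hj =>
    Cert.blockOK_spec M h proofsB186880_ok j (by rw [proofsB186880_len]; omega)
  have h : ∀ j < 187904, cert.Holds φ K j := fun j hj =>
    Cert.blockOK_spec M h proofsB187392_ok j (by rw [proofsB187392_len]; omega)
  have h : ∀ j < 188416, cert.Holds φ K j := fun j hj =>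
    Cert.blockOK_spec M h proofsB187904_ok j (by rw [proofsB187904_len]; omega)
  have h : ∀ j < 188928, cert.Holds φ K j := fun j hj =>
    Cert.blockOK_spec M h proofsB188416_ok j (by rw [proofsB188416_len]; omega)
  have h : ∀ j < 189440, cert.Holds φ K j := fun j hj =>
    Cert.blockOK_spec M h proofsB188928_ok j (by rw [proofsB188928_len]; omega)
  have h : ∀ j < 189952, cert.Holds φ K j := fun j hj =>
    Cert.blockOK_spec M h proofsB189440_ok j (by rw [proofsB189440_len]; omega)
  have h : ∀ j < 190464, cert.Holds φ K j := fun j hj =>
    Cert.blockOK_spec M h proofsB189952_ok j (by rw [proofsB189952_len]; omega)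
  have h : ∀ j < 190976, cert.Holds φ K j := fun j hj =>
    Cert.blockOK_spec M h proofsB190464_ok j (by rw [proofsB190464_len]; omega)
  have h : ∀ j < 191488, cert.Holds φ K j := fun j hj =>
    Cert.blockOK_spec M h proofsB190976_ok j (by rw [proofsB190976_len]; omega)
  have h : ∀ j < 192000, cert.Holds φ K j := fun j hj =>
    Cert.blockOK_spec M h proofsB191488_ok j (by rw [proofsB191488_len]; omega)
  have h : ∀ j < 192512, cert.Holds φ K j := fun j hj =>
    Cert.blockOK_spec M h proofsB192000_ok j (by rw [proofsB192000_len]; omega)
  have h : ∀ j < 193024, cert.Holds φ K j := fun j hj =>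
    Cert.blockOK_spec M h proofsB192512_ok j (by rw [proofsB192512_len]; omega)
  have h : ∀ j < 193536, cert.Holds φ K j := fun j hj =>
    Cert.blockOK_spec M h proofsB193024_ok j (by rw [proofsB193024_len]; omega)
  have h : ∀ j < 194048, cert.Holds φ K j := fun j hj =>
    Cert.blockOK_spec M h proofsB193536_ok j (by rw [proofsB193536_len]; omega)
  have h : ∀ j < 194560, cert.Holds φ K j := fun j hj =>
    Cert.blockOK_spec M h proofsB194048_ok j (by rw [proofsB194048_len]; omega)
  have h : ∀ j < 195072, cert.Holds φ K j := fun j hj =>
    Cert.blockOK_spec M h proofsB194560_ok j (by rw [proofsB194560_len]; omega)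
  have h : ∀ j < 195584, cert.Holds φ K j := fun j hj =>
    Cert.blockOK_spec M h proofsB195072_ok j (by rw [proofsB195072_len]; omega)
  have h : ∀ j < 196096, cert.Holds φ K j := fun j hj =>
    Cert.blockOK_spec M h proofsB195584_ok j (by rw [proofsB195584_len]; omega)
  have h : ∀ j < 196608, cert.Holds φ K j := fun j hj =>
    Cert.blockOK_spec M h proofsB196096_ok j (by rw [proofsB196096_len]; omega)
  have h : ∀ j < 197120, cert.Holds φ K j := fun j hj =>
    Cert.blockOK_spec M h proofsB196608_ok j (by rw [proofsB196608_len]; omega)
  have h : ∀ j < 197632, cert.Holds φ K j := fun j hj =>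
    Cert.blockOK_spec M h proofsB197120_ok j (by rw [proofsB197120_len]; omega)
  have h : ∀ j < 198144, cert.Holds φ K j := fun j hj =>
    Cert.blockOK_spec M h proofsB197632_ok j (by rw [proofsB197632_len]; omega)
  have h : ∀ j < 198656, cert.Holds φ K j := fun j hj =>
    Cert.blockOK_spec M h proofsB198144_ok j (by rw [proofsB198144_len]; omega)
  have h : ∀ j < 199168, cert.Holds φ K j := fun j hj =>
    Cert.blockOK_spec M h proofsB198656_ok j (by rw [proofsB198656_len]; omega)
  have h : ∀ j < 199680, cert.Holds φ K j := fun j hj =>
    Cert.blockOK_spec M h proofsB199168_ok j (by rw [proofsB199168_len]; omega)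
  have h : ∀ j < 200192, cert.Holds φ K j := fun j hj =>
    Cert.blockOK_spec M h proofsB199680_ok j (by rw [proofsB199680_len]; omega)
  have h : ∀ j < 200704, cert.Holds φ K j := fun j hj =>
    Cert.blockOK_spec M h proofsB200192_ok j (by rw [proofsB200192_len]; omega)
  have h : ∀ j < 201216, cert.Holds φ K j := fun j hj =>
    Cert.blockOK_spec M h proofsB200704_ok j (by rw [proofsB200704_len]; omega)
  have h : ∀ j < 201728, cert.Holds φ K j := fun j hj =>
    Cert.blockOK_spec M h proofsB201216_ok j (by rw [proofsB201216_len]; omega)
  have h : ∀ j < 202240, cert.Holds φ K j := fun j hj =>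
    Cert.blockOK_spec M h proofsB201728_ok j (by rw [proofsB201728_len]; omega)
  have h : ∀ j < 202752, cert.Holds φ K j := fun j hj =>
    Cert.blockOK_spec M h proofsB202240_ok j (by rw [proofsB202240_len]; omega)
  have h : ∀ j < 203264, cert.Holds φ K j := fun j hj =>
    Cert.blockOK_spec M h proofsB202752_ok j (by rw [proofsB202752_len]; omega)
  have h : ∀ j < 203776, cert.Holds φ K j := fun j hj =>
    Cert.blockOK_spec M h proofsB203264_ok j (by rw [proofsB203264_len]; omega)
  have h : ∀ j < 204288, cert.Holds φ K j := fun j hj =>
    Cert.blockOK_spec M h proofsB203776_ok j (by rw [proofsB203776_len]; omega)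
  have h : ∀ j < 204800, cert.Holds φ K j := fun j hj =>
    Cert.blockOK_spec M h proofsB204288_ok j (by rw [proofsB204288_len]; omega)
  have h : ∀ j < 205312, cert.Holds φ K j := fun j hj =>
    Cert.blockOK_spec M h proofsB204800_ok j (by rw [proofsB204800_len]; omega)
  have h : ∀ j < 205824, cert.Holds φ K j := fun j hj =>
    Cert.blockOK_spec M h proofsB205312_ok j (by rw [proofsB205312_len]; omega)
  have h : ∀ j < 206336, cert.Holds φ K j := fun j hj =>
    Cert.blockOK_spec M h proofsB205824_ok j (by rw [proofsB205824_len]; omega)
  have h : ∀ j < 206848, cert.Holds φ K j := fun j hj =>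
    Cert.blockOK_spec M h proofsB206336_ok j (by rw [proofsB206336_len]; omega)
  have h : ∀ j < 207360, cert.Holds φ K j := fun j hj =>
    Cert.blockOK_spec M h proofsB206848_ok j (by rw [proofsB206848_len]; omega)
  have h : ∀ j < 207872, cert.Holds φ K j := fun j hj =>
    Cert.blockOK_spec M h proofsB207360_ok j (by rw [proofsB207360_len]; omega)
  have h : ∀ j < 208384, cert.Holds φ K j := fun j hj =>
    Cert.blockOK_spec M h proofsB207872_ok j (by rw [proofsB207872_len]; omega)
  have h : ∀ j < 208896, cert.Holds φ K j := fun j hj =>
    Cert.blockOK_spec M h proofsB208384_ok j (by rw [proofsB208384_len]; omega)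
  have h : ∀ j < 209408, cert.Holds φ K j := fun j hj =>
    Cert.blockOK_spec M h proofsB208896_ok j (by rw [proofsB208896_len]; omega)
  have h : ∀ j < 209920, cert.Holds φ K j := fun j hj =>
    Cert.blockOK_spec M h proofsB209408_ok j (by rw [proofsB209408_len]; omega)
  have h : ∀ j < 210432, cert.Holds φ K j := fun j hj =>
    Cert.blockOK_spec M h proofsB209920_ok j (by rw [proofsB209920_len]; omega)
  have h : ∀ j < 210944, cert.Holds φ K j := fun j hj =>
    Cert.blockOK_spec M h proofsB210432_ok j (by rw [proofsB210432_len]; omega)
  have h : ∀ j < 211456, cert.Holds φ K j := fun j hj =>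
    Cert.blockOK_spec M h proofsB210944_ok j (by rw [proofsB210944_len]; omega)
  have h : ∀ j < 211968, cert.Holds φ K j := fun j hj =>
    Cert.blockOK_spec M h proofsB211456_ok j (by rw [proofsB211456_len]; omega)
  have h : ∀ j < 212480, cert.Holds φ K j := fun j hj =>
    Cert.blockOK_spec M h proofsB211968_ok j (by rw [proofsB211968_len]; omega)
  have h : ∀ j < 212992, cert.Holds φ K j := fun j hj =>
    Cert.blockOK_spec M h proofsB212480_ok j (by rw [proofsB212480_len]; omega)
  have h : ∀ j < 213504, cert.Holds φ K j := fun j hj =>
    Cert.blockOK_spec M h proofsB212992_ok j (by rw [proofsB212992_len]; omega)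
  have h : ∀ j < 214016, cert.Holds φ K j := fun j hj =>
    Cert.blockOK_spec M h proofsB213504_ok j (by rw [proofsB213504_len]; omega)
  have h : ∀ j < 214528, cert.Holds φ K j := fun j hj =>
    Cert.blockOK_spec M h proofsB214016_ok j (by rw [proofsB214016_len]; omega)
  have h : ∀ j < 215040, cert.Holds φ K j := fun j hj =>
    Cert.blockOK_spec M h proofsB214528_ok j (by rw [proofsB214528_len]; omega)
  have h : ∀ j < 215552, cert.Holds φ K j := fun j hj =>
    Cert.blockOK_spec M h proofsB215040_ok j (by rw [proofsB215040_len]; omega)
  have h : ∀ j < 216064, cert.Holds φ K j := fun j hj =>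
    Cert.blockOK_spec M h proofsB215552_ok j (by rw [proofsB215552_len]; omega)
  have h : ∀ j < 216576, cert.Holds φ K j := fun j hj =>
    Cert.blockOK_spec M h proofsB216064_ok j (by rw [proofsB216064_len]; omega)
  have h : ∀ j < 217088, cert.Holds φ K j := fun j hj =>
    Cert.blockOK_spec M h proofsB216576_ok j (by rw [proofsB216576_len]; omega)
  have h : ∀ j < 217600, cert.Holds φ K j := fun j hj =>
    Cert.blockOK_spec M h proofsB217088_ok j (by rw [proofsB217088_len]; omega)
  have h : ∀ j < 218112, cert.Holds φ K j := fun j hj =>
    Cert.blockOK_spec M h proofsB217600_ok j (by rw [proofsB217600_len]; omega)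
  have h : ∀ j < 218624, cert.Holds φ K j := fun j hj =>
    Cert.blockOK_spec M h proofsB218112_ok j (by rw [proofsB218112_len]; omega)
  have h : ∀ j < 219136, cert.Holds φ K j := fun j hj =>
    Cert.blockOK_spec M h proofsB218624_ok j (by rw [proofsB218624_len]; omega)
  have h : ∀ j < 219648, cert.Holds φ K j := fun j hj =>
    Cert.blockOK_spec M h proofsB219136_ok j (by rw [proofsB219136_len]; omega)
  have h : ∀ j < 220160, cert.Holds φ K j := fun j hj =>
    Cert.blockOK_spec M h proofsB219648_ok j (by rw [proofsB219648_len]; omega)
  have h : ∀ j < 220672, cert.Holds φ K j := fun j hj =>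
    Cert.blockOK_spec M h proofsB220160_ok j (by rw [proofsB220160_len]; omega)
  have h : ∀ j < 221184, cert.Holds φ K j := fun j hj =>
    Cert.blockOK_spec M h proofsB220672_ok j (by rw [proofsB220672_len]; omega)
  have h : ∀ j < 221696, cert.Holds φ K j := fun j hj =>
    Cert.blockOK_spec M h proofsB221184_ok j (by rw [proofsB221184_len]; omega)
  have h : ∀ j < 222208, cert.Holds φ K j := fun j hj =>
    Cert.blockOK_spec M h proofsB221696_ok j (by rw [proofsB221696_len]; omega)
  have h : ∀ j < 222720, cert.Holds φ K j := fun j hj =>
    Cert.blockOK_spec M h proofsB222208_ok j (by rw [proofsB222208_len]; omega)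
  have h : ∀ j < 223232, cert.Holds φ K j := fun j hj =>
    Cert.blockOK_spec M h proofsB222720_ok j (by rw [proofsB222720_len]; omega)
  have h : ∀ j < 223744, cert.Holds φ K j := fun j hj =>
    Cert.blockOK_spec M h proofsB223232_ok j (by rw [proofsB223232_len]; omega)
  have h : ∀ j < 224256, cert.Holds φ K j := fun j hj =>
    Cert.blockOK_spec M h proofsB223744_ok j (by rw [proofsB223744_len]; omega)
  have h : ∀ j < 224768, cert.Holds φ K j := fun j hj =>
    Cert.blockOK_spec M h proofsB224256_ok j (by rw [proofsB224256_len]; omega)
  have h : ∀ j < 225280, cert.Holds φ K j := fun j hj =>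
    Cert.blockOK_spec M h proofsB224768_ok j (by rw [proofsB224768_len]; omega)
  have h : ∀ j < 225792, cert.Holds φ K j := fun j hj =>
    Cert.blockOK_spec M h proofsB225280_ok j (by rw [proofsB225280_len]; omega)
  have h : ∀ j < 226304, cert.Holds φ K j := fun j hj =>
    Cert.blockOK_spec M h proofsB225792_ok j (by rw [proofsB225792_len]; omega)
  have h : ∀ j < 226816, cert.Holds φ K j := fun j hj =>
    Cert.blockOK_spec M h proofsB226304_ok j (by rw [proofsB226304_len]; omega)
  have h : ∀ j < 227328, cert.Holds φ K j := fun j hj =>
    Cert.blockOK_spec M h proofsB226816_ok j (by rw [proofsB226816_len]; omega)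
  have h : ∀ j < 227840, cert.Holds φ K j := fun j hj =>
    Cert.blockOK_spec M h proofsB227328_ok j (by rw [proofsB227328_len]; omega)
  have h : ∀ j < 228352, cert.Holds φ K j := fun j hj =>
    Cert.blockOK_spec M h proofsB227840_ok j (by rw [proofsB227840_len]; omega)
  have h : ∀ j < 228864, cert.Holds φ K j := fun j hj =>
    Cert.blockOK_spec M h proofsB228352_ok j (by rw [proofsB228352_len]; omega)
  have h : ∀ j < 229376, cert.Holds φ K j := fun j hj =>
    Cert.blockOK_spec M h proofsB228864_ok j (by rw [proofsB228864_len]; omega)
  have h : ∀ j < 229888, cert.Holds φ K j := fun j hj =>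
    Cert.blockOK_spec M h proofsB229376_ok j (by rw [proofsB229376_len]; omega)
  have h : ∀ j < 230400, cert.Holds φ K j := fun j hj =>
    Cert.blockOK_spec M h proofsB229888_ok j (by rw [proofsB229888_len]; omega)
  have h : ∀ j < 230912, cert.Holds φ K j := fun j hj =>
    Cert.blockOK_spec M h proofsB230400_ok j (by rw [proofsB230400_len]; omega)
  have h : ∀ j < 230936, cert.Holds φ K j := fun j hj =>
    Cert.blockOK_spec M h proofsB230912_ok j (by rw [proofsB230912_len]; omega)
  exact h

theorem edges_hold (M : Cert.Model cert φ K) :
    ∀ e < 316710, cert.EdgeHolds φ K tab ord (e / tab.gens) (e % tab.gens) := by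
  intro e he
  by_cases h0 : e < 512
  · exact Cert.edgesOK_spec M (facts_hold M) proofsE0_ok e (by omega) (by rw [proofsE0_len]; omega)
  by_cases h512 : e < 1024
  · exact Cert.edgesOK_spec M (facts_hold M) proofsE512_ok e (by omega) (by rw [proofsE512_len]; omega)
  by_cases h1024 : e < 1536
  · exact Cert.edgesOK_spec M (facts_hold M) proofsE1024_ok e (by omega) (by rw [proofsE1024_len]; omega)
  by_cases h1536 : e < 2048
  · exact Cert.edgesOK_spec M (facts_hold M) proofsE1536_ok e (by omega) (by rw [proofsE1536_len]; omega)
  by_cases h2048 : e < 2560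
  · exact Cert.edgesOK_spec M (facts_hold M) proofsE2048_ok e (by omega) (by rw [proofsE2048_len]; omega)
  by_cases h2560 : e < 3072
  · exact Cert.edgesOK_spec M (facts_hold M) proofsE2560_ok e (by omega) (by rw [proofsE2560_len]; omega)
  by_cases h3072 : e < 3584
  · exact Cert.edgesOK_spec M (facts_hold M) proofsE3072_ok e (by omega) (by rw [proofsE3072_len]; omega)
  by_cases h3584 : e < 4096
  · exact Cert.edgesOK_spec M (facts_hold M) proofsE3584_ok e (by omega) (by rw [proofsE3584_len]; omega)
  by_cases h4096 : e < 4608
  · exact Cert.edgesOK_spec M (facts_hold M) proofsE4096_ok e (by omega) (by rw [proofsE4096_len]; omega)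
  by_cases h4608 : e < 5120
  · exact Cert.edgesOK_spec M (facts_hold M) proofsE4608_ok e (by omega) (by rw [proofsE4608_len]; omega)
  by_cases h5120 : e < 5632
  · exact Cert.edgesOK_spec M (facts_hold M) proofsE5120_ok e (by omega) (by rw [proofsE5120_len]; omega)
  by_cases h5632 : e < 6144
  · exact Cert.edgesOK_spec M (facts_hold M) proofsE5632_ok e (by omega) (by rw [proofsE5632_len]; omega)
  by_cases h6144 : e < 6656
  · exact Cert.edgesOK_spec M (facts_hold M) proofsE6144_ok e (by omega) (by rw [proofsE6144_len]; omega)
  by_cases h6656 : e < 7168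
  · exact Cert.edgesOK_spec M (facts_hold M) proofsE6656_ok e (by omega) (by rw [proofsE6656_len]; omega)
  by_cases h7168 : e < 7680
  · exact Cert.edgesOK_spec M (facts_hold M) proofsE7168_ok e (by omega) (by rw [proofsE7168_len]; omega)
  by_cases h7680 : e < 8192
  · exact Cert.edgesOK_spec M (facts_hold M) proofsE7680_ok e (by omega) (by rw [proofsE7680_len]; omega)
  by_cases h8192 : e < 8704
  · exact Cert.edgesOK_spec M (facts_hold M) proofsE8192_ok e (by omega) (by rw [proofsE8192_len]; omega)
  by_cases h8704 : e < 9216
  · exact Cert.edgesOK_spec M (facts_hold M) proofsE8704_ok e (by omega) (by rw [proofsE8704_len]; omega)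
  by_cases h9216 : e < 9728
  · exact Cert.edgesOK_spec M (facts_hold M) proofsE9216_ok e (by omega) (by rw [proofsE9216_len]; omega)
  by_cases h9728 : e < 10240
  · exact Cert.edgesOK_spec M (facts_hold M) proofsE9728_ok e (by omega) (by rw [proofsE9728_len]; omega)
  by_cases h10240 : e < 10752
  · exact Cert.edgesOK_spec M (facts_hold M) proofsE10240_ok e (by omega) (by rw [proofsE10240_len]; omega)
  by_cases h10752 : e < 11264
  · exact Cert.edgesOK_spec M (facts_hold M) proofsE10752_ok e (by omega) (by rw [proofsE10752_len]; omega)
  by_cases h11264 : e < 11776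
  · exact Cert.edgesOK_spec M (facts_hold M) proofsE11264_ok e (by omega) (by rw [proofsE11264_len]; omega)
  by_cases h11776 : e < 12288
  · exact Cert.edgesOK_spec M (facts_hold M) proofsE11776_ok e (by omega) (by rw [proofsE11776_len]; omega)
  by_cases h12288 : e < 12800
  · exact Cert.edgesOK_spec M (facts_hold M) proofsE12288_ok e (by omega) (by rw [proofsE12288_len]; omega)
  by_cases h12800 : e < 13312
  · exact Cert.edgesOK_spec M (facts_hold M) proofsE12800_ok e (by omega) (by rw [proofsE12800_len]; omega)
  by_cases h13312 : e < 13824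
  · exact Cert.edgesOK_spec M (facts_hold M) proofsE13312_ok e (by omega) (by rw [proofsE13312_len]; omega)
  by_cases h13824 : e < 14336
  · exact Cert.edgesOK_spec M (facts_hold M) proofsE13824_ok e (by omega) (by rw [proofsE13824_len]; omega)
  by_cases h14336 : e < 14848
  · exact Cert.edgesOK_spec M (facts_hold M) proofsE14336_ok e (by omega) (by rw [proofsE14336_len]; omega)
  by_cases h14848 : e < 15360
  · exact Cert.edgesOK_spec M (facts_hold M) proofsE14848_ok e (by omega) (by rw [proofsE14848_len]; omega)
  by_cases h15360 : e < 15872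
  · exact Cert.edgesOK_spec M (facts_hold M) proofsE15360_ok e (by omega) (by rw [proofsE15360_len]; omega)
  by_cases h15872 : e < 16384
  · exact Cert.edgesOK_spec M (facts_hold M) proofsE15872_ok e (by omega) (by rw [proofsE15872_len]; omega)
  by_cases h16384 : e < 16896
  · exact Cert.edgesOK_spec M (facts_hold M) proofsE16384_ok e (by omega) (by rw [proofsE16384_len]; omega)
  by_cases h16896 : e < 17408
  · exact Cert.edgesOK_spec M (facts_hold M) proofsE16896_ok e (by omega) (by rw [proofsE16896_len]; omega)
  by_cases h17408 : e < 17920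
  · exact Cert.edgesOK_spec M (facts_hold M) proofsE17408_ok e (by omega) (by rw [proofsE17408_len]; omega)
  by_cases h17920 : e < 18432
  · exact Cert.edgesOK_spec M (facts_hold M) proofsE17920_ok e (by omega) (by rw [proofsE17920_len]; omega)
  by_cases h18432 : e < 18944
  · exact Cert.edgesOK_spec M (facts_hold M) proofsE18432_ok e (by omega) (by rw [proofsE18432_len]; omega)
  by_cases h18944 : e < 19456
  · exact Cert.edgesOK_spec M (facts_hold M) proofsE18944_ok e (by omega) (by rw [proofsE18944_len]; omega)
  by_cases h19456 : e < 19968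
  · exact Cert.edgesOK_spec M (facts_hold M) proofsE19456_ok e (by omega) (by rw [proofsE19456_len]; omega)
  by_cases h19968 : e < 20480
  · exact Cert.edgesOK_spec M (facts_hold M) proofsE19968_ok e (by omega) (by rw [proofsE19968_len]; omega)
  by_cases h20480 : e < 20992
  · exact Cert.edgesOK_spec M (facts_hold M) proofsE20480_ok e (by omega) (by rw [proofsE20480_len]; omega)
  by_cases h20992 : e < 21504
  · exact Cert.edgesOK_spec M (facts_hold M) proofsE20992_ok e (by omega) (by rw [proofsE20992_len]; omega)
  by_cases h21504 : e < 22016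
  · exact Cert.edgesOK_spec M (facts_hold M) proofsE21504_ok e (by omega) (by rw [proofsE21504_len]; omega)
  by_cases h22016 : e < 22528
  · exact Cert.edgesOK_spec M (facts_hold M) proofsE22016_ok e (by omega) (by rw [proofsE22016_len]; omega)
  by_cases h22528 : e < 23040
  · exact Cert.edgesOK_spec M (facts_hold M) proofsE22528_ok e (by omega) (by rw [proofsE22528_len]; omega)
  by_cases h23040 : e < 23552
  · exact Cert.edgesOK_spec M (facts_hold M) proofsE23040_ok e (by omega) (by rw [proofsE23040_len]; omega)
  by_cases h23552 : e < 24064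
  · exact Cert.edgesOK_spec M (facts_hold M) proofsE23552_ok e (by omega) (by rw [proofsE23552_len]; omega)
  by_cases h24064 : e < 24576
  · exact Cert.edgesOK_spec M (facts_hold M) proofsE24064_ok e (by omega) (by rw [proofsE24064_len]; omega)
  by_cases h24576 : e < 25088
  · exact Cert.edgesOK_spec M (facts_hold M) proofsE24576_ok e (by omega) (by rw [proofsE24576_len]; omega)
  by_cases h25088 : e < 25600
  · exact Cert.edgesOK_spec M (facts_hold M) proofsE25088_ok e (by omega) (by rw [proofsE25088_len]; omega)
  by_cases h25600 : e < 26112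
  · exact Cert.edgesOK_spec M (facts_hold M) proofsE25600_ok e (by omega) (by rw [proofsE25600_len]; omega)
  by_cases h26112 : e < 26624
  · exact Cert.edgesOK_spec M (facts_hold M) proofsE26112_ok e (by omega) (by rw [proofsE26112_len]; omega)
  by_cases h26624 : e < 27136
  · exact Cert.edgesOK_spec M (facts_hold M) proofsE26624_ok e (by omega) (by rw [proofsE26624_len]; omega)
  by_cases h27136 : e < 27648
  · exact Cert.edgesOK_spec M (facts_hold M) proofsE27136_ok e (by omega) (by rw [proofsE27136_len]; omega)
  by_cases h27648 : e < 28160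
  · exact Cert.edgesOK_spec M (facts_hold M) proofsE27648_ok e (by omega) (by rw [proofsE27648_len]; omega)
  by_cases h28160 : e < 28672
  · exact Cert.edgesOK_spec M (facts_hold M) proofsE28160_ok e (by omega) (by rw [proofsE28160_len]; omega)
  by_cases h28672 : e < 29184
  · exact Cert.edgesOK_spec M (facts_hold M) proofsE28672_ok e (by omega) (by rw [proofsE28672_len]; omega)
  by_cases h29184 : e < 29696
  · exact Cert.edgesOK_spec M (facts_hold M) proofsE29184_ok e (by omega) (by rw [proofsE29184_len]; omega)
  by_cases h29696 : e < 30208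
  · exact Cert.edgesOK_spec M (facts_hold M) proofsE29696_ok e (by omega) (by rw [proofsE29696_len]; omega)
  by_cases h30208 : e < 30720
  · exact Cert.edgesOK_spec M (facts_hold M) proofsE30208_ok e (by omega) (by rw [proofsE30208_len]; omega)
  by_cases h30720 : e < 31232
  · exact Cert.edgesOK_spec M (facts_hold M) proofsE30720_ok e (by omega) (by rw [proofsE30720_len]; omega)
  by_cases h31232 : e < 31744
  · exact Cert.edgesOK_spec M (facts_hold M) proofsE31232_ok e (by omega) (by rw [proofsE31232_len]; omega)
  by_cases h31744 : e < 32256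
  · exact Cert.edgesOK_spec M (facts_hold M) proofsE31744_ok e (by omega) (by rw [proofsE31744_len]; omega)
  by_cases h32256 : e < 32768
  · exact Cert.edgesOK_spec M (facts_hold M) proofsE32256_ok e (by omega) (by rw [proofsE32256_len]; omega)
  by_cases h32768 : e < 33280
  · exact Cert.edgesOK_spec M (facts_hold M) proofsE32768_ok e (by omega) (by rw [proofsE32768_len]; omega)
  by_cases h33280 : e < 33792
  · exact Cert.edgesOK_spec M (facts_hold M) proofsE33280_ok e (by omega) (by rw [proofsE33280_len]; omega)
  by_cases h33792 : e < 34304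
  · exact Cert.edgesOK_spec M (facts_hold M) proofsE33792_ok e (by omega) (by rw [proofsE33792_len]; omega)
  by_cases h34304 : e < 34816
  · exact Cert.edgesOK_spec M (facts_hold M) proofsE34304_ok e (by omega) (by rw [proofsE34304_len]; omega)
  by_cases h34816 : e < 35328
  · exact Cert.edgesOK_spec M (facts_hold M) proofsE34816_ok e (by omega) (by rw [proofsE34816_len]; omega)
  by_cases h35328 : e < 35840
  · exact Cert.edgesOK_spec M (facts_hold M) proofsE35328_ok e (by omega) (by rw [proofsE35328_len]; omega)
  by_cases h35840 : e < 36352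
  · exact Cert.edgesOK_spec M (facts_hold M) proofsE35840_ok e (by omega) (by rw [proofsE35840_len]; omega)
  by_cases h36352 : e < 36864
  · exact Cert.edgesOK_spec M (facts_hold M) proofsE36352_ok e (by omega) (by rw [proofsE36352_len]; omega)
  by_cases h36864 : e < 37376
  · exact Cert.edgesOK_spec M (facts_hold M) proofsE36864_ok e (by omega) (by rw [proofsE36864_len]; omega)
  by_cases h37376 : e < 37888
  · exact Cert.edgesOK_spec M (facts_hold M) proofsE37376_ok e (by omega) (by rw [proofsE37376_len]; omega)
  by_cases h37888 : e < 38400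
  · exact Cert.edgesOK_spec M (facts_hold M) proofsE37888_ok e (by omega) (by rw [proofsE37888_len]; omega)
  by_cases h38400 : e < 38912
  · exact Cert.edgesOK_spec M (facts_hold M) proofsE38400_ok e (by omega) (by rw [proofsE38400_len]; omega)
  by_cases h38912 : e < 39424
  · exact Cert.edgesOK_spec M (facts_hold M) proofsE38912_ok e (by omega) (by rw [proofsE38912_len]; omega)
  by_cases h39424 : e < 39936
  · exact Cert.edgesOK_spec M (facts_hold M) proofsE39424_ok e (by omega) (by rw [proofsE39424_len]; omega)
  by_cases h39936 : e < 40448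
  · exact Cert.edgesOK_spec M (facts_hold M) proofsE39936_ok e (by omega) (by rw [proofsE39936_len]; omega)
  by_cases h40448 : e < 40960
  · exact Cert.edgesOK_spec M (facts_hold M) proofsE40448_ok e (by omega) (by rw [proofsE40448_len]; omega)
  by_cases h40960 : e < 41472
  · exact Cert.edgesOK_spec M (facts_hold M) proofsE40960_ok e (by omega) (by rw [proofsE40960_len]; omega)
  by_cases h41472 : e < 41984
  · exact Cert.edgesOK_spec M (facts_hold M) proofsE41472_ok e (by omega) (by rw [proofsE41472_len]; omega)
  by_cases h41984 : e < 42496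
  · exact Cert.edgesOK_spec M (facts_hold M) proofsE41984_ok e (by omega) (by rw [proofsE41984_len]; omega)
  by_cases h42496 : e < 43008
  · exact Cert.edgesOK_spec M (facts_hold M) proofsE42496_ok e (by omega) (by rw [proofsE42496_len]; omega)
  by_cases h43008 : e < 43520
  · exact Cert.edgesOK_spec M (facts_hold M) proofsE43008_ok e (by omega) (by rw [proofsE43008_len]; omega)
  by_cases h43520 : e < 44032
  · exact Cert.edgesOK_spec M (facts_hold M) proofsE43520_ok e (by omega) (by rw [proofsE43520_len]; omega)
  by_cases h44032 : e < 44544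
  · exact Cert.edgesOK_spec M (facts_hold M) proofsE44032_ok e (by omega) (by rw [proofsE44032_len]; omega)
  by_cases h44544 : e < 45056
  · exact Cert.edgesOK_spec M (facts_hold M) proofsE44544_ok e (by omega) (by rw [proofsE44544_len]; omega)
  by_cases h45056 : e < 45568
  · exact Cert.edgesOK_spec M (facts_hold M) proofsE45056_ok e (by omega) (by rw [proofsE45056_len]; omega)
  by_cases h45568 : e < 46080
  · exact Cert.edgesOK_spec M (facts_hold M) proofsE45568_ok e (by omega) (by rw [proofsE45568_len]; omega)
  by_cases h46080 : e < 46592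
  · exact Cert.edgesOK_spec M (facts_hold M) proofsE46080_ok e (by omega) (by rw [proofsE46080_len]; omega)
  by_cases h46592 : e < 47104
  · exact Cert.edgesOK_spec M (facts_hold M) proofsE46592_ok e (by omega) (by rw [proofsE46592_len]; omega)
  by_cases h47104 : e < 47616
  · exact Cert.edgesOK_spec M (facts_hold M) proofsE47104_ok e (by omega) (by rw [proofsE47104_len]; omega)
  by_cases h47616 : e < 48128
  · exact Cert.edgesOK_spec M (facts_hold M) proofsE47616_ok e (by omega) (by rw [proofsE47616_len]; omega)
  by_cases h48128 : e < 48640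
  · exact Cert.edgesOK_spec M (facts_hold M) proofsE48128_ok e (by omega) (by rw [proofsE48128_len]; omega)
  by_cases h48640 : e < 49152
  · exact Cert.edgesOK_spec M (facts_hold M) proofsE48640_ok e (by omega) (by rw [proofsE48640_len]; omega)
  by_cases h49152 : e < 49664
  · exact Cert.edgesOK_spec M (facts_hold M) proofsE49152_ok e (by omega) (by rw [proofsE49152_len]; omega)
  by_cases h49664 : e < 50176
  · exact Cert.edgesOK_spec M (facts_hold M) proofsE49664_ok e (by omega) (by rw [proofsE49664_len]; omega)
  by_cases h50176 : e < 50688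
  · exact Cert.edgesOK_spec M (facts_hold M) proofsE50176_ok e (by omega) (by rw [proofsE50176_len]; omega)
  by_cases h50688 : e < 51200
  · exact Cert.edgesOK_spec M (facts_hold M) proofsE50688_ok e (by omega) (by rw [proofsE50688_len]; omega)
  by_cases h51200 : e < 51712
  · exact Cert.edgesOK_spec M (facts_hold M) proofsE51200_ok e (by omega) (by rw [proofsE51200_len]; omega)
  by_cases h51712 : e < 52224
  · exact Cert.edgesOK_spec M (facts_hold M) proofsE51712_ok e (by omega) (by rw [proofsE51712_len]; omega)
  by_cases h52224 : e < 52736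
  · exact Cert.edgesOK_spec M (facts_hold M) proofsE52224_ok e (by omega) (by rw [proofsE52224_len]; omega)
  by_cases h52736 : e < 53248
  · exact Cert.edgesOK_spec M (facts_hold M) proofsE52736_ok e (by omega) (by rw [proofsE52736_len]; omega)
  by_cases h53248 : e < 53760
  · exact Cert.edgesOK_spec M (facts_hold M) proofsE53248_ok e (by omega) (by rw [proofsE53248_len]; omega)
  by_cases h53760 : e < 54272
  · exact Cert.edgesOK_spec M (facts_hold M) proofsE53760_ok e (by omega) (by rw [proofsE53760_len]; omega)
  by_cases h54272 : e < 54784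
  · exact Cert.edgesOK_spec M (facts_hold M) proofsE54272_ok e (by omega) (by rw [proofsE54272_len]; omega)
  by_cases h54784 : e < 55296
  · exact Cert.edgesOK_spec M (facts_hold M) proofsE54784_ok e (by omega) (by rw [proofsE54784_len]; omega)
  by_cases h55296 : e < 55808
  · exact Cert.edgesOK_spec M (facts_hold M) proofsE55296_ok e (by omega) (by rw [proofsE55296_len]; omega)
  by_cases h55808 : e < 56320
  · exact Cert.edgesOK_spec M (facts_hold M) proofsE55808_ok e (by omega) (by rw [proofsE55808_len]; omega)
  by_cases h56320 : e < 56832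
  · exact Cert.edgesOK_spec M (facts_hold M) proofsE56320_ok e (by omega) (by rw [proofsE56320_len]; omega)
  by_cases h56832 : e < 57344
  · exact Cert.edgesOK_spec M (facts_hold M) proofsE56832_ok e (by omega) (by rw [proofsE56832_len]; omega)
  by_cases h57344 : e < 57856
  · exact Cert.edgesOK_spec M (facts_hold M) proofsE57344_ok e (by omega) (by rw [proofsE57344_len]; omega)
  by_cases h57856 : e < 58368
  · exact Cert.edgesOK_spec M (facts_hold M) proofsE57856_ok e (by omega) (by rw [proofsE57856_len]; omega)
  by_cases h58368 : e < 58880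
  · exact Cert.edgesOK_spec M (facts_hold M) proofsE58368_ok e (by omega) (by rw [proofsE58368_len]; omega)
  by_cases h58880 : e < 59392
  · exact Cert.edgesOK_spec M (facts_hold M) proofsE58880_ok e (by omega) (by rw [proofsE58880_len]; omega)
  by_cases h59392 : e < 59904
  · exact Cert.edgesOK_spec M (facts_hold M) proofsE59392_ok e (by omega) (by rw [proofsE59392_len]; omega)
  by_cases h59904 : e < 60416
  · exact Cert.edgesOK_spec M (facts_hold M) proofsE59904_ok e (by omega) (by rw [proofsE59904_len]; omega)
  by_cases h60416 : e < 60928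
  · exact Cert.edgesOK_spec M (facts_hold M) proofsE60416_ok e (by omega) (by rw [proofsE60416_len]; omega)
  by_cases h60928 : e < 61440
  · exact Cert.edgesOK_spec M (facts_hold M) proofsE60928_ok e (by omega) (by rw [proofsE60928_len]; omega)
  by_cases h61440 : e < 61952
  · exact Cert.edgesOK_spec M (facts_hold M) proofsE61440_ok e (by omega) (by rw [proofsE61440_len]; omega)
  by_cases h61952 : e < 62464
  · exact Cert.edgesOK_spec M (facts_hold M) proofsE61952_ok e (by omega) (by rw [proofsE61952_len]; omega)
  by_cases h62464 : e < 62976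
  · exact Cert.edgesOK_spec M (facts_hold M) proofsE62464_ok e (by omega) (by rw [proofsE62464_len]; omega)
  by_cases h62976 : e < 63488
  · exact Cert.edgesOK_spec M (facts_hold M) proofsE62976_ok e (by omega) (by rw [proofsE62976_len]; omega)
  by_cases h63488 : e < 64000
  · exact Cert.edgesOK_spec M (facts_hold M) proofsE63488_ok e (by omega) (by rw [proofsE63488_len]; omega)
  by_cases h64000 : e < 64512
  · exact Cert.edgesOK_spec M (facts_hold M) proofsE64000_ok e (by omega) (by rw [proofsE64000_len]; omega)
  by_cases h64512 : e < 65024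
  · exact Cert.edgesOK_spec M (facts_hold M) proofsE64512_ok e (by omega) (by rw [proofsE64512_len]; omega)
  by_cases h65024 : e < 65536
  · exact Cert.edgesOK_spec M (facts_hold M) proofsE65024_ok e (by omega) (by rw [proofsE65024_len]; omega)
  by_cases h65536 : e < 66048
  · exact Cert.edgesOK_spec M (facts_hold M) proofsE65536_ok e (by omega) (by rw [proofsE65536_len]; omega)
  by_cases h66048 : e < 66560
  · exact Cert.edgesOK_spec M (facts_hold M) proofsE66048_ok e (by omega) (by rw [proofsE66048_len]; omega)
  by_cases h66560 : e < 67072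
  · exact Cert.edgesOK_spec M (facts_hold M) proofsE66560_ok e (by omega) (by rw [proofsE66560_len]; omega)
  by_cases h67072 : e < 67584
  · exact Cert.edgesOK_spec M (facts_hold M) proofsE67072_ok e (by omega) (by rw [proofsE67072_len]; omega)
  by_cases h67584 : e < 68096
  · exact Cert.edgesOK_spec M (facts_hold M) proofsE67584_ok e (by omega) (by rw [proofsE67584_len]; omega)
  by_cases h68096 : e < 68608
  · exact Cert.edgesOK_spec M (facts_hold M) proofsE68096_ok e (by omega) (by rw [proofsE68096_len]; omega)
  by_cases h68608 : e < 69120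
  · exact Cert.edgesOK_spec M (facts_hold M) proofsE68608_ok e (by omega) (by rw [proofsE68608_len]; omega)
  by_cases h69120 : e < 69632
  · exact Cert.edgesOK_spec M (facts_hold M) proofsE69120_ok e (by omega) (by rw [proofsE69120_len]; omega)
  by_cases h69632 : e < 70144
  · exact Cert.edgesOK_spec M (facts_hold M) proofsE69632_ok e (by omega) (by rw [proofsE69632_len]; omega)
  by_cases h70144 : e < 70656
  · exact Cert.edgesOK_spec M (facts_hold M) proofsE70144_ok e (by omega) (by rw [proofsE70144_len]; omega)
  by_cases h70656 : e < 71168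
  · exact Cert.edgesOK_spec M (facts_hold M) proofsE70656_ok e (by omega) (by rw [proofsE70656_len]; omega)
  by_cases h71168 : e < 71680
  · exact Cert.edgesOK_spec M (facts_hold M) proofsE71168_ok e (by omega) (by rw [proofsE71168_len]; omega)
  by_cases h71680 : e < 72192
  · exact Cert.edgesOK_spec M (facts_hold M) proofsE71680_ok e (by omega) (by rw [proofsE71680_len]; omega)
  by_cases h72192 : e < 72704
  · exact Cert.edgesOK_spec M (facts_hold M) proofsE72192_ok e (by omega) (by rw [proofsE72192_len]; omega)
  by_cases h72704 : e < 73216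
  · exact Cert.edgesOK_spec M (facts_hold M) proofsE72704_ok e (by omega) (by rw [proofsE72704_len]; omega)
  by_cases h73216 : e < 73728
  · exact Cert.edgesOK_spec M (facts_hold M) proofsE73216_ok e (by omega) (by rw [proofsE73216_len]; omega)
  by_cases h73728 : e < 74240
  · exact Cert.edgesOK_spec M (facts_hold M) proofsE73728_ok e (by omega) (by rw [proofsE73728_len]; omega)
  by_cases h74240 : e < 74752
  · exact Cert.edgesOK_spec M (facts_hold M) proofsE74240_ok e (by omega) (by rw [proofsE74240_len]; omega)
  by_cases h74752 : e < 75264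
  · exact Cert.edgesOK_spec M (facts_hold M) proofsE74752_ok e (by omega) (by rw [proofsE74752_len]; omega)
  by_cases h75264 : e < 75776
  · exact Cert.edgesOK_spec M (facts_hold M) proofsE75264_ok e (by omega) (by rw [proofsE75264_len]; omega)
  by_cases h75776 : e < 76288
  · exact Cert.edgesOK_spec M (facts_hold M) proofsE75776_ok e (by omega) (by rw [proofsE75776_len]; omega)
  by_cases h76288 : e < 76800
  · exact Cert.edgesOK_spec M (facts_hold M) proofsE76288_ok e (by omega) (by rw [proofsE76288_len]; omega)
  by_cases h76800 : e < 77312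
  · exact Cert.edgesOK_spec M (facts_hold M) proofsE76800_ok e (by omega) (by rw [proofsE76800_len]; omega)
  by_cases h77312 : e < 77824
  · exact Cert.edgesOK_spec M (facts_hold M) proofsE77312_ok e (by omega) (by rw [proofsE77312_len]; omega)
  by_cases h77824 : e < 78336
  · exact Cert.edgesOK_spec M (facts_hold M) proofsE77824_ok e (by omega) (by rw [proofsE77824_len]; omega)
  by_cases h78336 : e < 78848
  · exact Cert.edgesOK_spec M (facts_hold M) proofsE78336_ok e (by omega) (by rw [proofsE78336_len]; omega)
  by_cases h78848 : e < 79360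
  · exact Cert.edgesOK_spec M (facts_hold M) proofsE78848_ok e (by omega) (by rw [proofsE78848_len]; omega)
  by_cases h79360 : e < 79872
  · exact Cert.edgesOK_spec M (facts_hold M) proofsE79360_ok e (by omega) (by rw [proofsE79360_len]; omega)
  by_cases h79872 : e < 80384
  · exact Cert.edgesOK_spec M (facts_hold M) proofsE79872_ok e (by omega) (by rw [proofsE79872_len]; omega)
  by_cases h80384 : e < 80896
  · exact Cert.edgesOK_spec M (facts_hold M) proofsE80384_ok e (by omega) (by rw [proofsE80384_len]; omega)
  by_cases h80896 : e < 81408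
  · exact Cert.edgesOK_spec M (facts_hold M) proofsE80896_ok e (by omega) (by rw [proofsE80896_len]; omega)
  by_cases h81408 : e < 81920
  · exact Cert.edgesOK_spec M (facts_hold M) proofsE81408_ok e (by omega) (by rw [proofsE81408_len]; omega)
  by_cases h81920 : e < 82432
  · exact Cert.edgesOK_spec M (facts_hold M) proofsE81920_ok e (by omega) (by rw [proofsE81920_len]; omega)
  by_cases h82432 : e < 82944
  · exact Cert.edgesOK_spec M (facts_hold M) proofsE82432_ok e (by omega) (by rw [proofsE82432_len]; omega)
  by_cases h82944 : e < 83456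
  · exact Cert.edgesOK_spec M (facts_hold M) proofsE82944_ok e (by omega) (by rw [proofsE82944_len]; omega)
  by_cases h83456 : e < 83968
  · exact Cert.edgesOK_spec M (facts_hold M) proofsE83456_ok e (by omega) (by rw [proofsE83456_len]; omega)
  by_cases h83968 : e < 84480
  · exact Cert.edgesOK_spec M (facts_hold M) proofsE83968_ok e (by omega) (by rw [proofsE83968_len]; omega)
  by_cases h84480 : e < 84992
  · exact Cert.edgesOK_spec M (facts_hold M) proofsE84480_ok e (by omega) (by rw [proofsE84480_len]; omega)
  by_cases h84992 : e < 85504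
  · exact Cert.edgesOK_spec M (facts_hold M) proofsE84992_ok e (by omega) (by rw [proofsE84992_len]; omega)
  by_cases h85504 : e < 86016
  · exact Cert.edgesOK_spec M (facts_hold M) proofsE85504_ok e (by omega) (by rw [proofsE85504_len]; omega)
  by_cases h86016 : e < 86528
  · exact Cert.edgesOK_spec M (facts_hold M) proofsE86016_ok e (by omega) (by rw [proofsE86016_len]; omega)
  by_cases h86528 : e < 87040
  · exact Cert.edgesOK_spec M (facts_hold M) proofsE86528_ok e (by omega) (by rw [proofsE86528_len]; omega)
  by_cases h87040 : e < 87552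
  · exact Cert.edgesOK_spec M (facts_hold M) proofsE87040_ok e (by omega) (by rw [proofsE87040_len]; omega)
  by_cases h87552 : e < 88064
  · exact Cert.edgesOK_spec M (facts_hold M) proofsE87552_ok e (by omega) (by rw [proofsE87552_len]; omega)
  by_cases h88064 : e < 88576
  · exact Cert.edgesOK_spec M (facts_hold M) proofsE88064_ok e (by omega) (by rw [proofsE88064_len]; omega)
  by_cases h88576 : e < 89088
  · exact Cert.edgesOK_spec M (facts_hold M) proofsE88576_ok e (by omega) (by rw [proofsE88576_len]; omega)
  by_cases h89088 : e < 89600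
  · exact Cert.edgesOK_spec M (facts_hold M) proofsE89088_ok e (by omega) (by rw [proofsE89088_len]; omega)
  by_cases h89600 : e < 90112
  · exact Cert.edgesOK_spec M (facts_hold M) proofsE89600_ok e (by omega) (by rw [proofsE89600_len]; omega)
  by_cases h90112 : e < 90624
  · exact Cert.edgesOK_spec M (facts_hold M) proofsE90112_ok e (by omega) (by rw [proofsE90112_len]; omega)
  by_cases h90624 : e < 91136
  · exact Cert.edgesOK_spec M (facts_hold M) proofsE90624_ok e (by omega) (by rw [proofsE90624_len]; omega)
  by_cases h91136 : e < 91648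
  · exact Cert.edgesOK_spec M (facts_hold M) proofsE91136_ok e (by omega) (by rw [proofsE91136_len]; omega)
  by_cases h91648 : e < 92160
  · exact Cert.edgesOK_spec M (facts_hold M) proofsE91648_ok e (by omega) (by rw [proofsE91648_len]; omega)
  by_cases h92160 : e < 92672
  · exact Cert.edgesOK_spec M (facts_hold M) proofsE92160_ok e (by omega) (by rw [proofsE92160_len]; omega)
  by_cases h92672 : e < 93184
  · exact Cert.edgesOK_spec M (facts_hold M) proofsE92672_ok e (by omega) (by rw [proofsE92672_len]; omega)
  by_cases h93184 : e < 93696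
  · exact Cert.edgesOK_spec M (facts_hold M) proofsE93184_ok e (by omega) (by rw [proofsE93184_len]; omega)
  by_cases h93696 : e < 94208
  · exact Cert.edgesOK_spec M (facts_hold M) proofsE93696_ok e (by omega) (by rw [proofsE93696_len]; omega)
  by_cases h94208 : e < 94720
  · exact Cert.edgesOK_spec M (facts_hold M) proofsE94208_ok e (by omega) (by rw [proofsE94208_len]; omega)
  by_cases h94720 : e < 95232
  · exact Cert.edgesOK_spec M (facts_hold M) proofsE94720_ok e (by omega) (by rw [proofsE94720_len]; omega)
  by_cases h95232 : e < 95744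
  · exact Cert.edgesOK_spec M (facts_hold M) proofsE95232_ok e (by omega) (by rw [proofsE95232_len]; omega)
  by_cases h95744 : e < 96256
  · exact Cert.edgesOK_spec M (facts_hold M) proofsE95744_ok e (by omega) (by rw [proofsE95744_len]; omega)
  by_cases h96256 : e < 96768
  · exact Cert.edgesOK_spec M (facts_hold M) proofsE96256_ok e (by omega) (by rw [proofsE96256_len]; omega)
  by_cases h96768 : e < 97280
  · exact Cert.edgesOK_spec M (facts_hold M) proofsE96768_ok e (by omega) (by rw [proofsE96768_len]; omega)
  by_cases h97280 : e < 97792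
  · exact Cert.edgesOK_spec M (facts_hold M) proofsE97280_ok e (by omega) (by rw [proofsE97280_len]; omega)
  by_cases h97792 : e < 98304
  · exact Cert.edgesOK_spec M (facts_hold M) proofsE97792_ok e (by omega) (by rw [proofsE97792_len]; omega)
  by_cases h98304 : e < 98816
  · exact Cert.edgesOK_spec M (facts_hold M) proofsE98304_ok e (by omega) (by rw [proofsE98304_len]; omega)
  by_cases h98816 : e < 99328
  · exact Cert.edgesOK_spec M (facts_hold M) proofsE98816_ok e (by omega) (by rw [proofsE98816_len]; omega)
  by_cases h99328 : e < 99840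
  · exact Cert.edgesOK_spec M (facts_hold M) proofsE99328_ok e (by omega) (by rw [proofsE99328_len]; omega)
  by_cases h99840 : e < 100352
  · exact Cert.edgesOK_spec M (facts_hold M) proofsE99840_ok e (by omega) (by rw [proofsE99840_len]; omega)
  by_cases h100352 : e < 100864
  · exact Cert.edgesOK_spec M (facts_hold M) proofsE100352_ok e (by omega) (by rw [proofsE100352_len]; omega)
  by_cases h100864 : e < 101376
  · exact Cert.edgesOK_spec M (facts_hold M) proofsE100864_ok e (by omega) (by rw [proofsE100864_len]; omega)
  by_cases h101376 : e < 101888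
  · exact Cert.edgesOK_spec M (facts_hold M) proofsE101376_ok e (by omega) (by rw [proofsE101376_len]; omega)
  by_cases h101888 : e < 102400
  · exact Cert.edgesOK_spec M (facts_hold M) proofsE101888_ok e (by omega) (by rw [proofsE101888_len]; omega)
  by_cases h102400 : e < 102912
  · exact Cert.edgesOK_spec M (facts_hold M) proofsE102400_ok e (by omega) (by rw [proofsE102400_len]; omega)
  by_cases h102912 : e < 103424
  · exact Cert.edgesOK_spec M (facts_hold M) proofsE102912_ok e (by omega) (by rw [proofsE102912_len]; omega)
  by_cases h103424 : e < 103936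
  · exact Cert.edgesOK_spec M (facts_hold M) proofsE103424_ok e (by omega) (by rw [proofsE103424_len]; omega)
  by_cases h103936 : e < 104448
  · exact Cert.edgesOK_spec M (facts_hold M) proofsE103936_ok e (by omega) (by rw [proofsE103936_len]; omega)
  by_cases h104448 : e < 104960
  · exact Cert.edgesOK_spec M (facts_hold M) proofsE104448_ok e (by omega) (by rw [proofsE104448_len]; omega)
  by_cases h104960 : e < 105472
  · exact Cert.edgesOK_spec M (facts_hold M) proofsE104960_ok e (by omega) (by rw [proofsE104960_len]; omega)
  by_cases h105472 : e < 105984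
  · exact Cert.edgesOK_spec M (facts_hold M) proofsE105472_ok e (by omega) (by rw [proofsE105472_len]; omega)
  by_cases h105984 : e < 106496
  · exact Cert.edgesOK_spec M (facts_hold M) proofsE105984_ok e (by omega) (by rw [proofsE105984_len]; omega)
  by_cases h106496 : e < 107008
  · exact Cert.edgesOK_spec M (facts_hold M) proofsE106496_ok e (by omega) (by rw [proofsE106496_len]; omega)
  by_cases h107008 : e < 107520
  · exact Cert.edgesOK_spec M (facts_hold M) proofsE107008_ok e (by omega) (by rw [proofsE107008_len]; omega)
  by_cases h107520 : e < 108032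
  · exact Cert.edgesOK_spec M (facts_hold M) proofsE107520_ok e (by omega) (by rw [proofsE107520_len]; omega)
  by_cases h108032 : e < 108544
  · exact Cert.edgesOK_spec M (facts_hold M) proofsE108032_ok e (by omega) (by rw [proofsE108032_len]; omega)
  by_cases h108544 : e < 109056
  · exact Cert.edgesOK_spec M (facts_hold M) proofsE108544_ok e (by omega) (by rw [proofsE108544_len]; omega)
  by_cases h109056 : e < 109568
  · exact Cert.edgesOK_spec M (facts_hold M) proofsE109056_ok e (by omega) (by rw [proofsE109056_len]; omega)
  by_cases h109568 : e < 110080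
  · exact Cert.edgesOK_spec M (facts_hold M) proofsE109568_ok e (by omega) (by rw [proofsE109568_len]; omega)
  by_cases h110080 : e < 110592
  · exact Cert.edgesOK_spec M (facts_hold M) proofsE110080_ok e (by omega) (by rw [proofsE110080_len]; omega)
  by_cases h110592 : e < 111104
  · exact Cert.edgesOK_spec M (facts_hold M) proofsE110592_ok e (by omega) (by rw [proofsE110592_len]; omega)
  by_cases h111104 : e < 111616
  · exact Cert.edgesOK_spec M (facts_hold M) proofsE111104_ok e (by omega) (by rw [proofsE111104_len]; omega)
  by_cases h111616 : e < 112128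
  · exact Cert.edgesOK_spec M (facts_hold M) proofsE111616_ok e (by omega) (by rw [proofsE111616_len]; omega)
  by_cases h112128 : e < 112640
  · exact Cert.edgesOK_spec M (facts_hold M) proofsE112128_ok e (by omega) (by rw [proofsE112128_len]; omega)
  by_cases h112640 : e < 113152
  · exact Cert.edgesOK_spec M (facts_hold M) proofsE112640_ok e (by omega) (by rw [proofsE112640_len]; omega)
  by_cases h113152 : e < 113664
  · exact Cert.edgesOK_spec M (facts_hold M) proofsE113152_ok e (by omega) (by rw [proofsE113152_len]; omega)
  by_cases h113664 : e < 114176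
  · exact Cert.edgesOK_spec M (facts_hold M) proofsE113664_ok e (by omega) (by rw [proofsE113664_len]; omega)
  by_cases h114176 : e < 114688
  · exact Cert.edgesOK_spec M (facts_hold M) proofsE114176_ok e (by omega) (by rw [proofsE114176_len]; omega)
  by_cases h114688 : e < 115200
  · exact Cert.edgesOK_spec M (facts_hold M) proofsE114688_ok e (by omega) (by rw [proofsE114688_len]; omega)
  by_cases h115200 : e < 115712
  · exact Cert.edgesOK_spec M (facts_hold M) proofsE115200_ok e (by omega) (by rw [proofsE115200_len]; omega)
  by_cases h115712 : e < 116224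
  · exact Cert.edgesOK_spec M (facts_hold M) proofsE115712_ok e (by omega) (by rw [proofsE115712_len]; omega)
  by_cases h116224 : e < 116736
  · exact Cert.edgesOK_spec M (facts_hold M) proofsE116224_ok e (by omega) (by rw [proofsE116224_len]; omega)
  by_cases h116736 : e < 117248
  · exact Cert.edgesOK_spec M (facts_hold M) proofsE116736_ok e (by omega) (by rw [proofsE116736_len]; omega)
  by_cases h117248 : e < 117760
  · exact Cert.edgesOK_spec M (facts_hold M) proofsE117248_ok e (by omega) (by rw [proofsE117248_len]; omega)
  by_cases h117760 : e < 118272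
  · exact Cert.edgesOK_spec M (facts_hold M) proofsE117760_ok e (by omega) (by rw [proofsE117760_len]; omega)
  by_cases h118272 : e < 118784
  · exact Cert.edgesOK_spec M (facts_hold M) proofsE118272_ok e (by omega) (by rw [proofsE118272_len]; omega)
  by_cases h118784 : e < 119296
  · exact Cert.edgesOK_spec M (facts_hold M) proofsE118784_ok e (by omega) (by rw [proofsE118784_len]; omega)
  by_cases h119296 : e < 119808
  · exact Cert.edgesOK_spec M (facts_hold M) proofsE119296_ok e (by omega) (by rw [proofsE119296_len]; omega)
  by_cases h119808 : e < 120320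
  · exact Cert.edgesOK_spec M (facts_hold M) proofsE119808_ok e (by omega) (by rw [proofsE119808_len]; omega)
  by_cases h120320 : e < 120832
  · exact Cert.edgesOK_spec M (facts_hold M) proofsE120320_ok e (by omega) (by rw [proofsE120320_len]; omega)
  by_cases h120832 : e < 121344
  · exact Cert.edgesOK_spec M (facts_hold M) proofsE120832_ok e (by omega) (by rw [proofsE120832_len]; omega)
  by_cases h121344 : e < 121856
  · exact Cert.edgesOK_spec M (facts_hold M) proofsE121344_ok e (by omega) (by rw [proofsE121344_len]; omega)
  by_cases h121856 : e < 122368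
  · exact Cert.edgesOK_spec M (facts_hold M) proofsE121856_ok e (by omega) (by rw [proofsE121856_len]; omega)
  by_cases h122368 : e < 122880
  · exact Cert.edgesOK_spec M (facts_hold M) proofsE122368_ok e (by omega) (by rw [proofsE122368_len]; omega)
  by_cases h122880 : e < 123392
  · exact Cert.edgesOK_spec M (facts_hold M) proofsE122880_ok e (by omega) (by rw [proofsE122880_len]; omega)
  by_cases h123392 : e < 123904
  · exact Cert.edgesOK_spec M (facts_hold M) proofsE123392_ok e (by omega) (by rw [proofsE123392_len]; omega)
  by_cases h123904 : e < 124416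
  · exact Cert.edgesOK_spec M (facts_hold M) proofsE123904_ok e (by omega) (by rw [proofsE123904_len]; omega)
  by_cases h124416 : e < 124928
  · exact Cert.edgesOK_spec M (facts_hold M) proofsE124416_ok e (by omega) (by rw [proofsE124416_len]; omega)
  by_cases h124928 : e < 125440
  · exact Cert.edgesOK_spec M (facts_hold M) proofsE124928_ok e (by omega) (by rw [proofsE124928_len]; omega)
  by_cases h125440 : e < 125952
  · exact Cert.edgesOK_spec M (facts_hold M) proofsE125440_ok e (by omega) (by rw [proofsE125440_len]; omega)
  by_cases h125952 : e < 126464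
  · exact Cert.edgesOK_spec M (facts_hold M) proofsE125952_ok e (by omega) (by rw [proofsE125952_len]; omega)
  by_cases h126464 : e < 126976
  · exact Cert.edgesOK_spec M (facts_hold M) proofsE126464_ok e (by omega) (by rw [proofsE126464_len]; omega)
  by_cases h126976 : e < 127488
  · exact Cert.edgesOK_spec M (facts_hold M) proofsE126976_ok e (by omega) (by rw [proofsE126976_len]; omega)
  by_cases h127488 : e < 128000
  · exact Cert.edgesOK_spec M (facts_hold M) proofsE127488_ok e (by omega) (by rw [proofsE127488_len]; omega)
  by_cases h128000 : e < 128512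
  · exact Cert.edgesOK_spec M (facts_hold M) proofsE128000_ok e (by omega) (by rw [proofsE128000_len]; omega)
  by_cases h128512 : e < 129024
  · exact Cert.edgesOK_spec M (facts_hold M) proofsE128512_ok e (by omega) (by rw [proofsE128512_len]; omega)
  by_cases h129024 : e < 129536
  · exact Cert.edgesOK_spec M (facts_hold M) proofsE129024_ok e (by omega) (by rw [proofsE129024_len]; omega)
  by_cases h129536 : e < 130048
  · exact Cert.edgesOK_spec M (facts_hold M) proofsE129536_ok e (by omega) (by rw [proofsE129536_len]; omega)
  by_cases h130048 : e < 130560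
  · exact Cert.edgesOK_spec M (facts_hold M) proofsE130048_ok e (by omega) (by rw [proofsE130048_len]; omega)
  by_cases h130560 : e < 131072
  · exact Cert.edgesOK_spec M (facts_hold M) proofsE130560_ok e (by omega) (by rw [proofsE130560_len]; omega)
  by_cases h131072 : e < 131584
  · exact Cert.edgesOK_spec M (facts_hold M) proofsE131072_ok e (by omega) (by rw [proofsE131072_len]; omega)
  by_cases h131584 : e < 132096
  · exact Cert.edgesOK_spec M (facts_hold M) proofsE131584_ok e (by omega) (by rw [proofsE131584_len]; omega)
  by_cases h132096 : e < 132608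
  · exact Cert.edgesOK_spec M (facts_hold M) proofsE132096_ok e (by omega) (by rw [proofsE132096_len]; omega)
  by_cases h132608 : e < 133120
  · exact Cert.edgesOK_spec M (facts_hold M) proofsE132608_ok e (by omega) (by rw [proofsE132608_len]; omega)
  by_cases h133120 : e < 133632
  · exact Cert.edgesOK_spec M (facts_hold M) proofsE133120_ok e (by omega) (by rw [proofsE133120_len]; omega)
  by_cases h133632 : e < 134144
  · exact Cert.edgesOK_spec M (facts_hold M) proofsE133632_ok e (by omega) (by rw [proofsE133632_len]; omega)
  by_cases h134144 : e < 134656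
  · exact Cert.edgesOK_spec M (facts_hold M) proofsE134144_ok e (by omega) (by rw [proofsE134144_len]; omega)
  by_cases h134656 : e < 135168
  · exact Cert.edgesOK_spec M (facts_hold M) proofsE134656_ok e (by omega) (by rw [proofsE134656_len]; omega)
  by_cases h135168 : e < 135680
  · exact Cert.edgesOK_spec M (facts_hold M) proofsE135168_ok e (by omega) (by rw [proofsE135168_len]; omega)
  by_cases h135680 : e < 136192
  · exact Cert.edgesOK_spec M (facts_hold M) proofsE135680_ok e (by omega) (by rw [proofsE135680_len]; omega)
  by_cases h136192 : e < 136704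
  · exact Cert.edgesOK_spec M (facts_hold M) proofsE136192_ok e (by omega) (by rw [proofsE136192_len]; omega)
  by_cases h136704 : e < 137216
  · exact Cert.edgesOK_spec M (facts_hold M) proofsE136704_ok e (by omega) (by rw [proofsE136704_len]; omega)
  by_cases h137216 : e < 137728
  · exact Cert.edgesOK_spec M (facts_hold M) proofsE137216_ok e (by omega) (by rw [proofsE137216_len]; omega)
  by_cases h137728 : e < 138240
  · exact Cert.edgesOK_spec M (facts_hold M) proofsE137728_ok e (by omega) (by rw [proofsE137728_len]; omega)
  by_cases h138240 : e < 138752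
  · exact Cert.edgesOK_spec M (facts_hold M) proofsE138240_ok e (by omega) (by rw [proofsE138240_len]; omega)
  by_cases h138752 : e < 139264
  · exact Cert.edgesOK_spec M (facts_hold M) proofsE138752_ok e (by omega) (by rw [proofsE138752_len]; omega)
  by_cases h139264 : e < 139776
  · exact Cert.edgesOK_spec M (facts_hold M) proofsE139264_ok e (by omega) (by rw [proofsE139264_len]; omega)
  by_cases h139776 : e < 140288
  · exact Cert.edgesOK_spec M (facts_hold M) proofsE139776_ok e (by omega) (by rw [proofsE139776_len]; omega)
  by_cases h140288 : e < 140800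
  · exact Cert.edgesOK_spec M (facts_hold M) proofsE140288_ok e (by omega) (by rw [proofsE140288_len]; omega)
  by_cases h140800 : e < 141312
  · exact Cert.edgesOK_spec M (facts_hold M) proofsE140800_ok e (by omega) (by rw [proofsE140800_len]; omega)
  by_cases h141312 : e < 141824
  · exact Cert.edgesOK_spec M (facts_hold M) proofsE141312_ok e (by omega) (by rw [proofsE141312_len]; omega)
  by_cases h141824 : e < 142336
  · exact Cert.edgesOK_spec M (facts_hold M) proofsE141824_ok e (by omega) (by rw [proofsE141824_len]; omega)
  by_cases h142336 : e < 142848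
  · exact Cert.edgesOK_spec M (facts_hold M) proofsE142336_ok e (by omega) (by rw [proofsE142336_len]; omega)
  by_cases h142848 : e < 143360
  · exact Cert.edgesOK_spec M (facts_hold M) proofsE142848_ok e (by omega) (by rw [proofsE142848_len]; omega)
  by_cases h143360 : e < 143872
  · exact Cert.edgesOK_spec M (facts_hold M) proofsE143360_ok e (by omega) (by rw [proofsE143360_len]; omega)
  by_cases h143872 : e < 144384
  · exact Cert.edgesOK_spec M (facts_hold M) proofsE143872_ok e (by omega) (by rw [proofsE143872_len]; omega)
  by_cases h144384 : e < 144896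
  · exact Cert.edgesOK_spec M (facts_hold M) proofsE144384_ok e (by omega) (by rw [proofsE144384_len]; omega)
  by_cases h144896 : e < 145408
  · exact Cert.edgesOK_spec M (facts_hold M) proofsE144896_ok e (by omega) (by rw [proofsE144896_len]; omega)
  by_cases h145408 : e < 145920
  · exact Cert.edgesOK_spec M (facts_hold M) proofsE145408_ok e (by omega) (by rw [proofsE145408_len]; omega)
  by_cases h145920 : e < 146432
  · exact Cert.edgesOK_spec M (facts_hold M) proofsE145920_ok e (by omega) (by rw [proofsE145920_len]; omega)
  by_cases h146432 : e < 146944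
  · exact Cert.edgesOK_spec M (facts_hold M) proofsE146432_ok e (by omega) (by rw [proofsE146432_len]; omega)
  by_cases h146944 : e < 147456
  · exact Cert.edgesOK_spec M (facts_hold M) proofsE146944_ok e (by omega) (by rw [proofsE146944_len]; omega)
  by_cases h147456 : e < 147968
  · exact Cert.edgesOK_spec M (facts_hold M) proofsE147456_ok e (by omega) (by rw [proofsE147456_len]; omega)
  by_cases h147968 : e < 148480
  · exact Cert.edgesOK_spec M (facts_hold M) proofsE147968_ok e (by omega) (by rw [proofsE147968_len]; omega)
  by_cases h148480 : e < 148992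
  · exact Cert.edgesOK_spec M (facts_hold M) proofsE148480_ok e (by omega) (by rw [proofsE148480_len]; omega)
  by_cases h148992 : e < 149504
  · exact Cert.edgesOK_spec M (facts_hold M) proofsE148992_ok e (by omega) (by rw [proofsE148992_len]; omega)
  by_cases h149504 : e < 150016
  · exact Cert.edgesOK_spec M (facts_hold M) proofsE149504_ok e (by omega) (by rw [proofsE149504_len]; omega)
  by_cases h150016 : e < 150528
  · exact Cert.edgesOK_spec M (facts_hold M) proofsE150016_ok e (by omega) (by rw [proofsE150016_len]; omega)
  by_cases h150528 : e < 151040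
  · exact Cert.edgesOK_spec M (facts_hold M) proofsE150528_ok e (by omega) (by rw [proofsE150528_len]; omega)
  by_cases h151040 : e < 151552
  · exact Cert.edgesOK_spec M (facts_hold M) proofsE151040_ok e (by omega) (by rw [proofsE151040_len]; omega)
  by_cases h151552 : e < 152064
  · exact Cert.edgesOK_spec M (facts_hold M) proofsE151552_ok e (by omega) (by rw [proofsE151552_len]; omega)
  by_cases h152064 : e < 152576
  · exact Cert.edgesOK_spec M (facts_hold M) proofsE152064_ok e (by omega) (by rw [proofsE152064_len]; omega)
  by_cases h152576 : e < 153088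
  · exact Cert.edgesOK_spec M (facts_hold M) proofsE152576_ok e (by omega) (by rw [proofsE152576_len]; omega)
  by_cases h153088 : e < 153600
  · exact Cert.edgesOK_spec M (facts_hold M) proofsE153088_ok e (by omega) (by rw [proofsE153088_len]; omega)
  by_cases h153600 : e < 154112
  · exact Cert.edgesOK_spec M (facts_hold M) proofsE153600_ok e (by omega) (by rw [proofsE153600_len]; omega)
  by_cases h154112 : e < 154624
  · exact Cert.edgesOK_spec M (facts_hold M) proofsE154112_ok e (by omega) (by rw [proofsE154112_len]; omega)
  by_cases h154624 : e < 155136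
  · exact Cert.edgesOK_spec M (facts_hold M) proofsE154624_ok e (by omega) (by rw [proofsE154624_len]; omega)
  by_cases h155136 : e < 155648
  · exact Cert.edgesOK_spec M (facts_hold M) proofsE155136_ok e (by omega) (by rw [proofsE155136_len]; omega)
  by_cases h155648 : e < 156160
  · exact Cert.edgesOK_spec M (facts_hold M) proofsE155648_ok e (by omega) (by rw [proofsE155648_len]; omega)
  by_cases h156160 : e < 156672
  · exact Cert.edgesOK_spec M (facts_hold M) proofsE156160_ok e (by omega) (by rw [proofsE156160_len]; omega)
  by_cases h156672 : e < 157184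
  · exact Cert.edgesOK_spec M (facts_hold M) proofsE156672_ok e (by omega) (by rw [proofsE156672_len]; omega)
  by_cases h157184 : e < 157696
  · exact Cert.edgesOK_spec M (facts_hold M) proofsE157184_ok e (by omega) (by rw [proofsE157184_len]; omega)
  by_cases h157696 : e < 158208
  · exact Cert.edgesOK_spec M (facts_hold M) proofsE157696_ok e (by omega) (by rw [proofsE157696_len]; omega)
  by_cases h158208 : e < 158720
  · exact Cert.edgesOK_spec M (facts_hold M) proofsE158208_ok e (by omega) (by rw [proofsE158208_len]; omega)
  by_cases h158720 : e < 159232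
  · exact Cert.edgesOK_spec M (facts_hold M) proofsE158720_ok e (by omega) (by rw [proofsE158720_len]; omega)
  by_cases h159232 : e < 159744
  · exact Cert.edgesOK_spec M (facts_hold M) proofsE159232_ok e (by omega) (by rw [proofsE159232_len]; omega)
  by_cases h159744 : e < 160256
  · exact Cert.edgesOK_spec M (facts_hold M) proofsE159744_ok e (by omega) (by rw [proofsE159744_len]; omega)
  by_cases h160256 : e < 160768
  · exact Cert.edgesOK_spec M (facts_hold M) proofsE160256_ok e (by omega) (by rw [proofsE160256_len]; omega)
  by_cases h160768 : e < 161280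
  · exact Cert.edgesOK_spec M (facts_hold M) proofsE160768_ok e (by omega) (by rw [proofsE160768_len]; omega)
  by_cases h161280 : e < 161792
  · exact Cert.edgesOK_spec M (facts_hold M) proofsE161280_ok e (by omega) (by rw [proofsE161280_len]; omega)
  by_cases h161792 : e < 162304
  · exact Cert.edgesOK_spec M (facts_hold M) proofsE161792_ok e (by omega) (by rw [proofsE161792_len]; omega)
  by_cases h162304 : e < 162816
  · exact Cert.edgesOK_spec M (facts_hold M) proofsE162304_ok e (by omega) (by rw [proofsE162304_len]; omega)
  by_cases h162816 : e < 163328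
  · exact Cert.edgesOK_spec M (facts_hold M) proofsE162816_ok e (by omega) (by rw [proofsE162816_len]; omega)
  by_cases h163328 : e < 163840
  · exact Cert.edgesOK_spec M (facts_hold M) proofsE163328_ok e (by omega) (by rw [proofsE163328_len]; omega)
  by_cases h163840 : e < 164352
  · exact Cert.edgesOK_spec M (facts_hold M) proofsE163840_ok e (by omega) (by rw [proofsE163840_len]; omega)
  by_cases h164352 : e < 164864
  · exact Cert.edgesOK_spec M (facts_hold M) proofsE164352_ok e (by omega) (by rw [proofsE164352_len]; omega)
  by_cases h164864 : e < 165376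
  · exact Cert.edgesOK_spec M (facts_hold M) proofsE164864_ok e (by omega) (by rw [proofsE164864_len]; omega)
  by_cases h165376 : e < 165888
  · exact Cert.edgesOK_spec M (facts_hold M) proofsE165376_ok e (by omega) (by rw [proofsE165376_len]; omega)
  by_cases h165888 : e < 166400
  · exact Cert.edgesOK_spec M (facts_hold M) proofsE165888_ok e (by omega) (by rw [proofsE165888_len]; omega)
  by_cases h166400 : e < 166912
  · exact Cert.edgesOK_spec M (facts_hold M) proofsE166400_ok e (by omega) (by rw [proofsE166400_len]; omega)
  by_cases h166912 : e < 167424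
  · exact Cert.edgesOK_spec M (facts_hold M) proofsE166912_ok e (by omega) (by rw [proofsE166912_len]; omega)
  by_cases h167424 : e < 167936
  · exact Cert.edgesOK_spec M (facts_hold M) proofsE167424_ok e (by omega) (by rw [proofsE167424_len]; omega)
  by_cases h167936 : e < 168448
  · exact Cert.edgesOK_spec M (facts_hold M) proofsE167936_ok e (by omega) (by rw [proofsE167936_len]; omega)
  by_cases h168448 : e < 168960
  · exact Cert.edgesOK_spec M (facts_hold M) proofsE168448_ok e (by omega) (by rw [proofsE168448_len]; omega)
  by_cases h168960 : e < 169472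
  · exact Cert.edgesOK_spec M (facts_hold M) proofsE168960_ok e (by omega) (by rw [proofsE168960_len]; omega)
  by_cases h169472 : e < 169984
  · exact Cert.edgesOK_spec M (facts_hold M) proofsE169472_ok e (by omega) (by rw [proofsE169472_len]; omega)
  by_cases h169984 : e < 170496
  · exact Cert.edgesOK_spec M (facts_hold M) proofsE169984_ok e (by omega) (by rw [proofsE169984_len]; omega)
  by_cases h170496 : e < 171008
  · exact Cert.edgesOK_spec M (facts_hold M) proofsE170496_ok e (by omega) (by rw [proofsE170496_len]; omega)
  by_cases h171008 : e < 171520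
  · exact Cert.edgesOK_spec M (facts_hold M) proofsE171008_ok e (by omega) (by rw [proofsE171008_len]; omega)
  by_cases h171520 : e < 172032
  · exact Cert.edgesOK_spec M (facts_hold M) proofsE171520_ok e (by omega) (by rw [proofsE171520_len]; omega)
  by_cases h172032 : e < 172544
  · exact Cert.edgesOK_spec M (facts_hold M) proofsE172032_ok e (by omega) (by rw [proofsE172032_len]; omega)
  by_cases h172544 : e < 173056
  · exact Cert.edgesOK_spec M (facts_hold M) proofsE172544_ok e (by omega) (by rw [proofsE172544_len]; omega)
  by_cases h173056 : e < 173568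
  · exact Cert.edgesOK_spec M (facts_hold M) proofsE173056_ok e (by omega) (by rw [proofsE173056_len]; omega)
  by_cases h173568 : e < 174080
  · exact Cert.edgesOK_spec M (facts_hold M) proofsE173568_ok e (by omega) (by rw [proofsE173568_len]; omega)
  by_cases h174080 : e < 174592
  · exact Cert.edgesOK_spec M (facts_hold M) proofsE174080_ok e (by omega) (by rw [proofsE174080_len]; omega)
  by_cases h174592 : e < 175104
  · exact Cert.edgesOK_spec M (facts_hold M) proofsE174592_ok e (by omega) (by rw [proofsE174592_len]; omega)
  by_cases h175104 : e < 175616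
  · exact Cert.edgesOK_spec M (facts_hold M) proofsE175104_ok e (by omega) (by rw [proofsE175104_len]; omega)
  by_cases h175616 : e < 176128
  · exact Cert.edgesOK_spec M (facts_hold M) proofsE175616_ok e (by omega) (by rw [proofsE175616_len]; omega)
  by_cases h176128 : e < 176640
  · exact Cert.edgesOK_spec M (facts_hold M) proofsE176128_ok e (by omega) (by rw [proofsE176128_len]; omega)
  by_cases h176640 : e < 177152
  · exact Cert.edgesOK_spec M (facts_hold M) proofsE176640_ok e (by omega) (by rw [proofsE176640_len]; omega)
  by_cases h177152 : e < 177664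
  · exact Cert.edgesOK_spec M (facts_hold M) proofsE177152_ok e (by omega) (by rw [proofsE177152_len]; omega)
  by_cases h177664 : e < 178176
  · exact Cert.edgesOK_spec M (facts_hold M) proofsE177664_ok e (by omega) (by rw [proofsE177664_len]; omega)
  by_cases h178176 : e < 178688
  · exact Cert.edgesOK_spec M (facts_hold M) proofsE178176_ok e (by omega) (by rw [proofsE178176_len]; omega)
  by_cases h178688 : e < 179200
  · exact Cert.edgesOK_spec M (facts_hold M) proofsE178688_ok e (by omega) (by rw [proofsE178688_len]; omega)
  by_cases h179200 : e < 179712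
  · exact Cert.edgesOK_spec M (facts_hold M) proofsE179200_ok e (by omega) (by rw [proofsE179200_len]; omega)
  by_cases h179712 : e < 180224
  · exact Cert.edgesOK_spec M (facts_hold M) proofsE179712_ok e (by omega) (by rw [proofsE179712_len]; omega)
  by_cases h180224 : e < 180736
  · exact Cert.edgesOK_spec M (facts_hold M) proofsE180224_ok e (by omega) (by rw [proofsE180224_len]; omega)
  by_cases h180736 : e < 181248
  · exact Cert.edgesOK_spec M (facts_hold M) proofsE180736_ok e (by omega) (by rw [proofsE180736_len]; omega)
  by_cases h181248 : e < 181760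
  · exact Cert.edgesOK_spec M (facts_hold M) proofsE181248_ok e (by omega) (by rw [proofsE181248_len]; omega)
  by_cases h181760 : e < 182272
  · exact Cert.edgesOK_spec M (facts_hold M) proofsE181760_ok e (by omega) (by rw [proofsE181760_len]; omega)
  by_cases h182272 : e < 182784
  · exact Cert.edgesOK_spec M (facts_hold M) proofsE182272_ok e (by omega) (by rw [proofsE182272_len]; omega)
  by_cases h182784 : e < 183296
  · exact Cert.edgesOK_spec M (facts_hold M) proofsE182784_ok e (by omega) (by rw [proofsE182784_len]; omega)
  by_cases h183296 : e < 183808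
  · exact Cert.edgesOK_spec M (facts_hold M) proofsE183296_ok e (by omega) (by rw [proofsE183296_len]; omega)
  by_cases h183808 : e < 184320
  · exact Cert.edgesOK_spec M (facts_hold M) proofsE183808_ok e (by omega) (by rw [proofsE183808_len]; omega)
  by_cases h184320 : e < 184832
  · exact Cert.edgesOK_spec M (facts_hold M) proofsE184320_ok e (by omega) (by rw [proofsE184320_len]; omega)
  by_cases h184832 : e < 185344
  · exact Cert.edgesOK_spec M (facts_hold M) proofsE184832_ok e (by omega) (by rw [proofsE184832_len]; omega)
  by_cases h185344 : e < 185856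
  · exact Cert.edgesOK_spec M (facts_hold M) proofsE185344_ok e (by omega) (by rw [proofsE185344_len]; omega)
  by_cases h185856 : e < 186368
  · exact Cert.edgesOK_spec M (facts_hold M) proofsE185856_ok e (by omega) (by rw [proofsE185856_len]; omega)
  by_cases h186368 : e < 186880
  · exact Cert.edgesOK_spec M (facts_hold M) proofsE186368_ok e (by omega) (by rw [proofsE186368_len]; omega)
  by_cases h186880 : e < 187392
  · exact Cert.edgesOK_spec M (facts_hold M) proofsE186880_ok e (by omega) (by rw [proofsE186880_len]; omega)
  by_cases h187392 : e < 187904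
  · exact Cert.edgesOK_spec M (facts_hold M) proofsE187392_ok e (by omega) (by rw [proofsE187392_len]; omega)
  by_cases h187904 : e < 188416
  · exact Cert.edgesOK_spec M (facts_hold M) proofsE187904_ok e (by omega) (by rw [proofsE187904_len]; omega)
  by_cases h188416 : e < 188928
  · exact Cert.edgesOK_spec M (facts_hold M) proofsE188416_ok e (by omega) (by rw [proofsE188416_len]; omega)
  by_cases h188928 : e < 189440
  · exact Cert.edgesOK_spec M (facts_hold M) proofsE188928_ok e (by omega) (by rw [proofsE188928_len]; omega)
  by_cases h189440 : e < 189952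
  · exact Cert.edgesOK_spec M (facts_hold M) proofsE189440_ok e (by omega) (by rw [proofsE189440_len]; omega)
  by_cases h189952 : e < 190464
  · exact Cert.edgesOK_spec M (facts_hold M) proofsE189952_ok e (by omega) (by rw [proofsE189952_len]; omega)
  by_cases h190464 : e < 190976
  · exact Cert.edgesOK_spec M (facts_hold M) proofsE190464_ok e (by omega) (by rw [proofsE190464_len]; omega)
  by_cases h190976 : e < 191488
  · exact Cert.edgesOK_spec M (facts_hold M) proofsE190976_ok e (by omega) (by rw [proofsE190976_len]; omega)
  by_cases h191488 : e < 192000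
  · exact Cert.edgesOK_spec M (facts_hold M) proofsE191488_ok e (by omega) (by rw [proofsE191488_len]; omega)
  by_cases h192000 : e < 192512
  · exact Cert.edgesOK_spec M (facts_hold M) proofsE192000_ok e (by omega) (by rw [proofsE192000_len]; omega)
  by_cases h192512 : e < 193024
  · exact Cert.edgesOK_spec M (facts_hold M) proofsE192512_ok e (by omega) (by rw [proofsE192512_len]; omega)
  by_cases h193024 : e < 193536
  · exact Cert.edgesOK_spec M (facts_hold M) proofsE193024_ok e (by omega) (by rw [proofsE193024_len]; omega)
  by_cases h193536 : e < 194048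
  · exact Cert.edgesOK_spec M (facts_hold M) proofsE193536_ok e (by omega) (by rw [proofsE193536_len]; omega)
  by_cases h194048 : e < 194560
  · exact Cert.edgesOK_spec M (facts_hold M) proofsE194048_ok e (by omega) (by rw [proofsE194048_len]; omega)
  by_cases h194560 : e < 195072
  · exact Cert.edgesOK_spec M (facts_hold M) proofsE194560_ok e (by omega) (by rw [proofsE194560_len]; omega)
  by_cases h195072 : e < 195584
  · exact Cert.edgesOK_spec M (facts_hold M) proofsE195072_ok e (by omega) (by rw [proofsE195072_len]; omega)
  by_cases h195584 : e < 196096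
  · exact Cert.edgesOK_spec M (facts_hold M) proofsE195584_ok e (by omega) (by rw [proofsE195584_len]; omega)
  by_cases h196096 : e < 196608
  · exact Cert.edgesOK_spec M (facts_hold M) proofsE196096_ok e (by omega) (by rw [proofsE196096_len]; omega)
  by_cases h196608 : e < 197120
  · exact Cert.edgesOK_spec M (facts_hold M) proofsE196608_ok e (by omega) (by rw [proofsE196608_len]; omega)
  by_cases h197120 : e < 197632
  · exact Cert.edgesOK_spec M (facts_hold M) proofsE197120_ok e (by omega) (by rw [proofsE197120_len]; omega)
  by_cases h197632 : e < 198144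
  · exact Cert.edgesOK_spec M (facts_hold M) proofsE197632_ok e (by omega) (by rw [proofsE197632_len]; omega)
  by_cases h198144 : e < 198656
  · exact Cert.edgesOK_spec M (facts_hold M) proofsE198144_ok e (by omega) (by rw [proofsE198144_len]; omega)
  by_cases h198656 : e < 199168
  · exact Cert.edgesOK_spec M (facts_hold M) proofsE198656_ok e (by omega) (by rw [proofsE198656_len]; omega)
  by_cases h199168 : e < 199680
  · exact Cert.edgesOK_spec M (facts_hold M) proofsE199168_ok e (by omega) (by rw [proofsE199168_len]; omega)
  by_cases h199680 : e < 200192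
  · exact Cert.edgesOK_spec M (facts_hold M) proofsE199680_ok e (by omega) (by rw [proofsE199680_len]; omega)
  by_cases h200192 : e < 200704
  · exact Cert.edgesOK_spec M (facts_hold M) proofsE200192_ok e (by omega) (by rw [proofsE200192_len]; omega)
  by_cases h200704 : e < 201216
  · exact Cert.edgesOK_spec M (facts_hold M) proofsE200704_ok e (by omega) (by rw [proofsE200704_len]; omega)
  by_cases h201216 : e < 201728
  · exact Cert.edgesOK_spec M (facts_hold M) proofsE201216_ok e (by omega) (by rw [proofsE201216_len]; omega)
  by_cases h201728 : e < 202240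
  · exact Cert.edgesOK_spec M (facts_hold M) proofsE201728_ok e (by omega) (by rw [proofsE201728_len]; omega)
  by_cases h202240 : e < 202752
  · exact Cert.edgesOK_spec M (facts_hold M) proofsE202240_ok e (by omega) (by rw [proofsE202240_len]; omega)
  by_cases h202752 : e < 203264
  · exact Cert.edgesOK_spec M (facts_hold M) proofsE202752_ok e (by omega) (by rw [proofsE202752_len]; omega)
  by_cases h203264 : e < 203776
  · exact Cert.edgesOK_spec M (facts_hold M) proofsE203264_ok e (by omega) (by rw [proofsE203264_len]; omega)
  by_cases h203776 : e < 204288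
  · exact Cert.edgesOK_spec M (facts_hold M) proofsE203776_ok e (by omega) (by rw [proofsE203776_len]; omega)
  by_cases h204288 : e < 204800
  · exact Cert.edgesOK_spec M (facts_hold M) proofsE204288_ok e (by omega) (by rw [proofsE204288_len]; omega)
  by_cases h204800 : e < 205312
  · exact Cert.edgesOK_spec M (facts_hold M) proofsE204800_ok e (by omega) (by rw [proofsE204800_len]; omega)
  by_cases h205312 : e < 205824
  · exact Cert.edgesOK_spec M (facts_hold M) proofsE205312_ok e (by omega) (by rw [proofsE205312_len]; omega)
  by_cases h205824 : e < 206336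
  · exact Cert.edgesOK_spec M (facts_hold M) proofsE205824_ok e (by omega) (by rw [proofsE205824_len]; omega)
  by_cases h206336 : e < 206848
  · exact Cert.edgesOK_spec M (facts_hold M) proofsE206336_ok e (by omega) (by rw [proofsE206336_len]; omega)
  by_cases h206848 : e < 207360
  · exact Cert.edgesOK_spec M (facts_hold M) proofsE206848_ok e (by omega) (by rw [proofsE206848_len]; omega)
  by_cases h207360 : e < 207872
  · exact Cert.edgesOK_spec M (facts_hold M) proofsE207360_ok e (by omega) (by rw [proofsE207360_len]; omega)
  by_cases h207872 : e < 208384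
  · exact Cert.edgesOK_spec M (facts_hold M) proofsE207872_ok e (by omega) (by rw [proofsE207872_len]; omega)
  by_cases h208384 : e < 208896
  · exact Cert.edgesOK_spec M (facts_hold M) proofsE208384_ok e (by omega) (by rw [proofsE208384_len]; omega)
  by_cases h208896 : e < 209408
  · exact Cert.edgesOK_spec M (facts_hold M) proofsE208896_ok e (by omega) (by rw [proofsE208896_len]; omega)
  by_cases h209408 : e < 209920
  · exact Cert.edgesOK_spec M (facts_hold M) proofsE209408_ok e (by omega) (by rw [proofsE209408_len]; omega)
  by_cases h209920 : e < 210432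
  · exact Cert.edgesOK_spec M (facts_hold M) proofsE209920_ok e (by omega) (by rw [proofsE209920_len]; omega)
  by_cases h210432 : e < 210944
  · exact Cert.edgesOK_spec M (facts_hold M) proofsE210432_ok e (by omega) (by rw [proofsE210432_len]; omega)
  by_cases h210944 : e < 211456
  · exact Cert.edgesOK_spec M (facts_hold M) proofsE210944_ok e (by omega) (by rw [proofsE210944_len]; omega)
  by_cases h211456 : e < 211968
  · exact Cert.edgesOK_spec M (facts_hold M) proofsE211456_ok e (by omega) (by rw [proofsE211456_len]; omega)
  by_cases h211968 : e < 212480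
  · exact Cert.edgesOK_spec M (facts_hold M) proofsE211968_ok e (by omega) (by rw [proofsE211968_len]; omega)
  by_cases h212480 : e < 212992
  · exact Cert.edgesOK_spec M (facts_hold M) proofsE212480_ok e (by omega) (by rw [proofsE212480_len]; omega)
  by_cases h212992 : e < 213504
  · exact Cert.edgesOK_spec M (facts_hold M) proofsE212992_ok e (by omega) (by rw [proofsE212992_len]; omega)
  by_cases h213504 : e < 214016
  · exact Cert.edgesOK_spec M (facts_hold M) proofsE213504_ok e (by omega) (by rw [proofsE213504_len]; omega)
  by_cases h214016 : e < 214528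
  · exact Cert.edgesOK_spec M (facts_hold M) proofsE214016_ok e (by omega) (by rw [proofsE214016_len]; omega)
  by_cases h214528 : e < 215040
  · exact Cert.edgesOK_spec M (facts_hold M) proofsE214528_ok e (by omega) (by rw [proofsE214528_len]; omega)
  by_cases h215040 : e < 215552
  · exact Cert.edgesOK_spec M (facts_hold M) proofsE215040_ok e (by omega) (by rw [proofsE215040_len]; omega)
  by_cases h215552 : e < 216064
  · exact Cert.edgesOK_spec M (facts_hold M) proofsE215552_ok e (by omega) (by rw [proofsE215552_len]; omega)
  by_cases h216064 : e < 216576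
  · exact Cert.edgesOK_spec M (facts_hold M) proofsE216064_ok e (by omega) (by rw [proofsE216064_len]; omega)
  by_cases h216576 : e < 217088
  · exact Cert.edgesOK_spec M (facts_hold M) proofsE216576_ok e (by omega) (by rw [proofsE216576_len]; omega)
  by_cases h217088 : e < 217600
  · exact Cert.edgesOK_spec M (facts_hold M) proofsE217088_ok e (by omega) (by rw [proofsE217088_len]; omega)
  by_cases h217600 : e < 218112
  · exact Cert.edgesOK_spec M (facts_hold M) proofsE217600_ok e (by omega) (by rw [proofsE217600_len]; omega)
  by_cases h218112 : e < 218624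
  · exact Cert.edgesOK_spec M (facts_hold M) proofsE218112_ok e (by omega) (by rw [proofsE218112_len]; omega)
  by_cases h218624 : e < 219136
  · exact Cert.edgesOK_spec M (facts_hold M) proofsE218624_ok e (by omega) (by rw [proofsE218624_len]; omega)
  by_cases h219136 : e < 219648
  · exact Cert.edgesOK_spec M (facts_hold M) proofsE219136_ok e (by omega) (by rw [proofsE219136_len]; omega)
  by_cases h219648 : e < 220160
  · exact Cert.edgesOK_spec M (facts_hold M) proofsE219648_ok e (by omega) (by rw [proofsE219648_len]; omega)
  by_cases h220160 : e < 220672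
  · exact Cert.edgesOK_spec M (facts_hold M) proofsE220160_ok e (by omega) (by rw [proofsE220160_len]; omega)
  by_cases h220672 : e < 221184
  · exact Cert.edgesOK_spec M (facts_hold M) proofsE220672_ok e (by omega) (by rw [proofsE220672_len]; omega)
  by_cases h221184 : e < 221696
  · exact Cert.edgesOK_spec M (facts_hold M) proofsE221184_ok e (by omega) (by rw [proofsE221184_len]; omega)
  by_cases h221696 : e < 222208
  · exact Cert.edgesOK_spec M (facts_hold M) proofsE221696_ok e (by omega) (by rw [proofsE221696_len]; omega)
  by_cases h222208 : e < 222720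
  · exact Cert.edgesOK_spec M (facts_hold M) proofsE222208_ok e (by omega) (by rw [proofsE222208_len]; omega)
  by_cases h222720 : e < 223232
  · exact Cert.edgesOK_spec M (facts_hold M) proofsE222720_ok e (by omega) (by rw [proofsE222720_len]; omega)
  by_cases h223232 : e < 223744
  · exact Cert.edgesOK_spec M (facts_hold M) proofsE223232_ok e (by omega) (by rw [proofsE223232_len]; omega)
  by_cases h223744 : e < 224256
  · exact Cert.edgesOK_spec M (facts_hold M) proofsE223744_ok e (by omega) (by rw [proofsE223744_len]; omega)
  by_cases h224256 : e < 224768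
  · exact Cert.edgesOK_spec M (facts_hold M) proofsE224256_ok e (by omega) (by rw [proofsE224256_len]; omega)
  by_cases h224768 : e < 225280
  · exact Cert.edgesOK_spec M (facts_hold M) proofsE224768_ok e (by omega) (by rw [proofsE224768_len]; omega)
  by_cases h225280 : e < 225792
  · exact Cert.edgesOK_spec M (facts_hold M) proofsE225280_ok e (by omega) (by rw [proofsE225280_len]; omega)
  by_cases h225792 : e < 226304
  · exact Cert.edgesOK_spec M (facts_hold M) proofsE225792_ok e (by omega) (by rw [proofsE225792_len]; omega)
  by_cases h226304 : e < 226816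
  · exact Cert.edgesOK_spec M (facts_hold M) proofsE226304_ok e (by omega) (by rw [proofsE226304_len]; omega)
  by_cases h226816 : e < 227328
  · exact Cert.edgesOK_spec M (facts_hold M) proofsE226816_ok e (by omega) (by rw [proofsE226816_len]; omega)
  by_cases h227328 : e < 227840
  · exact Cert.edgesOK_spec M (facts_hold M) proofsE227328_ok e (by omega) (by rw [proofsE227328_len]; omega)
  by_cases h227840 : e < 228352
  · exact Cert.edgesOK_spec M (facts_hold M) proofsE227840_ok e (by omega) (by rw [proofsE227840_len]; omega)
  by_cases h228352 : e < 228864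
  · exact Cert.edgesOK_spec M (facts_hold M) proofsE228352_ok e (by omega) (by rw [proofsE228352_len]; omega)
  by_cases h228864 : e < 229376
  · exact Cert.edgesOK_spec M (facts_hold M) proofsE228864_ok e (by omega) (by rw [proofsE228864_len]; omega)
  by_cases h229376 : e < 229888
  · exact Cert.edgesOK_spec M (facts_hold M) proofsE229376_ok e (by omega) (by rw [proofsE229376_len]; omega)
  by_cases h229888 : e < 230400
  · exact Cert.edgesOK_spec M (facts_hold M) proofsE229888_ok e (by omega) (by rw [proofsE229888_len]; omega)
  by_cases h230400 : e < 230912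
  · exact Cert.edgesOK_spec M (facts_hold M) proofsE230400_ok e (by omega) (by rw [proofsE230400_len]; omega)
  by_cases h230912 : e < 231424
  · exact Cert.edgesOK_spec M (facts_hold M) proofsE230912_ok e (by omega) (by rw [proofsE230912_len]; omega)
  by_cases h231424 : e < 231936
  · exact Cert.edgesOK_spec M (facts_hold M) proofsE231424_ok e (by omega) (by rw [proofsE231424_len]; omega)
  by_cases h231936 : e < 232448
  · exact Cert.edgesOK_spec M (facts_hold M) proofsE231936_ok e (by omega) (by rw [proofsE231936_len]; omega)
  by_cases h232448 : e < 232960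
  · exact Cert.edgesOK_spec M (facts_hold M) proofsE232448_ok e (by omega) (by rw [proofsE232448_len]; omega)
  by_cases h232960 : e < 233472
  · exact Cert.edgesOK_spec M (facts_hold M) proofsE232960_ok e (by omega) (by rw [proofsE232960_len]; omega)
  by_cases h233472 : e < 233984
  · exact Cert.edgesOK_spec M (facts_hold M) proofsE233472_ok e (by omega) (by rw [proofsE233472_len]; omega)
  by_cases h233984 : e < 234496
  · exact Cert.edgesOK_spec M (facts_hold M) proofsE233984_ok e (by omega) (by rw [proofsE233984_len]; omega)
  by_cases h234496 : e < 235008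
  · exact Cert.edgesOK_spec M (facts_hold M) proofsE234496_ok e (by omega) (by rw [proofsE234496_len]; omega)
  by_cases h235008 : e < 235520
  · exact Cert.edgesOK_spec M (facts_hold M) proofsE235008_ok e (by omega) (by rw [proofsE235008_len]; omega)
  by_cases h235520 : e < 236032
  · exact Cert.edgesOK_spec M (facts_hold M) proofsE235520_ok e (by omega) (by rw [proofsE235520_len]; omega)
  by_cases h236032 : e < 236544
  · exact Cert.edgesOK_spec M (facts_hold M) proofsE236032_ok e (by omega) (by rw [proofsE236032_len]; omega)
  by_cases h236544 : e < 237056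
  · exact Cert.edgesOK_spec M (facts_hold M) proofsE236544_ok e (by omega) (by rw [proofsE236544_len]; omega)
  by_cases h237056 : e < 237568
  · exact Cert.edgesOK_spec M (facts_hold M) proofsE237056_ok e (by omega) (by rw [proofsE237056_len]; omega)
  by_cases h237568 : e < 238080
  · exact Cert.edgesOK_spec M (facts_hold M) proofsE237568_ok e (by omega) (by rw [proofsE237568_len]; omega)
  by_cases h238080 : e < 238592
  · exact Cert.edgesOK_spec M (facts_hold M) proofsE238080_ok e (by omega) (by rw [proofsE238080_len]; omega)
  by_cases h238592 : e < 239104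
  · exact Cert.edgesOK_spec M (facts_hold M) proofsE238592_ok e (by omega) (by rw [proofsE238592_len]; omega)
  by_cases h239104 : e < 239616
  · exact Cert.edgesOK_spec M (facts_hold M) proofsE239104_ok e (by omega) (by rw [proofsE239104_len]; omega)
  by_cases h239616 : e < 240128
  · exact Cert.edgesOK_spec M (facts_hold M) proofsE239616_ok e (by omega) (by rw [proofsE239616_len]; omega)
  by_cases h240128 : e < 240640
  · exact Cert.edgesOK_spec M (facts_hold M) proofsE240128_ok e (by omega) (by rw [proofsE240128_len]; omega)
  by_cases h240640 : e < 241152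
  · exact Cert.edgesOK_spec M (facts_hold M) proofsE240640_ok e (by omega) (by rw [proofsE240640_len]; omega)
  by_cases h241152 : e < 241664
  · exact Cert.edgesOK_spec M (facts_hold M) proofsE241152_ok e (by omega) (by rw [proofsE241152_len]; omega)
  by_cases h241664 : e < 242176
  · exact Cert.edgesOK_spec M (facts_hold M) proofsE241664_ok e (by omega) (by rw [proofsE241664_len]; omega)
  by_cases h242176 : e < 242688
  · exact Cert.edgesOK_spec M (facts_hold M) proofsE242176_ok e (by omega) (by rw [proofsE242176_len]; omega)
  by_cases h242688 : e < 243200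
  · exact Cert.edgesOK_spec M (facts_hold M) proofsE242688_ok e (by omega) (by rw [proofsE242688_len]; omega)
  by_cases h243200 : e < 243712
  · exact Cert.edgesOK_spec M (facts_hold M) proofsE243200_ok e (by omega) (by rw [proofsE243200_len]; omega)
  by_cases h243712 : e < 244224
  · exact Cert.edgesOK_spec M (facts_hold M) proofsE243712_ok e (by omega) (by rw [proofsE243712_len]; omega)
  by_cases h244224 : e < 244736
  · exact Cert.edgesOK_spec M (facts_hold M) proofsE244224_ok e (by omega) (by rw [proofsE244224_len]; omega)
  by_cases h244736 : e < 245248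
  · exact Cert.edgesOK_spec M (facts_hold M) proofsE244736_ok e (by omega) (by rw [proofsE244736_len]; omega)
  by_cases h245248 : e < 245760
  · exact Cert.edgesOK_spec M (facts_hold M) proofsE245248_ok e (by omega) (by rw [proofsE245248_len]; omega)
  by_cases h245760 : e < 246272
  · exact Cert.edgesOK_spec M (facts_hold M) proofsE245760_ok e (by omega) (by rw [proofsE245760_len]; omega)
  by_cases h246272 : e < 246784
  · exact Cert.edgesOK_spec M (facts_hold M) proofsE246272_ok e (by omega) (by rw [proofsE246272_len]; omega)
  by_cases h246784 : e < 247296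
  · exact Cert.edgesOK_spec M (facts_hold M) proofsE246784_ok e (by omega) (by rw [proofsE246784_len]; omega)
  by_cases h247296 : e < 247808
  · exact Cert.edgesOK_spec M (facts_hold M) proofsE247296_ok e (by omega) (by rw [proofsE247296_len]; omega)
  by_cases h247808 : e < 248320
  · exact Cert.edgesOK_spec M (facts_hold M) proofsE247808_ok e (by omega) (by rw [proofsE247808_len]; omega)
  by_cases h248320 : e < 248832
  · exact Cert.edgesOK_spec M (facts_hold M) proofsE248320_ok e (by omega) (by rw [proofsE248320_len]; omega)
  by_cases h248832 : e < 249344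
  · exact Cert.edgesOK_spec M (facts_hold M) proofsE248832_ok e (by omega) (by rw [proofsE248832_len]; omega)
  by_cases h249344 : e < 249856
  · exact Cert.edgesOK_spec M (facts_hold M) proofsE249344_ok e (by omega) (by rw [proofsE249344_len]; omega)
  by_cases h249856 : e < 250368
  · exact Cert.edgesOK_spec M (facts_hold M) proofsE249856_ok e (by omega) (by rw [proofsE249856_len]; omega)
  by_cases h250368 : e < 250880
  · exact Cert.edgesOK_spec M (facts_hold M) proofsE250368_ok e (by omega) (by rw [proofsE250368_len]; omega)
  by_cases h250880 : e < 251392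
  · exact Cert.edgesOK_spec M (facts_hold M) proofsE250880_ok e (by omega) (by rw [proofsE250880_len]; omega)
  by_cases h251392 : e < 251904
  · exact Cert.edgesOK_spec M (facts_hold M) proofsE251392_ok e (by omega) (by rw [proofsE251392_len]; omega)
  by_cases h251904 : e < 252416
  · exact Cert.edgesOK_spec M (facts_hold M) proofsE251904_ok e (by omega) (by rw [proofsE251904_len]; omega)
  by_cases h252416 : e < 252928
  · exact Cert.edgesOK_spec M (facts_hold M) proofsE252416_ok e (by omega) (by rw [proofsE252416_len]; omega)
  by_cases h252928 : e < 253440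
  · exact Cert.edgesOK_spec M (facts_hold M) proofsE252928_ok e (by omega) (by rw [proofsE252928_len]; omega)
  by_cases h253440 : e < 253952
  · exact Cert.edgesOK_spec M (facts_hold M) proofsE253440_ok e (by omega) (by rw [proofsE253440_len]; omega)
  by_cases h253952 : e < 254464
  · exact Cert.edgesOK_spec M (facts_hold M) proofsE253952_ok e (by omega) (by rw [proofsE253952_len]; omega)
  by_cases h254464 : e < 254976
  · exact Cert.edgesOK_spec M (facts_hold M) proofsE254464_ok e (by omega) (by rw [proofsE254464_len]; omega)
  by_cases h254976 : e < 255488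
  · exact Cert.edgesOK_spec M (facts_hold M) proofsE254976_ok e (by omega) (by rw [proofsE254976_len]; omega)
  by_cases h255488 : e < 256000
  · exact Cert.edgesOK_spec M (facts_hold M) proofsE255488_ok e (by omega) (by rw [proofsE255488_len]; omega)
  by_cases h256000 : e < 256512
  · exact Cert.edgesOK_spec M (facts_hold M) proofsE256000_ok e (by omega) (by rw [proofsE256000_len]; omega)
  by_cases h256512 : e < 257024
  · exact Cert.edgesOK_spec M (facts_hold M) proofsE256512_ok e (by omega) (by rw [proofsE256512_len]; omega)
  by_cases h257024 : e < 257536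
  · exact Cert.edgesOK_spec M (facts_hold M) proofsE257024_ok e (by omega) (by rw [proofsE257024_len]; omega)
  by_cases h257536 : e < 258048
  · exact Cert.edgesOK_spec M (facts_hold M) proofsE257536_ok e (by omega) (by rw [proofsE257536_len]; omega)
  by_cases h258048 : e < 258560
  · exact Cert.edgesOK_spec M (facts_hold M) proofsE258048_ok e (by omega) (by rw [proofsE258048_len]; omega)
  by_cases h258560 : e < 259072
  · exact Cert.edgesOK_spec M (facts_hold M) proofsE258560_ok e (by omega) (by rw [proofsE258560_len]; omega)
  by_cases h259072 : e < 259584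
  · exact Cert.edgesOK_spec M (facts_hold M) proofsE259072_ok e (by omega) (by rw [proofsE259072_len]; omega)
  by_cases h259584 : e < 260096
  · exact Cert.edgesOK_spec M (facts_hold M) proofsE259584_ok e (by omega) (by rw [proofsE259584_len]; omega)
  by_cases h260096 : e < 260608
  · exact Cert.edgesOK_spec M (facts_hold M) proofsE260096_ok e (by omega) (by rw [proofsE260096_len]; omega)
  by_cases h260608 : e < 261120
  · exact Cert.edgesOK_spec M (facts_hold M) proofsE260608_ok e (by omega) (by rw [proofsE260608_len]; omega)
  by_cases h261120 : e < 261632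
  · exact Cert.edgesOK_spec M (facts_hold M) proofsE261120_ok e (by omega) (by rw [proofsE261120_len]; omega)
  by_cases h261632 : e < 262144
  · exact Cert.edgesOK_spec M (facts_hold M) proofsE261632_ok e (by omega) (by rw [proofsE261632_len]; omega)
  by_cases h262144 : e < 262656
  · exact Cert.edgesOK_spec M (facts_hold M) proofsE262144_ok e (by omega) (by rw [proofsE262144_len]; omega)
  by_cases h262656 : e < 263168
  · exact Cert.edgesOK_spec M (facts_hold M) proofsE262656_ok e (by omega) (by rw [proofsE262656_len]; omega)
  by_cases h263168 : e < 263680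
  · exact Cert.edgesOK_spec M (facts_hold M) proofsE263168_ok e (by omega) (by rw [proofsE263168_len]; omega)
  by_cases h263680 : e < 264192
  · exact Cert.edgesOK_spec M (facts_hold M) proofsE263680_ok e (by omega) (by rw [proofsE263680_len]; omega)
  by_cases h264192 : e < 264704
  · exact Cert.edgesOK_spec M (facts_hold M) proofsE264192_ok e (by omega) (by rw [proofsE264192_len]; omega)
  by_cases h264704 : e < 265216
  · exact Cert.edgesOK_spec M (facts_hold M) proofsE264704_ok e (by omega) (by rw [proofsE264704_len]; omega)
  by_cases h265216 : e < 265728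
  · exact Cert.edgesOK_spec M (facts_hold M) proofsE265216_ok e (by omega) (by rw [proofsE265216_len]; omega)
  by_cases h265728 : e < 266240
  · exact Cert.edgesOK_spec M (facts_hold M) proofsE265728_ok e (by omega) (by rw [proofsE265728_len]; omega)
  by_cases h266240 : e < 266752
  · exact Cert.edgesOK_spec M (facts_hold M) proofsE266240_ok e (by omega) (by rw [proofsE266240_len]; omega)
  by_cases h266752 : e < 267264
  · exact Cert.edgesOK_spec M (facts_hold M) proofsE266752_ok e (by omega) (by rw [proofsE266752_len]; omega)
  by_cases h267264 : e < 267776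
  · exact Cert.edgesOK_spec M (facts_hold M) proofsE267264_ok e (by omega) (by rw [proofsE267264_len]; omega)
  by_cases h267776 : e < 268288
  · exact Cert.edgesOK_spec M (facts_hold M) proofsE267776_ok e (by omega) (by rw [proofsE267776_len]; omega)
  by_cases h268288 : e < 268800
  · exact Cert.edgesOK_spec M (facts_hold M) proofsE268288_ok e (by omega) (by rw [proofsE268288_len]; omega)
  by_cases h268800 : e < 269312
  · exact Cert.edgesOK_spec M (facts_hold M) proofsE268800_ok e (by omega) (by rw [proofsE268800_len]; omega)
  by_cases h269312 : e < 269824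
  · exact Cert.edgesOK_spec M (facts_hold M) proofsE269312_ok e (by omega) (by rw [proofsE269312_len]; omega)
  by_cases h269824 : e < 270336
  · exact Cert.edgesOK_spec M (facts_hold M) proofsE269824_ok e (by omega) (by rw [proofsE269824_len]; omega)
  by_cases h270336 : e < 270848
  · exact Cert.edgesOK_spec M (facts_hold M) proofsE270336_ok e (by omega) (by rw [proofsE270336_len]; omega)
  by_cases h270848 : e < 271360
  · exact Cert.edgesOK_spec M (facts_hold M) proofsE270848_ok e (by omega) (by rw [proofsE270848_len]; omega)
  by_cases h271360 : e < 271872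
  · exact Cert.edgesOK_spec M (facts_hold M) proofsE271360_ok e (by omega) (by rw [proofsE271360_len]; omega)
  by_cases h271872 : e < 272384
  · exact Cert.edgesOK_spec M (facts_hold M) proofsE271872_ok e (by omega) (by rw [proofsE271872_len]; omega)
  by_cases h272384 : e < 272896
  · exact Cert.edgesOK_spec M (facts_hold M) proofsE272384_ok e (by omega) (by rw [proofsE272384_len]; omega)
  by_cases h272896 : e < 273408
  · exact Cert.edgesOK_spec M (facts_hold M) proofsE272896_ok e (by omega) (by rw [proofsE272896_len]; omega)
  by_cases h273408 : e < 273920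
  · exact Cert.edgesOK_spec M (facts_hold M) proofsE273408_ok e (by omega) (by rw [proofsE273408_len]; omega)
  by_cases h273920 : e < 274432
  · exact Cert.edgesOK_spec M (facts_hold M) proofsE273920_ok e (by omega) (by rw [proofsE273920_len]; omega)
  by_cases h274432 : e < 274944
  · exact Cert.edgesOK_spec M (facts_hold M) proofsE274432_ok e (by omega) (by rw [proofsE274432_len]; omega)
  by_cases h274944 : e < 275456
  · exact Cert.edgesOK_spec M (facts_hold M) proofsE274944_ok e (by omega) (by rw [proofsE274944_len]; omega)
  by_cases h275456 : e < 275968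
  · exact Cert.edgesOK_spec M (facts_hold M) proofsE275456_ok e (by omega) (by rw [proofsE275456_len]; omega)
  by_cases h275968 : e < 276480
  · exact Cert.edgesOK_spec M (facts_hold M) proofsE275968_ok e (by omega) (by rw [proofsE275968_len]; omega)
  by_cases h276480 : e < 276992
  · exact Cert.edgesOK_spec M (facts_hold M) proofsE276480_ok e (by omega) (by rw [proofsE276480_len]; omega)
  by_cases h276992 : e < 277504
  · exact Cert.edgesOK_spec M (facts_hold M) proofsE276992_ok e (by omega) (by rw [proofsE276992_len]; omega)
  by_cases h277504 : e < 278016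
  · exact Cert.edgesOK_spec M (facts_hold M) proofsE277504_ok e (by omega) (by rw [proofsE277504_len]; omega)
  by_cases h278016 : e < 278528
  · exact Cert.edgesOK_spec M (facts_hold M) proofsE278016_ok e (by omega) (by rw [proofsE278016_len]; omega)
  by_cases h278528 : e < 279040
  · exact Cert.edgesOK_spec M (facts_hold M) proofsE278528_ok e (by omega) (by rw [proofsE278528_len]; omega)
  by_cases h279040 : e < 279552
  · exact Cert.edgesOK_spec M (facts_hold M) proofsE279040_ok e (by omega) (by rw [proofsE279040_len]; omega)
  by_cases h279552 : e < 280064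
  · exact Cert.edgesOK_spec M (facts_hold M) proofsE279552_ok e (by omega) (by rw [proofsE279552_len]; omega)
  by_cases h280064 : e < 280576
  · exact Cert.edgesOK_spec M (facts_hold M) proofsE280064_ok e (by omega) (by rw [proofsE280064_len]; omega)
  by_cases h280576 : e < 281088
  · exact Cert.edgesOK_spec M (facts_hold M) proofsE280576_ok e (by omega) (by rw [proofsE280576_len]; omega)
  by_cases h281088 : e < 281600
  · exact Cert.edgesOK_spec M (facts_hold M) proofsE281088_ok e (by omega) (by rw [proofsE281088_len]; omega)
  by_cases h281600 : e < 282112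
  · exact Cert.edgesOK_spec M (facts_hold M) proofsE281600_ok e (by omega) (by rw [proofsE281600_len]; omega)
  by_cases h282112 : e < 282624
  · exact Cert.edgesOK_spec M (facts_hold M) proofsE282112_ok e (by omega) (by rw [proofsE282112_len]; omega)
  by_cases h282624 : e < 283136
  · exact Cert.edgesOK_spec M (facts_hold M) proofsE282624_ok e (by omega) (by rw [proofsE282624_len]; omega)
  by_cases h283136 : e < 283648
  · exact Cert.edgesOK_spec M (facts_hold M) proofsE283136_ok e (by omega) (by rw [proofsE283136_len]; omega)
  by_cases h283648 : e < 284160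
  · exact Cert.edgesOK_spec M (facts_hold M) proofsE283648_ok e (by omega) (by rw [proofsE283648_len]; omega)
  by_cases h284160 : e < 284672
  · exact Cert.edgesOK_spec M (facts_hold M) proofsE284160_ok e (by omega) (by rw [proofsE284160_len]; omega)
  by_cases h284672 : e < 285184
  · exact Cert.edgesOK_spec M (facts_hold M) proofsE284672_ok e (by omega) (by rw [proofsE284672_len]; omega)
  by_cases h285184 : e < 285696
  · exact Cert.edgesOK_spec M (facts_hold M) proofsE285184_ok e (by omega) (by rw [proofsE285184_len]; omega)
  by_cases h285696 : e < 286208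
  · exact Cert.edgesOK_spec M (facts_hold M) proofsE285696_ok e (by omega) (by rw [proofsE285696_len]; omega)
  by_cases h286208 : e < 286720
  · exact Cert.edgesOK_spec M (facts_hold M) proofsE286208_ok e (by omega) (by rw [proofsE286208_len]; omega)
  by_cases h286720 : e < 287232
  · exact Cert.edgesOK_spec M (facts_hold M) proofsE286720_ok e (by omega) (by rw [proofsE286720_len]; omega)
  by_cases h287232 : e < 287744
  · exact Cert.edgesOK_spec M (facts_hold M) proofsE287232_ok e (by omega) (by rw [proofsE287232_len]; omega)
  by_cases h287744 : e < 288256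
  · exact Cert.edgesOK_spec M (facts_hold M) proofsE287744_ok e (by omega) (by rw [proofsE287744_len]; omega)
  by_cases h288256 : e < 288768
  · exact Cert.edgesOK_spec M (facts_hold M) proofsE288256_ok e (by omega) (by rw [proofsE288256_len]; omega)
  by_cases h288768 : e < 289280
  · exact Cert.edgesOK_spec M (facts_hold M) proofsE288768_ok e (by omega) (by rw [proofsE288768_len]; omega)
  by_cases h289280 : e < 289792
  · exact Cert.edgesOK_spec M (facts_hold M) proofsE289280_ok e (by omega) (by rw [proofsE289280_len]; omega)
  by_cases h289792 : e < 290304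
  · exact Cert.edgesOK_spec M (facts_hold M) proofsE289792_ok e (by omega) (by rw [proofsE289792_len]; omega)
  by_cases h290304 : e < 290816
  · exact Cert.edgesOK_spec M (facts_hold M) proofsE290304_ok e (by omega) (by rw [proofsE290304_len]; omega)
  by_cases h290816 : e < 291328
  · exact Cert.edgesOK_spec M (facts_hold M) proofsE290816_ok e (by omega) (by rw [proofsE290816_len]; omega)
  by_cases h291328 : e < 291840
  · exact Cert.edgesOK_spec M (facts_hold M) proofsE291328_ok e (by omega) (by rw [proofsE291328_len]; omega)
  by_cases h291840 : e < 292352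
  · exact Cert.edgesOK_spec M (facts_hold M) proofsE291840_ok e (by omega) (by rw [proofsE291840_len]; omega)
  by_cases h292352 : e < 292864
  · exact Cert.edgesOK_spec M (facts_hold M) proofsE292352_ok e (by omega) (by rw [proofsE292352_len]; omega)
  by_cases h292864 : e < 293376
  · exact Cert.edgesOK_spec M (facts_hold M) proofsE292864_ok e (by omega) (by rw [proofsE292864_len]; omega)
  by_cases h293376 : e < 293888
  · exact Cert.edgesOK_spec M (facts_hold M) proofsE293376_ok e (by omega) (by rw [proofsE293376_len]; omega)
  by_cases h293888 : e < 294400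
  · exact Cert.edgesOK_spec M (facts_hold M) proofsE293888_ok e (by omega) (by rw [proofsE293888_len]; omega)
  by_cases h294400 : e < 294912
  · exact Cert.edgesOK_spec M (facts_hold M) proofsE294400_ok e (by omega) (by rw [proofsE294400_len]; omega)
  by_cases h294912 : e < 295424
  · exact Cert.edgesOK_spec M (facts_hold M) proofsE294912_ok e (by omega) (by rw [proofsE294912_len]; omega)
  by_cases h295424 : e < 295936
  · exact Cert.edgesOK_spec M (facts_hold M) proofsE295424_ok e (by omega) (by rw [proofsE295424_len]; omega)
  by_cases h295936 : e < 296448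
  · exact Cert.edgesOK_spec M (facts_hold M) proofsE295936_ok e (by omega) (by rw [proofsE295936_len]; omega)
  by_cases h296448 : e < 296960
  · exact Cert.edgesOK_spec M (facts_hold M) proofsE296448_ok e (by omega) (by rw [proofsE296448_len]; omega)
  by_cases h296960 : e < 297472
  · exact Cert.edgesOK_spec M (facts_hold M) proofsE296960_ok e (by omega) (by rw [proofsE296960_len]; omega)
  by_cases h297472 : e < 297984
  · exact Cert.edgesOK_spec M (facts_hold M) proofsE297472_ok e (by omega) (by rw [proofsE297472_len]; omega)
  by_cases h297984 : e < 298496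
  · exact Cert.edgesOK_spec M (facts_hold M) proofsE297984_ok e (by omega) (by rw [proofsE297984_len]; omega)
  by_cases h298496 : e < 299008
  · exact Cert.edgesOK_spec M (facts_hold M) proofsE298496_ok e (by omega) (by rw [proofsE298496_len]; omega)
  by_cases h299008 : e < 299520
  · exact Cert.edgesOK_spec M (facts_hold M) proofsE299008_ok e (by omega) (by rw [proofsE299008_len]; omega)
  by_cases h299520 : e < 300032
  · exact Cert.edgesOK_spec M (facts_hold M) proofsE299520_ok e (by omega) (by rw [proofsE299520_len]; omega)
  by_cases h300032 : e < 300544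
  · exact Cert.edgesOK_spec M (facts_hold M) proofsE300032_ok e (by omega) (by rw [proofsE300032_len]; omega)
  by_cases h300544 : e < 301056
  · exact Cert.edgesOK_spec M (facts_hold M) proofsE300544_ok e (by omega) (by rw [proofsE300544_len]; omega)
  by_cases h301056 : e < 301568
  · exact Cert.edgesOK_spec M (facts_hold M) proofsE301056_ok e (by omega) (by rw [proofsE301056_len]; omega)
  by_cases h301568 : e < 302080
  · exact Cert.edgesOK_spec M (facts_hold M) proofsE301568_ok e (by omega) (by rw [proofsE301568_len]; omega)
  by_cases h302080 : e < 302592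
  · exact Cert.edgesOK_spec M (facts_hold M) proofsE302080_ok e (by omega) (by rw [proofsE302080_len]; omega)
  by_cases h302592 : e < 303104
  · exact Cert.edgesOK_spec M (facts_hold M) proofsE302592_ok e (by omega) (by rw [proofsE302592_len]; omega)
  by_cases h303104 : e < 303616
  · exact Cert.edgesOK_spec M (facts_hold M) proofsE303104_ok e (by omega) (by rw [proofsE303104_len]; omega)
  by_cases h303616 : e < 304128
  · exact Cert.edgesOK_spec M (facts_hold M) proofsE303616_ok e (by omega) (by rw [proofsE303616_len]; omega)
  by_cases h304128 : e < 304640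
  · exact Cert.edgesOK_spec M (facts_hold M) proofsE304128_ok e (by omega) (by rw [proofsE304128_len]; omega)
  by_cases h304640 : e < 305152
  · exact Cert.edgesOK_spec M (facts_hold M) proofsE304640_ok e (by omega) (by rw [proofsE304640_len]; omega)
  by_cases h305152 : e < 305664
  · exact Cert.edgesOK_spec M (facts_hold M) proofsE305152_ok e (by omega) (by rw [proofsE305152_len]; omega)
  by_cases h305664 : e < 306176
  · exact Cert.edgesOK_spec M (facts_hold M) proofsE305664_ok e (by omega) (by rw [proofsE305664_len]; omega)
  by_cases h306176 : e < 306688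
  · exact Cert.edgesOK_spec M (facts_hold M) proofsE306176_ok e (by omega) (by rw [proofsE306176_len]; omega)
  by_cases h306688 : e < 307200
  · exact Cert.edgesOK_spec M (facts_hold M) proofsE306688_ok e (by omega) (by rw [proofsE306688_len]; omega)
  by_cases h307200 : e < 307712
  · exact Cert.edgesOK_spec M (facts_hold M) proofsE307200_ok e (by omega) (by rw [proofsE307200_len]; omega)
  by_cases h307712 : e < 308224
  · exact Cert.edgesOK_spec M (facts_hold M) proofsE307712_ok e (by omega) (by rw [proofsE307712_len]; omega)
  by_cases h308224 : e < 308736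
  · exact Cert.edgesOK_spec M (facts_hold M) proofsE308224_ok e (by omega) (by rw [proofsE308224_len]; omega)
  by_cases h308736 : e < 309248
  · exact Cert.edgesOK_spec M (facts_hold M) proofsE308736_ok e (by omega) (by rw [proofsE308736_len]; omega)
  by_cases h309248 : e < 309760
  · exact Cert.edgesOK_spec M (facts_hold M) proofsE309248_ok e (by omega) (by rw [proofsE309248_len]; omega)
  by_cases h309760 : e < 310272
  · exact Cert.edgesOK_spec M (facts_hold M) proofsE309760_ok e (by omega) (by rw [proofsE309760_len]; omega)
  by_cases h310272 : e < 310784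
  · exact Cert.edgesOK_spec M (facts_hold M) proofsE310272_ok e (by omega) (by rw [proofsE310272_len]; omega)
  by_cases h310784 : e < 311296
  · exact Cert.edgesOK_spec M (facts_hold M) proofsE310784_ok e (by omega) (by rw [proofsE310784_len]; omega)
  by_cases h311296 : e < 311808
  · exact Cert.edgesOK_spec M (facts_hold M) proofsE311296_ok e (by omega) (by rw [proofsE311296_len]; omega)
  by_cases h311808 : e < 312320
  · exact Cert.edgesOK_spec M (facts_hold M) proofsE311808_ok e (by omega) (by rw [proofsE311808_len]; omega)
  by_cases h312320 : e < 312832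
  · exact Cert.edgesOK_spec M (facts_hold M) proofsE312320_ok e (by omega) (by rw [proofsE312320_len]; omega)
  by_cases h312832 : e < 313344
  · exact Cert.edgesOK_spec M (facts_hold M) proofsE312832_ok e (by omega) (by rw [proofsE312832_len]; omega)
  by_cases h313344 : e < 313856
  · exact Cert.edgesOK_spec M (facts_hold M) proofsE313344_ok e (by omega) (by rw [proofsE313344_len]; omega)
  by_cases h313856 : e < 314368
  · exact Cert.edgesOK_spec M (facts_hold M) proofsE313856_ok e (by omega) (by rw [proofsE313856_len]; omega)
  by_cases h314368 : e < 314880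
  · exact Cert.edgesOK_spec M (facts_hold M) proofsE314368_ok e (by omega) (by rw [proofsE314368_len]; omega)
  by_cases h314880 : e < 315392
  · exact Cert.edgesOK_spec M (facts_hold M) proofsE314880_ok e (by omega) (by rw [proofsE314880_len]; omega)
  by_cases h315392 : e < 315904
  · exact Cert.edgesOK_spec M (facts_hold M) proofsE315392_ok e (by omega) (by rw [proofsE315392_len]; omega)
  by_cases h315904 : e < 316416
  · exact Cert.edgesOK_spec M (facts_hold M) proofsE315904_ok e (by omega) (by rw [proofsE315904_len]; omega)
  exact Cert.edgesOK_spec M (facts_hold M) proofsE316416_ok e (by omega) (by rw [proofsE316416_len]; omega)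

/-- Every element is in one of the cosets. -/
theorem covers (M : Cert.Model cert φ K) : ∀ x ∈ Subgroup.closure (φ '' Set.Iio 10),
    ∃ i < 31671, x * (cert.pt φ (nodeOf ord i))⁻¹ ∈ K :=
  Cert.cover (P := tab) (ord := ord) M.inv rfl (by decide +kernel) (by decide +kernel)
    (fun e he => edges_hold M e he)

end Cfsg.Agent.Lib.SporPres.FiTwentyThree.S31671
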