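import Cfsg.Agent.Lib.SporPres.FiTwentyThree.S14080Part0
import Cfsg.Agent.Lib.SporPres.FiTwentyThree.S14080Part1
import Cfsg.Agent.Lib.SporPres.FiTwentyThree.S14080Part2
import Cfsg.Agent.Lib.SporPres.FiTwentyThree.S14080Part3
import Cfsg.Agent.Lib.SporPres.FiTwentyThree.S14080Part4
import Cfsg.Agent.Lib.SporPres.FiTwentyThree.S14080Part5
import Cfsg.Agent.Lib.SporPres.FiTwentyThree.S14080Part6
import Cfsg.Agent.Lib.SporPres.FiTwentyThree.S14080Part7
import Cfsg.Agent.Lib.SporPres.FiTwentyThree.S14080Part8
import Cfsg.Agent.Lib.SporPres.FiTwentyThree.S14080Part9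
import Cfsg.Agent.Lib.SporPres.FiTwentyThree.S14080Part10
import Cfsg.Agent.Lib.SporPres.FiTwentyThree.S14080Part11
import Cfsg.Agent.Lib.SporPres.FiTwentyThree.S14080Part12
import Cfsg.Agent.Lib.SporPres.FiTwentyThree.S14080Part13

/-! # Generated coset enumeration data: S14080 -/

set_option autoImplicit false

namespace Cfsg.Agent.Lib.SporPres.FiTwentyThree.S14080

open Cfsg.Agent.Lib.Coset

variable {Γ : Type*} [Group Γ] {φ : ℕ → Γ} {K : Subgroup Γ}

theorem facts_hold (M : Cert.Model cert φ K) : ∀ j < cert.nfacts, cert.Holds φ K j := by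
  have h : ∀ j < 0, cert.Holds φ K j := fun j hj => absurd hj (Nat.not_lt_zero j)
  have h : ∀ j < 512, cert.Holds φ K j := fun j hj =>
    Cert.blockOK_spec M h proofsB0_ok j (by rw [proofsB0_len]; omega)
  have h : ∀ j < 1024, cert.Holds φ K j := fun j hj =>
    Cert.blockOK_spec M h proofsB512_ok j (by rw [proofsB512_len]; omega)
  have h : ∀ j < 1536, cert.Holds φ K j := fun j hj =>
    Cert.blockOK_spec M h proofsB1024_ok j (by rw [proofsB1024_len]; omega)
  have h : ∀ j < 2048, cert.Holds φ K j := fun j hj =>
    Cert.blockOK_spec M h proofsB1536_ok j (by rw [proofsB1536_len]; omega)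
  have h : ∀ j < 2560, cert.Holds φ K j := fun j hj =>
    Cert.blockOK_spec M h proofsB2048_ok j (by rw [proofsB2048_len]; omega)
  have h : ∀ j < 3072, cert.Holds φ K j := fun j hj =>
    Cert.blockOK_spec M h proofsB2560_ok j (by rw [proofsB2560_len]; omega)
  have h : ∀ j < 3584, cert.Holds φ K j := fun j hj =>
    Cert.blockOK_spec M h proofsB3072_ok j (by rw [proofsB3072_len]; omega)
  have h : ∀ j < 4096, cert.Holds φ K j := fun j hj =>
    Cert.blockOK_spec M h proofsB3584_ok j (by rw [proofsB3584_len]; omega)
  have h : ∀ j < 4608, cert.Holds φ K j := fun j hj =>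
    Cert.blockOK_spec M h proofsB4096_ok j (by rw [proofsB4096_len]; omega)
  have h : ∀ j < 5120, cert.Holds φ K j := fun j hj =>
    Cert.blockOK_spec M h proofsB4608_ok j (by rw [proofsB4608_len]; omega)
  have h : ∀ j < 5632, cert.Holds φ K j := fun j hj =>
    Cert.blockOK_spec M h proofsB5120_ok j (by rw [proofsB5120_len]; omega)
  have h : ∀ j < 6144, cert.Holds φ K j := fun j hj =>
    Cert.blockOK_spec M h proofsB5632_ok j (by rw [proofsB5632_len]; omega)
  have h : ∀ j < 6656, cert.Holds φ K j := fun j hj =>
    Cert.blockOK_spec M h proofsB6144_ok j (by rw [proofsB6144_len]; omega)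
  have h : ∀ j < 7168, cert.Holds φ K j := fun j hj =>
    Cert.blockOK_spec M h proofsB6656_ok j (by rw [proofsB6656_len]; omega)
  have h : ∀ j < 7680, cert.Holds φ K j := fun j hj =>
    Cert.blockOK_spec M h proofsB7168_ok j (by rw [proofsB7168_len]; omega)
  have h : ∀ j < 8192, cert.Holds φ K j := fun j hj =>
    Cert.blockOK_spec M h proofsB7680_ok j (by rw [proofsB7680_len]; omega)
  have h : ∀ j < 8704, cert.Holds φ K j := fun j hj =>
    Cert.blockOK_spec M h proofsB8192_ok j (by rw [proofsB8192_len]; omega)
  have h : ∀ j < 9216, cert.Holds φ K j := fun j hj =>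
    Cert.blockOK_spec M h proofsB8704_ok j (by rw [proofsB8704_len]; omega)
  have h : ∀ j < 9728, cert.Holds φ K j := fun j hj =>
    Cert.blockOK_spec M h proofsB9216_ok j (by rw [proofsB9216_len]; omega)
  have h : ∀ j < 10240, cert.Holds φ K j := fun j hj =>
    Cert.blockOK_spec M h proofsB9728_ok j (by rw [proofsB9728_len]; omega)
  have h : ∀ j < 10752, cert.Holds φ K j := fun j hj =>
    Cert.blockOK_spec M h proofsB10240_ok j (by rw [proofsB10240_len]; omega)
  have h : ∀ j < 11264, cert.Holds φ K j := fun j hj =>
    Cert.blockOK_spec M h proofsB10752_ok j (by rw [proofsB10752_len]; omega)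
  have h : ∀ j < 11776, cert.Holds φ K j := fun j hj =>
    Cert.blockOK_spec M h proofsB11264_ok j (by rw [proofsB11264_len]; omega)
  have h : ∀ j < 12288, cert.Holds φ K j := fun j hj =>
    Cert.blockOK_spec M h proofsB11776_ok j (by rw [proofsB11776_len]; omega)
  have h : ∀ j < 12800, cert.Holds φ K j := fun j hj =>
    Cert.blockOK_spec M h proofsB12288_ok j (by rw [proofsB12288_len]; omega)
  have h : ∀ j < 13312, cert.Holds φ K j := fun j hj =>
    Cert.blockOK_spec M h proofsB12800_ok j (by rw [proofsB12800_len]; omega)
  have h : ∀ j < 13824, cert.Holds φ K j := fun j hj =>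
    Cert.blockOK_spec M h proofsB13312_ok j (by rw [proofsB13312_len]; omega)
  have h : ∀ j < 14336, cert.Holds φ K j := fun j hj =>
    Cert.blockOK_spec M h proofsB13824_ok j (by rw [proofsB13824_len]; omega)
  have h : ∀ j < 14848, cert.Holds φ K j := fun j hj =>
    Cert.blockOK_spec M h proofsB14336_ok j (by rw [proofsB14336_len]; omega)
  have h : ∀ j < 15360, cert.Holds φ K j := fun j hj =>
    Cert.blockOK_spec M h proofsB14848_ok j (by rw [proofsB14848_len]; omega)
  have h : ∀ j < 15872, cert.Holds φ K j := fun j hj =>
    Cert.blockOK_spec M h proofsB15360_ok j (by rw [proofsB15360_len]; omega)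
  have h : ∀ j < 16384, cert.Holds φ K j := fun j hj =>
    Cert.blockOK_spec M h proofsB15872_ok j (by rw [proofsB15872_len]; omega)
  have h : ∀ j < 16896, cert.Holds φ K j := fun j hj =>
    Cert.blockOK_spec M h proofsB16384_ok j (by rw [proofsB16384_len]; omega)
  have h : ∀ j < 17408, cert.Holds φ K j := fun j hj =>
    Cert.blockOK_spec M h proofsB16896_ok j (by rw [proofsB16896_len]; omega)
  have h : ∀ j < 17920, cert.Holds φ K j := fun j hj =>
    Cert.blockOK_spec M h proofsB17408_ok j (by rw [proofsB17408_len]; omega)
  have h : ∀ j < 18432, cert.Holds φ K j := fun j hj =>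
    Cert.blockOK_spec M h proofsB17920_ok j (by rw [proofsB17920_len]; omega)
  have h : ∀ j < 18944, cert.Holds φ K j := fun j hj =>
    Cert.blockOK_spec M h proofsB18432_ok j (by rw [proofsB18432_len]; omega)
  have h : ∀ j < 19456, cert.Holds φ K j := fun j hj =>
    Cert.blockOK_spec M h proofsB18944_ok j (by rw [proofsB18944_len]; omega)
  have h : ∀ j < 19968, cert.Holds φ K j := fun j hj =>
    Cert.blockOK_spec M h proofsB19456_ok j (by rw [proofsB19456_len]; omega)
  have h : ∀ j < 20480, cert.Holds φ K j := fun j hj =>
    Cert.blockOK_spec M h proofsB19968_ok j (by rw [proofsB19968_len]; omega)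
  have h : ∀ j < 20992, cert.Holds φ K j := fun j hj =>
    Cert.blockOK_spec M h proofsB20480_ok j (by rw [proofsB20480_len]; omega)
  have h : ∀ j < 21504, cert.Holds φ K j := fun j hj =>
    Cert.blockOK_spec M h proofsB20992_ok j (by rw [proofsB20992_len]; omega)
  have h : ∀ j < 22016, cert.Holds φ K j := fun j hj =>
    Cert.blockOK_spec M h proofsB21504_ok j (by rw [proofsB21504_len]; omega)
  have h : ∀ j < 22528, cert.Holds φ K j := fun j hj =>
    Cert.blockOK_spec M h proofsB22016_ok j (by rw [proofsB22016_len]; omega)
  have h : ∀ j < 23040, cert.Holds φ K j := fun j hj =>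
    Cert.blockOK_spec M h proofsB22528_ok j (by rw [proofsB22528_len]; omega)
  have h : ∀ j < 23552, cert.Holds φ K j := fun j hj =>
    Cert.blockOK_spec M h proofsB23040_ok j (by rw [proofsB23040_len]; omega)
  have h : ∀ j < 24064, cert.Holds φ K j := fun j hj =>
    Cert.blockOK_spec M h proofsB23552_ok j (by rw [proofsB23552_len]; omega)
  have h : ∀ j < 24576, cert.Holds φ K j := fun j hj =>
    Cert.blockOK_spec M h proofsB24064_ok j (by rw [proofsB24064_len]; omega)
  have h : ∀ j < 25088, cert.Holds φ K j := fun j hj =>
    Cert.blockOK_spec M h proofsB24576_ok j (by rw [proofsB24576_len]; omega)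
  have h : ∀ j < 25600, cert.Holds φ K j := fun j hj =>
    Cert.blockOK_spec M h proofsB25088_ok j (by rw [proofsB25088_len]; omega)
  have h : ∀ j < 26112, cert.Holds φ K j := fun j hj =>
    Cert.blockOK_spec M h proofsB25600_ok j (by rw [proofsB25600_len]; omega)
  have h : ∀ j < 26624, cert.Holds φ K j := fun j hj =>
    Cert.blockOK_spec M h proofsB26112_ok j (by rw [proofsB26112_len]; omega)
  have h : ∀ j < 27136, cert.Holds φ K j := fun j hj =>
    Cert.blockOK_spec M h proofsB26624_ok j (by rw [proofsB26624_len]; omega)
  have h : ∀ j < 27648, cert.Holds φ K j := fun j hj =>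
    Cert.blockOK_spec M h proofsB27136_ok j (by rw [proofsB27136_len]; omega)
  have h : ∀ j < 28160, cert.Holds φ K j := fun j hj =>
    Cert.blockOK_spec M h proofsB27648_ok j (by rw [proofsB27648_len]; omega)
  have h : ∀ j < 28672, cert.Holds φ K j := fun j hj =>
    Cert.blockOK_spec M h proofsB28160_ok j (by rw [proofsB28160_len]; omega)
  have h : ∀ j < 29184, cert.Holds φ K j := fun j hj =>
    Cert.blockOK_spec M h proofsB28672_ok j (by rw [proofsB28672_len]; omega)
  have h : ∀ j < 29696, cert.Holds φ K j := fun j hj =>
    Cert.blockOK_spec M h proofsB29184_ok j (by rw [proofsB29184_len]; omega)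
  have h : ∀ j < 30208, cert.Holds φ K j := fun j hj =>
    Cert.blockOK_spec M h proofsB29696_ok j (by rw [proofsB29696_len]; omega)
  have h : ∀ j < 30720, cert.Holds φ K j := fun j hj =>
    Cert.blockOK_spec M h proofsB30208_ok j (by rw [proofsB30208_len]; omega)
  have h : ∀ j < 31232, cert.Holds φ K j := fun j hj =>
    Cert.blockOK_spec M h proofsB30720_ok j (by rw [proofsB30720_len]; omega)
  have h : ∀ j < 31744, cert.Holds φ K j := fun j hj =>
    Cert.blockOK_spec M h proofsB31232_ok j (by rw [proofsB31232_len]; omega)
  have h : ∀ j < 32256, cert.Holds φ K j := fun j hj =>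
    Cert.blockOK_spec M h proofsB31744_ok j (by rw [proofsB31744_len]; omega)
  have h : ∀ j < 32768, cert.Holds φ K j := fun j hj =>
    Cert.blockOK_spec M h proofsB32256_ok j (by rw [proofsB32256_len]; omega)
  have h : ∀ j < 33280, cert.Holds φ K j := fun j hj =>
    Cert.blockOK_spec M h proofsB32768_ok j (by rw [proofsB32768_len]; omega)
  have h : ∀ j < 33792, cert.Holds φ K j := fun j hj =>
    Cert.blockOK_spec M h proofsB33280_ok j (by rw [proofsB33280_len]; omega)
  have h : ∀ j < 34304, cert.Holds φ K j := fun j hj =>
    Cert.blockOK_spec M h proofsB33792_ok j (by rw [proofsB33792_len]; omega)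
  have h : ∀ j < 34816, cert.Holds φ K j := fun j hj =>
    Cert.blockOK_spec M h proofsB34304_ok j (by rw [proofsB34304_len]; omega)
  have h : ∀ j < 35328, cert.Holds φ K j := fun j hj =>
    Cert.blockOK_spec M h proofsB34816_ok j (by rw [proofsB34816_len]; omega)
  have h : ∀ j < 35840, cert.Holds φ K j := fun j hj =>
    Cert.blockOK_spec M h proofsB35328_ok j (by rw [proofsB35328_len]; omega)
  have h : ∀ j < 36352, cert.Holds φ K j := fun j hj =>
    Cert.blockOK_spec M h proofsB35840_ok j (by rw [proofsB35840_len]; omega)
  have h : ∀ j < 36864, cert.Holds φ K j := fun j hj =>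
    Cert.blockOK_spec M h proofsB36352_ok j (by rw [proofsB36352_len]; omega)
  have h : ∀ j < 37376, cert.Holds φ K j := fun j hj =>
    Cert.blockOK_spec M h proofsB36864_ok j (by rw [proofsB36864_len]; omega)
  have h : ∀ j < 37888, cert.Holds φ K j := fun j hj =>
    Cert.blockOK_spec M h proofsB37376_ok j (by rw [proofsB37376_len]; omega)
  have h : ∀ j < 38400, cert.Holds φ K j := fun j hj =>
    Cert.blockOK_spec M h proofsB37888_ok j (by rw [proofsB37888_len]; omega)
  have h : ∀ j < 38912, cert.Holds φ K j := fun j hj =>
    Cert.blockOK_spec M h proofsB38400_ok j (by rw [proofsB38400_len]; omega)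
  have h : ∀ j < 39424, cert.Holds φ K j := fun j hj =>
    Cert.blockOK_spec M h proofsB38912_ok j (by rw [proofsB38912_len]; omega)
  have h : ∀ j < 39936, cert.Holds φ K j := fun j hj =>
    Cert.blockOK_spec M h proofsB39424_ok j (by rw [proofsB39424_len]; omega)
  have h : ∀ j < 40448, cert.Holds φ K j := fun j hj =>
    Cert.blockOK_spec M h proofsB39936_ok j (by rw [proofsB39936_len]; omega)
  have h : ∀ j < 40960, cert.Holds φ K j := fun j hj =>
    Cert.blockOK_spec M h proofsB40448_ok j (by rw [proofsB40448_len]; omega)
  have h : ∀ j < 41472, cert.Holds φ K j := fun j hj =>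
    Cert.blockOK_spec M h proofsB40960_ok j (by rw [proofsB40960_len]; omega)
  have h : ∀ j < 41984, cert.Holds φ K j := fun j hj =>
    Cert.blockOK_spec M h proofsB41472_ok j (by rw [proofsB41472_len]; omega)
  have h : ∀ j < 42496, cert.Holds φ K j := fun j hj =>
    Cert.blockOK_spec M h proofsB41984_ok j (by rw [proofsB41984_len]; omega)
  have h : ∀ j < 43008, cert.Holds φ K j := fun j hj =>
    Cert.blockOK_spec M h proofsB42496_ok j (by rw [proofsB42496_len]; omega)
  have h : ∀ j < 43520, cert.Holds φ K j := fun j hj =>
    Cert.blockOK_spec M h proofsB43008_ok j (by rw [proofsB43008_len]; omega)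
  have h : ∀ j < 44032, cert.Holds φ K j := fun j hj =>
    Cert.blockOK_spec M h proofsB43520_ok j (by rw [proofsB43520_len]; omega)
  have h : ∀ j < 44544, cert.Holds φ K j := fun j hj =>
    Cert.blockOK_spec M h proofsB44032_ok j (by rw [proofsB44032_len]; omega)
  have h : ∀ j < 45056, cert.Holds φ K j := fun j hj =>
    Cert.blockOK_spec M h proofsB44544_ok j (by rw [proofsB44544_len]; omega)
  have h : ∀ j < 45568, cert.Holds φ K j := fun j hj =>
    Cert.blockOK_spec M h proofsB45056_ok j (by rw [proofsB45056_len]; omega)
  have h : ∀ j < 46080, cert.Holds φ K j := fun j hj =>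
    Cert.blockOK_spec M h proofsB45568_ok j (by rw [proofsB45568_len]; omega)
  have h : ∀ j < 46592, cert.Holds φ K j := fun j hj =>
    Cert.blockOK_spec M h proofsB46080_ok j (by rw [proofsB46080_len]; omega)
  have h : ∀ j < 47104, cert.Holds φ K j := fun j hj =>
    Cert.blockOK_spec M h proofsB46592_ok j (by rw [proofsB46592_len]; omega)
  have h : ∀ j < 47616, cert.Holds φ K j := fun j hj =>
    Cert.blockOK_spec M h proofsB47104_ok j (by rw [proofsB47104_len]; omega)
  have h : ∀ j < 48128, cert.Holds φ K j := fun j hj =>
    Cert.blockOK_spec M h proofsB47616_ok j (by rw [proofsB47616_len]; omega)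
  have h : ∀ j < 48640, cert.Holds φ K j := fun j hj =>
    Cert.blockOK_spec M h proofsB48128_ok j (by rw [proofsB48128_len]; omega)
  have h : ∀ j < 49152, cert.Holds φ K j := fun j hj =>
    Cert.blockOK_spec M h proofsB48640_ok j (by rw [proofsB48640_len]; omega)
  have h : ∀ j < 49664, cert.Holds φ K j := fun j hj =>
    Cert.blockOK_spec M h proofsB49152_ok j (by rw [proofsB49152_len]; omega)
  have h : ∀ j < 50176, cert.Holds φ K j := fun j hj =>
    Cert.blockOK_spec M h proofsB49664_ok j (by rw [proofsB49664_len]; omega)
  have h : ∀ j < 50688, cert.Holds φ K j := fun j hj =>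
    Cert.blockOK_spec M h proofsB50176_ok j (by rw [proofsB50176_len]; omega)
  have h : ∀ j < 51200, cert.Holds φ K j := fun j hj =>
    Cert.blockOK_spec M h proofsB50688_ok j (by rw [proofsB50688_len]; omega)
  have h : ∀ j < 51712, cert.Holds φ K j := fun j hj =>
    Cert.blockOK_spec M h proofsB51200_ok j (by rw [proofsB51200_len]; omega)
  have h : ∀ j < 52224, cert.Holds φ K j := fun j hj =>
    Cert.blockOK_spec M h proofsB51712_ok j (by rw [proofsB51712_len]; omega)
  have h : ∀ j < 52736, cert.Holds φ K j := fun j hj =>
    Cert.blockOK_spec M h proofsB52224_ok j (by rw [proofsB52224_len]; omega)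
  have h : ∀ j < 53248, cert.Holds φ K j := fun j hj =>
    Cert.blockOK_spec M h proofsB52736_ok j (by rw [proofsB52736_len]; omega)
  have h : ∀ j < 53760, cert.Holds φ K j := fun j hj =>
    Cert.blockOK_spec M h proofsB53248_ok j (by rw [proofsB53248_len]; omega)
  have h : ∀ j < 54272, cert.Holds φ K j := fun j hj =>
    Cert.blockOK_spec M h proofsB53760_ok j (by rw [proofsB53760_len]; omega)
  have h : ∀ j < 54784, cert.Holds φ K j := fun j hj =>
    Cert.blockOK_spec M h proofsB54272_ok j (by rw [proofsB54272_len]; omega)
  have h : ∀ j < 55296, cert.Holds φ K j := fun j hj =>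
    Cert.blockOK_spec M h proofsB54784_ok j (by rw [proofsB54784_len]; omega)
  have h : ∀ j < 55808, cert.Holds φ K j := fun j hj =>
    Cert.blockOK_spec M h proofsB55296_ok j (by rw [proofsB55296_len]; omega)
  have h : ∀ j < 56320, cert.Holds φ K j := fun j hj =>
    Cert.blockOK_spec M h proofsB55808_ok j (by rw [proofsB55808_len]; omega)
  have h : ∀ j < 56832, cert.Holds φ K j := fun j hj =>
    Cert.blockOK_spec M h proofsB56320_ok j (by rw [proofsB56320_len]; omega)
  have h : ∀ j < 57344, cert.Holds φ K j := fun j hj =>
    Cert.blockOK_spec M h proofsB56832_ok j (by rw [proofsB56832_len]; omega)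
  have h : ∀ j < 57856, cert.Holds φ K j := fun j hj =>
    Cert.blockOK_spec M h proofsB57344_ok j (by rw [proofsB57344_len]; omega)
  have h : ∀ j < 58368, cert.Holds φ K j := fun j hj =>
    Cert.blockOK_spec M h proofsB57856_ok j (by rw [proofsB57856_len]; omega)
  have h : ∀ j < 58880, cert.Holds φ K j := fun j hj =>
    Cert.blockOK_spec M h proofsB58368_ok j (by rw [proofsB58368_len]; omega)
  have h : ∀ j < 59392, cert.Holds φ K j := fun j hj =>
    Cert.blockOK_spec M h proofsB58880_ok j (by rw [proofsB58880_len]; omega)
  have h : ∀ j < 59904, cert.Holds φ K j := fun j hj =>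
    Cert.blockOK_spec M h proofsB59392_ok j (by rw [proofsB59392_len]; omega)
  have h : ∀ j < 60416, cert.Holds φ K j := fun j hj =>
    Cert.blockOK_spec M h proofsB59904_ok j (by rw [proofsB59904_len]; omega)
  have h : ∀ j < 60928, cert.Holds φ K j := fun j hj =>
    Cert.blockOK_spec M h proofsB60416_ok j (by rw [proofsB60416_len]; omega)
  have h : ∀ j < 61440, cert.Holds φ K j := fun j hj =>
    Cert.blockOK_spec M h proofsB60928_ok j (by rw [proofsB60928_len]; omega)
  have h : ∀ j < 61952, cert.Holds φ K j := fun j hj =>
    Cert.blockOK_spec M h proofsB61440_ok j (by rw [proofsB61440_len]; omega)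
  have h : ∀ j < 62464, cert.Holds φ K j := fun j hj =>
    Cert.blockOK_spec M h proofsB61952_ok j (by rw [proofsB61952_len]; omega)
  have h : ∀ j < 62976, cert.Holds φ K j := fun j hj =>
    Cert.blockOK_spec M h proofsB62464_ok j (by rw [proofsB62464_len]; omega)
  have h : ∀ j < 63488, cert.Holds φ K j := fun j hj =>
    Cert.blockOK_spec M h proofsB62976_ok j (by rw [proofsB62976_len]; omega)
  have h : ∀ j < 64000, cert.Holds φ K j := fun j hj =>
    Cert.blockOK_spec M h proofsB63488_ok j (by rw [proofsB63488_len]; omega)
  have h : ∀ j < 64512, cert.Holds φ K j := fun j hj =>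
    Cert.blockOK_spec M h proofsB64000_ok j (by rw [proofsB64000_len]; omega)
  have h : ∀ j < 65024, cert.Holds φ K j := fun j hj =>
    Cert.blockOK_spec M h proofsB64512_ok j (by rw [proofsB64512_len]; omega)
  have h : ∀ j < 65536, cert.Holds φ K j := fun j hj =>
    Cert.blockOK_spec M h proofsB65024_ok j (by rw [proofsB65024_len]; omega)
  have h : ∀ j < 66048, cert.Holds φ K j := fun j hj =>
    Cert.blockOK_spec M h proofsB65536_ok j (by rw [proofsB65536_len]; omega)
  have h : ∀ j < 66560, cert.Holds φ K j := fun j hj =>
    Cert.blockOK_spec M h proofsB66048_ok j (by rw [proofsB66048_len]; omega)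
  have h : ∀ j < 67072, cert.Holds φ K j := fun j hj =>
    Cert.blockOK_spec M h proofsB66560_ok j (by rw [proofsB66560_len]; omega)
  have h : ∀ j < 67584, cert.Holds φ K j := fun j hj =>
    Cert.blockOK_spec M h proofsB67072_ok j (by rw [proofsB67072_len]; omega)
  have h : ∀ j < 68096, cert.Holds φ K j := fun j hj =>
    Cert.blockOK_spec M h proofsB67584_ok j (by rw [proofsB67584_len]; omega)
  have h : ∀ j < 68608, cert.Holds φ K j := fun j hj =>
    Cert.blockOK_spec M h proofsB68096_ok j (by rw [proofsB68096_len]; omega)
  have h : ∀ j < 69120, cert.Holds φ K j := fun j hj =>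
    Cert.blockOK_spec M h proofsB68608_ok j (by rw [proofsB68608_len]; omega)
  have h : ∀ j < 69632, cert.Holds φ K j := fun j hj =>
    Cert.blockOK_spec M h proofsB69120_ok j (by rw [proofsB69120_len]; omega)
  have h : ∀ j < 70144, cert.Holds φ K j := fun j hj =>
    Cert.blockOK_spec M h proofsB69632_ok j (by rw [proofsB69632_len]; omega)
  have h : ∀ j < 70656, cert.Holds φ K j := fun j hj =>
    Cert.blockOK_spec M h proofsB70144_ok j (by rw [proofsB70144_len]; omega)
  have h : ∀ j < 71168, cert.Holds φ K j := fun j hj =>
    Cert.blockOK_spec M h proofsB70656_ok j (by rw [proofsB70656_len]; omega)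
  have h : ∀ j < 71680, cert.Holds φ K j := fun j hj =>
    Cert.blockOK_spec M h proofsB71168_ok j (by rw [proofsB71168_len]; omega)
  have h : ∀ j < 72192, cert.Holds φ K j := fun j hj =>
    Cert.blockOK_spec M h proofsB71680_ok j (by rw [proofsB71680_len]; omega)
  have h : ∀ j < 72704, cert.Holds φ K j := fun j hj =>
    Cert.blockOK_spec M h proofsB72192_ok j (by rw [proofsB72192_len]; omega)
  have h : ∀ j < 73216, cert.Holds φ K j := fun j hj =>
    Cert.blockOK_spec M h proofsB72704_ok j (by rw [proofsB72704_len]; omega)
  have h : ∀ j < 73728, cert.Holds φ K j := fun j hj =>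
    Cert.blockOK_spec M h proofsB73216_ok j (by rw [proofsB73216_len]; omega)
  have h : ∀ j < 74240, cert.Holds φ K j := fun j hj =>
    Cert.blockOK_spec M h proofsB73728_ok j (by rw [proofsB73728_len]; omega)
  have h : ∀ j < 74752, cert.Holds φ K j := fun j hj =>
    Cert.blockOK_spec M h proofsB74240_ok j (by rw [proofsB74240_len]; omega)
  have h : ∀ j < 75264, cert.Holds φ K j := fun j hj =>
    Cert.blockOK_spec M h proofsB74752_ok j (by rw [proofsB74752_len]; omega)
  have h : ∀ j < 75776, cert.Holds φ K j := fun j hj =>
    Cert.blockOK_spec M h proofsB75264_ok j (by rw [proofsB75264_len]; omega)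
  have h : ∀ j < 76288, cert.Holds φ K j := fun j hj =>
    Cert.blockOK_spec M h proofsB75776_ok j (by rw [proofsB75776_len]; omega)
  have h : ∀ j < 76800, cert.Holds φ K j := fun j hj =>
    Cert.blockOK_spec M h proofsB76288_ok j (by rw [proofsB76288_len]; omega)
  have h : ∀ j < 77312, cert.Holds φ K j := fun j hj =>
    Cert.blockOK_spec M h proofsB76800_ok j (by rw [proofsB76800_len]; omega)
  have h : ∀ j < 77824, cert.Holds φ K j := fun j hj =>
    Cert.blockOK_spec M h proofsB77312_ok j (by rw [proofsB77312_len]; omega)
  have h : ∀ j < 78336, cert.Holds φ K j := fun j hj =>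
    Cert.blockOK_spec M h proofsB77824_ok j (by rw [proofsB77824_len]; omega)
  have h : ∀ j < 78848, cert.Holds φ K j := fun j hj =>
    Cert.blockOK_spec M h proofsB78336_ok j (by rw [proofsB78336_len]; omega)
  have h : ∀ j < 79360, cert.Holds φ K j := fun j hj =>
    Cert.blockOK_spec M h proofsB78848_ok j (by rw [proofsB78848_len]; omega)
  have h : ∀ j < 79872, cert.Holds φ K j := fun j hj =>
    Cert.blockOK_spec M h proofsB79360_ok j (by rw [proofsB79360_len]; omega)
  have h : ∀ j < 80384, cert.Holds φ K j := fun j hj =>
    Cert.blockOK_spec M h proofsB79872_ok j (by rw [proofsB79872_len]; omega)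
  have h : ∀ j < 80896, cert.Holds φ K j := fun j hj =>
    Cert.blockOK_spec M h proofsB80384_ok j (by rw [proofsB80384_len]; omega)
  have h : ∀ j < 81408, cert.Holds φ K j := fun j hj =>
    Cert.blockOK_spec M h proofsB80896_ok j (by rw [proofsB80896_len]; omega)
  have h : ∀ j < 81920, cert.Holds φ K j := fun j hj =>
    Cert.blockOK_spec M h proofsB81408_ok j (by rw [proofsB81408_len]; omega)
  have h : ∀ j < 82432, cert.Holds φ K j := fun j hj =>
    Cert.blockOK_spec M h proofsB81920_ok j (by rw [proofsB81920_len]; omega)
  have h : ∀ j < 82944, cert.Holds φ K j := fun j hj =>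
    Cert.blockOK_spec M h proofsB82432_ok j (by rw [proofsB82432_len]; omega)
  have h : ∀ j < 83456, cert.Holds φ K j := fun j hj =>
    Cert.blockOK_spec M h proofsB82944_ok j (by rw [proofsB82944_len]; omega)
  have h : ∀ j < 83968, cert.Holds φ K j := fun j hj =>
    Cert.blockOK_spec M h proofsB83456_ok j (by rw [proofsB83456_len]; omega)
  have h : ∀ j < 84480, cert.Holds φ K j := fun j hj =>
    Cert.blockOK_spec M h proofsB83968_ok j (by rw [proofsB83968_len]; omega)
  have h : ∀ j < 84992, cert.Holds φ K j := fun j hj =>
    Cert.blockOK_spec M h proofsB84480_ok j (by rw [proofsB84480_len]; omega)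
  have h : ∀ j < 85504, cert.Holds φ K j := fun j hj =>
    Cert.blockOK_spec M h proofsB84992_ok j (by rw [proofsB84992_len]; omega)
  have h : ∀ j < 85612, cert.Holds φ K j := fun j hj =>
    Cert.blockOK_spec M h proofsB85504_ok j (by rw [proofsB85504_len]; omega)
  exact h

theorem edges_hold (M : Cert.Model cert φ K) :
    ∀ e < 126720, cert.EdgeHolds φ K tab ord (e / tab.gens) (e % tab.gens) := by
  intro e he
  by_cases h0 : e < 512
  · exact Cert.edgesOK_spec M (facts_hold M) proofsE0_ok e (by omega) (by rw [proofsE0_len]; omega)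
  by_cases h512 : e < 1024
  · exact Cert.edgesOK_spec M (facts_hold M) proofsE512_ok e (by omega) (by rw [proofsE512_len]; omega)
  by_cases h1024 : e < 1536
  · exact Cert.edgesOK_spec M (facts_hold M) proofsE1024_ok e (by omega) (by rw [proofsE1024_len]; omega)
  by_cases h1536 : e < 2048
  · exact Cert.edgesOK_spec M (facts_hold M) proofsE1536_ok e (by omega) (by rw [proofsE1536_len]; omega)
  by_cases h2048 : e < 2560
  · exact Cert.edgesOK_spec M (facts_hold M) proofsE2048_ok e (by omega) (by rw [proofsE2048_len]; omega)
  by_cases h2560 : e < 3072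
  · exact Cert.edgesOK_spec M (facts_hold M) proofsE2560_ok e (by omega) (by rw [proofsE2560_len]; omega)
  by_cases h3072 : e < 3584
  · exact Cert.edgesOK_spec M (facts_hold M) proofsE3072_ok e (by omega) (by rw [proofsE3072_len]; omega)
  by_cases h3584 : e < 4096
  · exact Cert.edgesOK_spec M (facts_hold M) proofsE3584_ok e (by omega) (by rw [proofsE3584_len]; omega)
  by_cases h4096 : e < 4608
  · exact Cert.edgesOK_spec M (facts_hold M) proofsE4096_ok e (by omega) (by rw [proofsE4096_len]; omega)
  by_cases h4608 : e < 5120
  · exact Cert.edgesOK_spec M (facts_hold M) proofsE4608_ok e (by omega) (by rw [proofsE4608_len]; omega)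
  by_cases h5120 : e < 5632
  · exact Cert.edgesOK_spec M (facts_hold M) proofsE5120_ok e (by omega) (by rw [proofsE5120_len]; omega)
  by_cases h5632 : e < 6144
  · exact Cert.edgesOK_spec M (facts_hold M) proofsE5632_ok e (by omega) (by rw [proofsE5632_len]; omega)
  by_cases h6144 : e < 6656
  · exact Cert.edgesOK_spec M (facts_hold M) proofsE6144_ok e (by omega) (by rw [proofsE6144_len]; omega)
  by_cases h6656 : e < 7168
  · exact Cert.edgesOK_spec M (facts_hold M) proofsE6656_ok e (by omega) (by rw [proofsE6656_len]; omega)
  by_cases h7168 : e < 7680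
  · exact Cert.edgesOK_spec M (facts_hold M) proofsE7168_ok e (by omega) (by rw [proofsE7168_len]; omega)
  by_cases h7680 : e < 8192
  · exact Cert.edgesOK_spec M (facts_hold M) proofsE7680_ok e (by omega) (by rw [proofsE7680_len]; omega)
  by_cases h8192 : e < 8704
  · exact Cert.edgesOK_spec M (facts_hold M) proofsE8192_ok e (by omega) (by rw [proofsE8192_len]; omega)
  by_cases h8704 : e < 9216
  · exact Cert.edgesOK_spec M (facts_hold M) proofsE8704_ok e (by omega) (by rw [proofsE8704_len]; omega)
  by_cases h9216 : e < 9728
  · exact Cert.edgesOK_spec M (facts_hold M) proofsE9216_ok e (by omega) (by rw [proofsE9216_len]; omega)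
  by_cases h9728 : e < 10240
  · exact Cert.edgesOK_spec M (facts_hold M) proofsE9728_ok e (by omega) (by rw [proofsE9728_len]; omega)
  by_cases h10240 : e < 10752
  · exact Cert.edgesOK_spec M (facts_hold M) proofsE10240_ok e (by omega) (by rw [proofsE10240_len]; omega)
  by_cases h10752 : e < 11264
  · exact Cert.edgesOK_spec M (facts_hold M) proofsE10752_ok e (by omega) (by rw [proofsE10752_len]; omega)
  by_cases h11264 : e < 11776
  · exact Cert.edgesOK_spec M (facts_hold M) proofsE11264_ok e (by omega) (by rw [proofsE11264_len]; omega)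
  by_cases h11776 : e < 12288
  · exact Cert.edgesOK_spec M (facts_hold M) proofsE11776_ok e (by omega) (by rw [proofsE11776_len]; omega)
  by_cases h12288 : e < 12800
  · exact Cert.edgesOK_spec M (facts_hold M) proofsE12288_ok e (by omega) (by rw [proofsE12288_len]; omega)
  by_cases h12800 : e < 13312
  · exact Cert.edgesOK_spec M (facts_hold M) proofsE12800_ok e (by omega) (by rw [proofsE12800_len]; omega)
  by_cases h13312 : e < 13824
  · exact Cert.edgesOK_spec M (facts_hold M) proofsE13312_ok e (by omega) (by rw [proofsE13312_len]; omega)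
  by_cases h13824 : e < 14336
  · exact Cert.edgesOK_spec M (facts_hold M) proofsE13824_ok e (by omega) (by rw [proofsE13824_len]; omega)
  by_cases h14336 : e < 14848
  · exact Cert.edgesOK_spec M (facts_hold M) proofsE14336_ok e (by omega) (by rw [proofsE14336_len]; omega)
  by_cases h14848 : e < 15360
  · exact Cert.edgesOK_spec M (facts_hold M) proofsE14848_ok e (by omega) (by rw [proofsE14848_len]; omega)
  by_cases h15360 : e < 15872
  · exact Cert.edgesOK_spec M (facts_hold M) proofsE15360_ok e (by omega) (by rw [proofsE15360_len]; omega)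
  by_cases h15872 : e < 16384
  · exact Cert.edgesOK_spec M (facts_hold M) proofsE15872_ok e (by omega) (by rw [proofsE15872_len]; omega)
  by_cases h16384 : e < 16896
  · exact Cert.edgesOK_spec M (facts_hold M) proofsE16384_ok e (by omega) (by rw [proofsE16384_len]; omega)
  by_cases h16896 : e < 17408
  · exact Cert.edgesOK_spec M (facts_hold M) proofsE16896_ok e (by omega) (by rw [proofsE16896_len]; omega)
  by_cases h17408 : e < 17920
  · exact Cert.edgesOK_spec M (facts_hold M) proofsE17408_ok e (by omega) (by rw [proofsE17408_len]; omega)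
  by_cases h17920 : e < 18432
  · exact Cert.edgesOK_spec M (facts_hold M) proofsE17920_ok e (by omega) (by rw [proofsE17920_len]; omega)
  by_cases h18432 : e < 18944
  · exact Cert.edgesOK_spec M (facts_hold M) proofsE18432_ok e (by omega) (by rw [proofsE18432_len]; omega)
  by_cases h18944 : e < 19456
  · exact Cert.edgesOK_spec M (facts_hold M) proofsE18944_ok e (by omega) (by rw [proofsE18944_len]; omega)
  by_cases h19456 : e < 19968
  · exact Cert.edgesOK_spec M (facts_hold M) proofsE19456_ok e (by omega) (by rw [proofsE19456_len]; omega)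
  by_cases h19968 : e < 20480
  · exact Cert.edgesOK_spec M (facts_hold M) proofsE19968_ok e (by omega) (by rw [proofsE19968_len]; omega)
  by_cases h20480 : e < 20992
  · exact Cert.edgesOK_spec M (facts_hold M) proofsE20480_ok e (by omega) (by rw [proofsE20480_len]; omega)
  by_cases h20992 : e < 21504
  · exact Cert.edgesOK_spec M (facts_hold M) proofsE20992_ok e (by omega) (by rw [proofsE20992_len]; omega)
  by_cases h21504 : e < 22016
  · exact Cert.edgesOK_spec M (facts_hold M) proofsE21504_ok e (by omega) (by rw [proofsE21504_len]; omega)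
  by_cases h22016 : e < 22528
  · exact Cert.edgesOK_spec M (facts_hold M) proofsE22016_ok e (by omega) (by rw [proofsE22016_len]; omega)
  by_cases h22528 : e < 23040
  · exact Cert.edgesOK_spec M (facts_hold M) proofsE22528_ok e (by omega) (by rw [proofsE22528_len]; omega)
  by_cases h23040 : e < 23552
  · exact Cert.edgesOK_spec M (facts_hold M) proofsE23040_ok e (by omega) (by rw [proofsE23040_len]; omega)
  by_cases h23552 : e < 24064
  · exact Cert.edgesOK_spec M (facts_hold M) proofsE23552_ok e (by omega) (by rw [proofsE23552_len]; omega)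
  by_cases h24064 : e < 24576
  · exact Cert.edgesOK_spec M (facts_hold M) proofsE24064_ok e (by omega) (by rw [proofsE24064_len]; omega)
  by_cases h24576 : e < 25088
  · exact Cert.edgesOK_spec M (facts_hold M) proofsE24576_ok e (by omega) (by rw [proofsE24576_len]; omega)
  by_cases h25088 : e < 25600
  · exact Cert.edgesOK_spec M (facts_hold M) proofsE25088_ok e (by omega) (by rw [proofsE25088_len]; omega)
  by_cases h25600 : e < 26112
  · exact Cert.edgesOK_spec M (facts_hold M) proofsE25600_ok e (by omega) (by rw [proofsE25600_len]; omega)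
  by_cases h26112 : e < 26624
  · exact Cert.edgesOK_spec M (facts_hold M) proofsE26112_ok e (by omega) (by rw [proofsE26112_len]; omega)
  by_cases h26624 : e < 27136
  · exact Cert.edgesOK_spec M (facts_hold M) proofsE26624_ok e (by omega) (by rw [proofsE26624_len]; omega)
  by_cases h27136 : e < 27648
  · exact Cert.edgesOK_spec M (facts_hold M) proofsE27136_ok e (by omega) (by rw [proofsE27136_len]; omega)
  by_cases h27648 : e < 28160
  · exact Cert.edgesOK_spec M (facts_hold M) proofsE27648_ok e (by omega) (by rw [proofsE27648_len]; omega)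
  by_cases h28160 : e < 28672
  · exact Cert.edgesOK_spec M (facts_hold M) proofsE28160_ok e (by omega) (by rw [proofsE28160_len]; omega)
  by_cases h28672 : e < 29184
  · exact Cert.edgesOK_spec M (facts_hold M) proofsE28672_ok e (by omega) (by rw [proofsE28672_len]; omega)
  by_cases h29184 : e < 29696
  · exact Cert.edgesOK_spec M (facts_hold M) proofsE29184_ok e (by omega) (by rw [proofsE29184_len]; omega)
  by_cases h29696 : e < 30208
  · exact Cert.edgesOK_spec M (facts_hold M) proofsE29696_ok e (by omega) (by rw [proofsE29696_len]; omega)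
  by_cases h30208 : e < 30720
  · exact Cert.edgesOK_spec M (facts_hold M) proofsE30208_ok e (by omega) (by rw [proofsE30208_len]; omega)
  by_cases h30720 : e < 31232
  · exact Cert.edgesOK_spec M (facts_hold M) proofsE30720_ok e (by omega) (by rw [proofsE30720_len]; omega)
  by_cases h31232 : e < 31744
  · exact Cert.edgesOK_spec M (facts_hold M) proofsE31232_ok e (by omega) (by rw [proofsE31232_len]; omega)
  by_cases h31744 : e < 32256
  · exact Cert.edgesOK_spec M (facts_hold M) proofsE31744_ok e (by omega) (by rw [proofsE31744_len]; omega)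
  by_cases h32256 : e < 32768
  · exact Cert.edgesOK_spec M (facts_hold M) proofsE32256_ok e (by omega) (by rw [proofsE32256_len]; omega)
  by_cases h32768 : e < 33280
  · exact Cert.edgesOK_spec M (facts_hold M) proofsE32768_ok e (by omega) (by rw [proofsE32768_len]; omega)
  by_cases h33280 : e < 33792
  · exact Cert.edgesOK_spec M (facts_hold M) proofsE33280_ok e (by omega) (by rw [proofsE33280_len]; omega)
  by_cases h33792 : e < 34304
  · exact Cert.edgesOK_spec M (facts_hold M) proofsE33792_ok e (by omega) (by rw [proofsE33792_len]; omega)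
  by_cases h34304 : e < 34816
  · exact Cert.edgesOK_spec M (facts_hold M) proofsE34304_ok e (by omega) (by rw [proofsE34304_len]; omega)
  by_cases h34816 : e < 35328
  · exact Cert.edgesOK_spec M (facts_hold M) proofsE34816_ok e (by omega) (by rw [proofsE34816_len]; omega)
  by_cases h35328 : e < 35840
  · exact Cert.edgesOK_spec M (facts_hold M) proofsE35328_ok e (by omega) (by rw [proofsE35328_len]; omega)
  by_cases h35840 : e < 36352
  · exact Cert.edgesOK_spec M (facts_hold M) proofsE35840_ok e (by omega) (by rw [proofsE35840_len]; omega)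
  by_cases h36352 : e < 36864
  · exact Cert.edgesOK_spec M (facts_hold M) proofsE36352_ok e (by omega) (by rw [proofsE36352_len]; omega)
  by_cases h36864 : e < 37376
  · exact Cert.edgesOK_spec M (facts_hold M) proofsE36864_ok e (by omega) (by rw [proofsE36864_len]; omega)
  by_cases h37376 : e < 37888
  · exact Cert.edgesOK_spec M (facts_hold M) proofsE37376_ok e (by omega) (by rw [proofsE37376_len]; omega)
  by_cases h37888 : e < 38400
  · exact Cert.edgesOK_spec M (facts_hold M) proofsE37888_ok e (by omega) (by rw [proofsE37888_len]; omega)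
  by_cases h38400 : e < 38912
  · exact Cert.edgesOK_spec M (facts_hold M) proofsE38400_ok e (by omega) (by rw [proofsE38400_len]; omega)
  by_cases h38912 : e < 39424
  · exact Cert.edgesOK_spec M (facts_hold M) proofsE38912_ok e (by omega) (by rw [proofsE38912_len]; omega)
  by_cases h39424 : e < 39936
  · exact Cert.edgesOK_spec M (facts_hold M) proofsE39424_ok e (by omega) (by rw [proofsE39424_len]; omega)
  by_cases h39936 : e < 40448
  · exact Cert.edgesOK_spec M (facts_hold M) proofsE39936_ok e (by omega) (by rw [proofsE39936_len]; omega)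
  by_cases h40448 : e < 40960
  · exact Cert.edgesOK_spec M (facts_hold M) proofsE40448_ok e (by omega) (by rw [proofsE40448_len]; omega)
  by_cases h40960 : e < 41472
  · exact Cert.edgesOK_spec M (facts_hold M) proofsE40960_ok e (by omega) (by rw [proofsE40960_len]; omega)
  by_cases h41472 : e < 41984
  · exact Cert.edgesOK_spec M (facts_hold M) proofsE41472_ok e (by omega) (by rw [proofsE41472_len]; omega)
  by_cases h41984 : e < 42496
  · exact Cert.edgesOK_spec M (facts_hold M) proofsE41984_ok e (by omega) (by rw [proofsE41984_len]; omega)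
  by_cases h42496 : e < 43008
  · exact Cert.edgesOK_spec M (facts_hold M) proofsE42496_ok e (by omega) (by rw [proofsE42496_len]; omega)
  by_cases h43008 : e < 43520
  · exact Cert.edgesOK_spec M (facts_hold M) proofsE43008_ok e (by omega) (by rw [proofsE43008_len]; omega)
  by_cases h43520 : e < 44032
  · exact Cert.edgesOK_spec M (facts_hold M) proofsE43520_ok e (by omega) (by rw [proofsE43520_len]; omega)
  by_cases h44032 : e < 44544
  · exact Cert.edgesOK_spec M (facts_hold M) proofsE44032_ok e (by omega) (by rw [proofsE44032_len]; omega)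
  by_cases h44544 : e < 45056
  · exact Cert.edgesOK_spec M (facts_hold M) proofsE44544_ok e (by omega) (by rw [proofsE44544_len]; omega)
  by_cases h45056 : e < 45568
  · exact Cert.edgesOK_spec M (facts_hold M) proofsE45056_ok e (by omega) (by rw [proofsE45056_len]; omega)
  by_cases h45568 : e < 46080
  · exact Cert.edgesOK_spec M (facts_hold M) proofsE45568_ok e (by omega) (by rw [proofsE45568_len]; omega)
  by_cases h46080 : e < 46592
  · exact Cert.edgesOK_spec M (facts_hold M) proofsE46080_ok e (by omega) (by rw [proofsE46080_len]; omega)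
  by_cases h46592 : e < 47104
  · exact Cert.edgesOK_spec M (facts_hold M) proofsE46592_ok e (by omega) (by rw [proofsE46592_len]; omega)
  by_cases h47104 : e < 47616
  · exact Cert.edgesOK_spec M (facts_hold M) proofsE47104_ok e (by omega) (by rw [proofsE47104_len]; omega)
  by_cases h47616 : e < 48128
  · exact Cert.edgesOK_spec M (facts_hold M) proofsE47616_ok e (by omega) (by rw [proofsE47616_len]; omega)
  by_cases h48128 : e < 48640
  · exact Cert.edgesOK_spec M (facts_hold M) proofsE48128_ok e (by omega) (by rw [proofsE48128_len]; omega)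
  by_cases h48640 : e < 49152
  · exact Cert.edgesOK_spec M (facts_hold M) proofsE48640_ok e (by omega) (by rw [proofsE48640_len]; omega)
  by_cases h49152 : e < 49664
  · exact Cert.edgesOK_spec M (facts_hold M) proofsE49152_ok e (by omega) (by rw [proofsE49152_len]; omega)
  by_cases h49664 : e < 50176
  · exact Cert.edgesOK_spec M (facts_hold M) proofsE49664_ok e (by omega) (by rw [proofsE49664_len]; omega)
  by_cases h50176 : e < 50688
  · exact Cert.edgesOK_spec M (facts_hold M) proofsE50176_ok e (by omega) (by rw [proofsE50176_len]; omega)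
  by_cases h50688 : e < 51200
  · exact Cert.edgesOK_spec M (facts_hold M) proofsE50688_ok e (by omega) (by rw [proofsE50688_len]; omega)
  by_cases h51200 : e < 51712
  · exact Cert.edgesOK_spec M (facts_hold M) proofsE51200_ok e (by omega) (by rw [proofsE51200_len]; omega)
  by_cases h51712 : e < 52224
  · exact Cert.edgesOK_spec M (facts_hold M) proofsE51712_ok e (by omega) (by rw [proofsE51712_len]; omega)
  by_cases h52224 : e < 52736
  · exact Cert.edgesOK_spec M (facts_hold M) proofsE52224_ok e (by omega) (by rw [proofsE52224_len]; omega)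
  by_cases h52736 : e < 53248
  · exact Cert.edgesOK_spec M (facts_hold M) proofsE52736_ok e (by omega) (by rw [proofsE52736_len]; omega)
  by_cases h53248 : e < 53760
  · exact Cert.edgesOK_spec M (facts_hold M) proofsE53248_ok e (by omega) (by rw [proofsE53248_len]; omega)
  by_cases h53760 : e < 54272
  · exact Cert.edgesOK_spec M (facts_hold M) proofsE53760_ok e (by omega) (by rw [proofsE53760_len]; omega)
  by_cases h54272 : e < 54784
  · exact Cert.edgesOK_spec M (facts_hold M) proofsE54272_ok e (by omega) (by rw [proofsE54272_len]; omega)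
  by_cases h54784 : e < 55296
  · exact Cert.edgesOK_spec M (facts_hold M) proofsE54784_ok e (by omega) (by rw [proofsE54784_len]; omega)
  by_cases h55296 : e < 55808
  · exact Cert.edgesOK_spec M (facts_hold M) proofsE55296_ok e (by omega) (by rw [proofsE55296_len]; omega)
  by_cases h55808 : e < 56320
  · exact Cert.edgesOK_spec M (facts_hold M) proofsE55808_ok e (by omega) (by rw [proofsE55808_len]; omega)
  by_cases h56320 : e < 56832
  · exact Cert.edgesOK_spec M (facts_hold M) proofsE56320_ok e (by omega) (by rw [proofsE56320_len]; omega)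
  by_cases h56832 : e < 57344
  · exact Cert.edgesOK_spec M (facts_hold M) proofsE56832_ok e (by omega) (by rw [proofsE56832_len]; omega)
  by_cases h57344 : e < 57856
  · exact Cert.edgesOK_spec M (facts_hold M) proofsE57344_ok e (by omega) (by rw [proofsE57344_len]; omega)
  by_cases h57856 : e < 58368
  · exact Cert.edgesOK_spec M (facts_hold M) proofsE57856_ok e (by omega) (by rw [proofsE57856_len]; omega)
  by_cases h58368 : e < 58880
  · exact Cert.edgesOK_spec M (facts_hold M) proofsE58368_ok e (by omega) (by rw [proofsE58368_len]; omega)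
  by_cases h58880 : e < 59392
  · exact Cert.edgesOK_spec M (facts_hold M) proofsE58880_ok e (by omega) (by rw [proofsE58880_len]; omega)
  by_cases h59392 : e < 59904
  · exact Cert.edgesOK_spec M (facts_hold M) proofsE59392_ok e (by omega) (by rw [proofsE59392_len]; omega)
  by_cases h59904 : e < 60416
  · exact Cert.edgesOK_spec M (facts_hold M) proofsE59904_ok e (by omega) (by rw [proofsE59904_len]; omega)
  by_cases h60416 : e < 60928
  · exact Cert.edgesOK_spec M (facts_hold M) proofsE60416_ok e (by omega) (by rw [proofsE60416_len]; omega)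
  by_cases h60928 : e < 61440
  · exact Cert.edgesOK_spec M (facts_hold M) proofsE60928_ok e (by omega) (by rw [proofsE60928_len]; omega)
  by_cases h61440 : e < 61952
  · exact Cert.edgesOK_spec M (facts_hold M) proofsE61440_ok e (by omega) (by rw [proofsE61440_len]; omega)
  by_cases h61952 : e < 62464
  · exact Cert.edgesOK_spec M (facts_hold M) proofsE61952_ok e (by omega) (by rw [proofsE61952_len]; omega)
  by_cases h62464 : e < 62976
  · exact Cert.edgesOK_spec M (facts_hold M) proofsE62464_ok e (by omega) (by rw [proofsE62464_len]; omega)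
  by_cases h62976 : e < 63488
  · exact Cert.edgesOK_spec M (facts_hold M) proofsE62976_ok e (by omega) (by rw [proofsE62976_len]; omega)
  by_cases h63488 : e < 64000
  · exact Cert.edgesOK_spec M (facts_hold M) proofsE63488_ok e (by omega) (by rw [proofsE63488_len]; omega)
  by_cases h64000 : e < 64512
  · exact Cert.edgesOK_spec M (facts_hold M) proofsE64000_ok e (by omega) (by rw [proofsE64000_len]; omega)
  by_cases h64512 : e < 65024
  · exact Cert.edgesOK_spec M (facts_hold M) proofsE64512_ok e (by omega) (by rw [proofsE64512_len]; omega)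
  by_cases h65024 : e < 65536
  · exact Cert.edgesOK_spec M (facts_hold M) proofsE65024_ok e (by omega) (by rw [proofsE65024_len]; omega)
  by_cases h65536 : e < 66048
  · exact Cert.edgesOK_spec M (facts_hold M) proofsE65536_ok e (by omega) (by rw [proofsE65536_len]; omega)
  by_cases h66048 : e < 66560
  · exact Cert.edgesOK_spec M (facts_hold M) proofsE66048_ok e (by omega) (by rw [proofsE66048_len]; omega)
  by_cases h66560 : e < 67072
  · exact Cert.edgesOK_spec M (facts_hold M) proofsE66560_ok e (by omega) (by rw [proofsE66560_len]; omega)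
  by_cases h67072 : e < 67584
  · exact Cert.edgesOK_spec M (facts_hold M) proofsE67072_ok e (by omega) (by rw [proofsE67072_len]; omega)
  by_cases h67584 : e < 68096
  · exact Cert.edgesOK_spec M (facts_hold M) proofsE67584_ok e (by omega) (by rw [proofsE67584_len]; omega)
  by_cases h68096 : e < 68608
  · exact Cert.edgesOK_spec M (facts_hold M) proofsE68096_ok e (by omega) (by rw [proofsE68096_len]; omega)
  by_cases h68608 : e < 69120
  · exact Cert.edgesOK_spec M (facts_hold M) proofsE68608_ok e (by omega) (by rw [proofsE68608_len]; omega)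
  by_cases h69120 : e < 69632
  · exact Cert.edgesOK_spec M (facts_hold M) proofsE69120_ok e (by omega) (by rw [proofsE69120_len]; omega)
  by_cases h69632 : e < 70144
  · exact Cert.edgesOK_spec M (facts_hold M) proofsE69632_ok e (by omega) (by rw [proofsE69632_len]; omega)
  by_cases h70144 : e < 70656
  · exact Cert.edgesOK_spec M (facts_hold M) proofsE70144_ok e (by omega) (by rw [proofsE70144_len]; omega)
  by_cases h70656 : e < 71168
  · exact Cert.edgesOK_spec M (facts_hold M) proofsE70656_ok e (by omega) (by rw [proofsE70656_len]; omega)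
  by_cases h71168 : e < 71680
  · exact Cert.edgesOK_spec M (facts_hold M) proofsE71168_ok e (by omega) (by rw [proofsE71168_len]; omega)
  by_cases h71680 : e < 72192
  · exact Cert.edgesOK_spec M (facts_hold M) proofsE71680_ok e (by omega) (by rw [proofsE71680_len]; omega)
  by_cases h72192 : e < 72704
  · exact Cert.edgesOK_spec M (facts_hold M) proofsE72192_ok e (by omega) (by rw [proofsE72192_len]; omega)
  by_cases h72704 : e < 73216
  · exact Cert.edgesOK_spec M (facts_hold M) proofsE72704_ok e (by omega) (by rw [proofsE72704_len]; omega)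
  by_cases h73216 : e < 73728
  · exact Cert.edgesOK_spec M (facts_hold M) proofsE73216_ok e (by omega) (by rw [proofsE73216_len]; omega)
  by_cases h73728 : e < 74240
  · exact Cert.edgesOK_spec M (facts_hold M) proofsE73728_ok e (by omega) (by rw [proofsE73728_len]; omega)
  by_cases h74240 : e < 74752
  · exact Cert.edgesOK_spec M (facts_hold M) proofsE74240_ok e (by omega) (by rw [proofsE74240_len]; omega)
  by_cases h74752 : e < 75264
  · exact Cert.edgesOK_spec M (facts_hold M) proofsE74752_ok e (by omega) (by rw [proofsE74752_len]; omega)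
  by_cases h75264 : e < 75776
  · exact Cert.edgesOK_spec M (facts_hold M) proofsE75264_ok e (by omega) (by rw [proofsE75264_len]; omega)
  by_cases h75776 : e < 76288
  · exact Cert.edgesOK_spec M (facts_hold M) proofsE75776_ok e (by omega) (by rw [proofsE75776_len]; omega)
  by_cases h76288 : e < 76800
  · exact Cert.edgesOK_spec M (facts_hold M) proofsE76288_ok e (by omega) (by rw [proofsE76288_len]; omega)
  by_cases h76800 : e < 77312
  · exact Cert.edgesOK_spec M (facts_hold M) proofsE76800_ok e (by omega) (by rw [proofsE76800_len]; omega)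
  by_cases h77312 : e < 77824
  · exact Cert.edgesOK_spec M (facts_hold M) proofsE77312_ok e (by omega) (by rw [proofsE77312_len]; omega)
  by_cases h77824 : e < 78336
  · exact Cert.edgesOK_spec M (facts_hold M) proofsE77824_ok e (by omega) (by rw [proofsE77824_len]; omega)
  by_cases h78336 : e < 78848
  · exact Cert.edgesOK_spec M (facts_hold M) proofsE78336_ok e (by omega) (by rw [proofsE78336_len]; omega)
  by_cases h78848 : e < 79360
  · exact Cert.edgesOK_spec M (facts_hold M) proofsE78848_ok e (by omega) (by rw [proofsE78848_len]; omega)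
  by_cases h79360 : e < 79872
  · exact Cert.edgesOK_spec M (facts_hold M) proofsE79360_ok e (by omega) (by rw [proofsE79360_len]; omega)
  by_cases h79872 : e < 80384
  · exact Cert.edgesOK_spec M (facts_hold M) proofsE79872_ok e (by omega) (by rw [proofsE79872_len]; omega)
  by_cases h80384 : e < 80896
  · exact Cert.edgesOK_spec M (facts_hold M) proofsE80384_ok e (by omega) (by rw [proofsE80384_len]; omega)
  by_cases h80896 : e < 81408
  · exact Cert.edgesOK_spec M (facts_hold M) proofsE80896_ok e (by omega) (by rw [proofsE80896_len]; omega)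
  by_cases h81408 : e < 81920
  · exact Cert.edgesOK_spec M (facts_hold M) proofsE81408_ok e (by omega) (by rw [proofsE81408_len]; omega)
  by_cases h81920 : e < 82432
  · exact Cert.edgesOK_spec M (facts_hold M) proofsE81920_ok e (by omega) (by rw [proofsE81920_len]; omega)
  by_cases h82432 : e < 82944
  · exact Cert.edgesOK_spec M (facts_hold M) proofsE82432_ok e (by omega) (by rw [proofsE82432_len]; omega)
  by_cases h82944 : e < 83456
  · exact Cert.edgesOK_spec M (facts_hold M) proofsE82944_ok e (by omega) (by rw [proofsE82944_len]; omega)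
  by_cases h83456 : e < 83968
  · exact Cert.edgesOK_spec M (facts_hold M) proofsE83456_ok e (by omega) (by rw [proofsE83456_len]; omega)
  by_cases h83968 : e < 84480
  · exact Cert.edgesOK_spec M (facts_hold M) proofsE83968_ok e (by omega) (by rw [proofsE83968_len]; omega)
  by_cases h84480 : e < 84992
  · exact Cert.edgesOK_spec M (facts_hold M) proofsE84480_ok e (by omega) (by rw [proofsE84480_len]; omega)
  by_cases h84992 : e < 85504
  · exact Cert.edgesOK_spec M (facts_hold M) proofsE84992_ok e (by omega) (by rw [proofsE84992_len]; omega)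
  by_cases h85504 : e < 86016
  · exact Cert.edgesOK_spec M (facts_hold M) proofsE85504_ok e (by omega) (by rw [proofsE85504_len]; omega)
  by_cases h86016 : e < 86528
  · exact Cert.edgesOK_spec M (facts_hold M) proofsE86016_ok e (by omega) (by rw [proofsE86016_len]; omega)
  by_cases h86528 : e < 87040
  · exact Cert.edgesOK_spec M (facts_hold M) proofsE86528_ok e (by omega) (by rw [proofsE86528_len]; omega)
  by_cases h87040 : e < 87552
  · exact Cert.edgesOK_spec M (facts_hold M) proofsE87040_ok e (by omega) (by rw [proofsE87040_len]; omega)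
  by_cases h87552 : e < 88064
  · exact Cert.edgesOK_spec M (facts_hold M) proofsE87552_ok e (by omega) (by rw [proofsE87552_len]; omega)
  by_cases h88064 : e < 88576
  · exact Cert.edgesOK_spec M (facts_hold M) proofsE88064_ok e (by omega) (by rw [proofsE88064_len]; omega)
  by_cases h88576 : e < 89088
  · exact Cert.edgesOK_spec M (facts_hold M) proofsE88576_ok e (by omega) (by rw [proofsE88576_len]; omega)
  by_cases h89088 : e < 89600
  · exact Cert.edgesOK_spec M (facts_hold M) proofsE89088_ok e (by omega) (by rw [proofsE89088_len]; omega)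
  by_cases h89600 : e < 90112
  · exact Cert.edgesOK_spec M (facts_hold M) proofsE89600_ok e (by omega) (by rw [proofsE89600_len]; omega)
  by_cases h90112 : e < 90624
  · exact Cert.edgesOK_spec M (facts_hold M) proofsE90112_ok e (by omega) (by rw [proofsE90112_len]; omega)
  by_cases h90624 : e < 91136
  · exact Cert.edgesOK_spec M (facts_hold M) proofsE90624_ok e (by omega) (by rw [proofsE90624_len]; omega)
  by_cases h91136 : e < 91648
  · exact Cert.edgesOK_spec M (facts_hold M) proofsE91136_ok e (by omega) (by rw [proofsE91136_len]; omega)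
  by_cases h91648 : e < 92160
  · exact Cert.edgesOK_spec M (facts_hold M) proofsE91648_ok e (by omega) (by rw [proofsE91648_len]; omega)
  by_cases h92160 : e < 92672
  · exact Cert.edgesOK_spec M (facts_hold M) proofsE92160_ok e (by omega) (by rw [proofsE92160_len]; omega)
  by_cases h92672 : e < 93184
  · exact Cert.edgesOK_spec M (facts_hold M) proofsE92672_ok e (by omega) (by rw [proofsE92672_len]; omega)
  by_cases h93184 : e < 93696
  · exact Cert.edgesOK_spec M (facts_hold M) proofsE93184_ok e (by omega) (by rw [proofsE93184_len]; omega)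
  by_cases h93696 : e < 94208
  · exact Cert.edgesOK_spec M (facts_hold M) proofsE93696_ok e (by omega) (by rw [proofsE93696_len]; omega)
  by_cases h94208 : e < 94720
  · exact Cert.edgesOK_spec M (facts_hold M) proofsE94208_ok e (by omega) (by rw [proofsE94208_len]; omega)
  by_cases h94720 : e < 95232
  · exact Cert.edgesOK_spec M (facts_hold M) proofsE94720_ok e (by omega) (by rw [proofsE94720_len]; omega)
  by_cases h95232 : e < 95744
  · exact Cert.edgesOK_spec M (facts_hold M) proofsE95232_ok e (by omega) (by rw [proofsE95232_len]; omega)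
  by_cases h95744 : e < 96256
  · exact Cert.edgesOK_spec M (facts_hold M) proofsE95744_ok e (by omega) (by rw [proofsE95744_len]; omega)
  by_cases h96256 : e < 96768
  · exact Cert.edgesOK_spec M (facts_hold M) proofsE96256_ok e (by omega) (by rw [proofsE96256_len]; omega)
  by_cases h96768 : e < 97280
  · exact Cert.edgesOK_spec M (facts_hold M) proofsE96768_ok e (by omega) (by rw [proofsE96768_len]; omega)
  by_cases h97280 : e < 97792
  · exact Cert.edgesOK_spec M (facts_hold M) proofsE97280_ok e (by omega) (by rw [proofsE97280_len]; omega)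
  by_cases h97792 : e < 98304
  · exact Cert.edgesOK_spec M (facts_hold M) proofsE97792_ok e (by omega) (by rw [proofsE97792_len]; omega)
  by_cases h98304 : e < 98816
  · exact Cert.edgesOK_spec M (facts_hold M) proofsE98304_ok e (by omega) (by rw [proofsE98304_len]; omega)
  by_cases h98816 : e < 99328
  · exact Cert.edgesOK_spec M (facts_hold M) proofsE98816_ok e (by omega) (by rw [proofsE98816_len]; omega)
  by_cases h99328 : e < 99840
  · exact Cert.edgesOK_spec M (facts_hold M) proofsE99328_ok e (by omega) (by rw [proofsE99328_len]; omega)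
  by_cases h99840 : e < 100352
  · exact Cert.edgesOK_spec M (facts_hold M) proofsE99840_ok e (by omega) (by rw [proofsE99840_len]; omega)
  by_cases h100352 : e < 100864
  · exact Cert.edgesOK_spec M (facts_hold M) proofsE100352_ok e (by omega) (by rw [proofsE100352_len]; omega)
  by_cases h100864 : e < 101376
  · exact Cert.edgesOK_spec M (facts_hold M) proofsE100864_ok e (by omega) (by rw [proofsE100864_len]; omega)
  by_cases h101376 : e < 101888
  · exact Cert.edgesOK_spec M (facts_hold M) proofsE101376_ok e (by omega) (by rw [proofsE101376_len]; omega)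
  by_cases h101888 : e < 102400
  · exact Cert.edgesOK_spec M (facts_hold M) proofsE101888_ok e (by omega) (by rw [proofsE101888_len]; omega)
  by_cases h102400 : e < 102912
  · exact Cert.edgesOK_spec M (facts_hold M) proofsE102400_ok e (by omega) (by rw [proofsE102400_len]; omega)
  by_cases h102912 : e < 103424
  · exact Cert.edgesOK_spec M (facts_hold M) proofsE102912_ok e (by omega) (by rw [proofsE102912_len]; omega)
  by_cases h103424 : e < 103936
  · exact Cert.edgesOK_spec M (facts_hold M) proofsE103424_ok e (by omega) (by rw [proofsE103424_len]; omega)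
  by_cases h103936 : e < 104448
  · exact Cert.edgesOK_spec M (facts_hold M) proofsE103936_ok e (by omega) (by rw [proofsE103936_len]; omega)
  by_cases h104448 : e < 104960
  · exact Cert.edgesOK_spec M (facts_hold M) proofsE104448_ok e (by omega) (by rw [proofsE104448_len]; omega)
  by_cases h104960 : e < 105472
  · exact Cert.edgesOK_spec M (facts_hold M) proofsE104960_ok e (by omega) (by rw [proofsE104960_len]; omega)
  by_cases h105472 : e < 105984
  · exact Cert.edgesOK_spec M (facts_hold M) proofsE105472_ok e (by omega) (by rw [proofsE105472_len]; omega)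
  by_cases h105984 : e < 106496
  · exact Cert.edgesOK_spec M (facts_hold M) proofsE105984_ok e (by omega) (by rw [proofsE105984_len]; omega)
  by_cases h106496 : e < 107008
  · exact Cert.edgesOK_spec M (facts_hold M) proofsE106496_ok e (by omega) (by rw [proofsE106496_len]; omega)
  by_cases h107008 : e < 107520
  · exact Cert.edgesOK_spec M (facts_hold M) proofsE107008_ok e (by omega) (by rw [proofsE107008_len]; omega)
  by_cases h107520 : e < 108032
  · exact Cert.edgesOK_spec M (facts_hold M) proofsE107520_ok e (by omega) (by rw [proofsE107520_len]; omega)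
  by_cases h108032 : e < 108544
  · exact Cert.edgesOK_spec M (facts_hold M) proofsE108032_ok e (by omega) (by rw [proofsE108032_len]; omega)
  by_cases h108544 : e < 109056
  · exact Cert.edgesOK_spec M (facts_hold M) proofsE108544_ok e (by omega) (by rw [proofsE108544_len]; omega)
  by_cases h109056 : e < 109568
  · exact Cert.edgesOK_spec M (facts_hold M) proofsE109056_ok e (by omega) (by rw [proofsE109056_len]; omega)
  by_cases h109568 : e < 110080
  · exact Cert.edgesOK_spec M (facts_hold M) proofsE109568_ok e (by omega) (by rw [proofsE109568_len]; omega)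
  by_cases h110080 : e < 110592
  · exact Cert.edgesOK_spec M (facts_hold M) proofsE110080_ok e (by omega) (by rw [proofsE110080_len]; omega)
  by_cases h110592 : e < 111104
  · exact Cert.edgesOK_spec M (facts_hold M) proofsE110592_ok e (by omega) (by rw [proofsE110592_len]; omega)
  by_cases h111104 : e < 111616
  · exact Cert.edgesOK_spec M (facts_hold M) proofsE111104_ok e (by omega) (by rw [proofsE111104_len]; omega)
  by_cases h111616 : e < 112128
  · exact Cert.edgesOK_spec M (facts_hold M) proofsE111616_ok e (by omega) (by rw [proofsE111616_len]; omega)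
  by_cases h112128 : e < 112640
  · exact Cert.edgesOK_spec M (facts_hold M) proofsE112128_ok e (by omega) (by rw [proofsE112128_len]; omega)
  by_cases h112640 : e < 113152
  · exact Cert.edgesOK_spec M (facts_hold M) proofsE112640_ok e (by omega) (by rw [proofsE112640_len]; omega)
  by_cases h113152 : e < 113664
  · exact Cert.edgesOK_spec M (facts_hold M) proofsE113152_ok e (by omega) (by rw [proofsE113152_len]; omega)
  by_cases h113664 : e < 114176
  · exact Cert.edgesOK_spec M (facts_hold M) proofsE113664_ok e (by omega) (by rw [proofsE113664_len]; omega)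
  by_cases h114176 : e < 114688
  · exact Cert.edgesOK_spec M (facts_hold M) proofsE114176_ok e (by omega) (by rw [proofsE114176_len]; omega)
  by_cases h114688 : e < 115200
  · exact Cert.edgesOK_spec M (facts_hold M) proofsE114688_ok e (by omega) (by rw [proofsE114688_len]; omega)
  by_cases h115200 : e < 115712
  · exact Cert.edgesOK_spec M (facts_hold M) proofsE115200_ok e (by omega) (by rw [proofsE115200_len]; omega)
  by_cases h115712 : e < 116224
  · exact Cert.edgesOK_spec M (facts_hold M) proofsE115712_ok e (by omega) (by rw [proofsE115712_len]; omega)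
  by_cases h116224 : e < 116736
  · exact Cert.edgesOK_spec M (facts_hold M) proofsE116224_ok e (by omega) (by rw [proofsE116224_len]; omega)
  by_cases h116736 : e < 117248
  · exact Cert.edgesOK_spec M (facts_hold M) proofsE116736_ok e (by omega) (by rw [proofsE116736_len]; omega)
  by_cases h117248 : e < 117760
  · exact Cert.edgesOK_spec M (facts_hold M) proofsE117248_ok e (by omega) (by rw [proofsE117248_len]; omega)
  by_cases h117760 : e < 118272
  · exact Cert.edgesOK_spec M (facts_hold M) proofsE117760_ok e (by omega) (by rw [proofsE117760_len]; omega)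
  by_cases h118272 : e < 118784
  · exact Cert.edgesOK_spec M (facts_hold M) proofsE118272_ok e (by omega) (by rw [proofsE118272_len]; omega)
  by_cases h118784 : e < 119296
  · exact Cert.edgesOK_spec M (facts_hold M) proofsE118784_ok e (by omega) (by rw [proofsE118784_len]; omega)
  by_cases h119296 : e < 119808
  · exact Cert.edgesOK_spec M (facts_hold M) proofsE119296_ok e (by omega) (by rw [proofsE119296_len]; omega)
  by_cases h119808 : e < 120320
  · exact Cert.edgesOK_spec M (facts_hold M) proofsE119808_ok e (by omega) (by rw [proofsE119808_len]; omega)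
  by_cases h120320 : e < 120832
  · exact Cert.edgesOK_spec M (facts_hold M) proofsE120320_ok e (by omega) (by rw [proofsE120320_len]; omega)
  by_cases h120832 : e < 121344
  · exact Cert.edgesOK_spec M (facts_hold M) proofsE120832_ok e (by omega) (by rw [proofsE120832_len]; omega)
  by_cases h121344 : e < 121856
  · exact Cert.edgesOK_spec M (facts_hold M) proofsE121344_ok e (by omega) (by rw [proofsE121344_len]; omega)
  by_cases h121856 : e < 122368
  · exact Cert.edgesOK_spec M (facts_hold M) proofsE121856_ok e (by omega) (by rw [proofsE121856_len]; omega)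
  by_cases h122368 : e < 122880
  · exact Cert.edgesOK_spec M (facts_hold M) proofsE122368_ok e (by omega) (by rw [proofsE122368_len]; omega)
  by_cases h122880 : e < 123392
  · exact Cert.edgesOK_spec M (facts_hold M) proofsE122880_ok e (by omega) (by rw [proofsE122880_len]; omega)
  by_cases h123392 : e < 123904
  · exact Cert.edgesOK_spec M (facts_hold M) proofsE123392_ok e (by omega) (by rw [proofsE123392_len]; omega)
  by_cases h123904 : e < 124416
  · exact Cert.edgesOK_spec M (facts_hold M) proofsE123904_ok e (by omega) (by rw [proofsE123904_len]; omega)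
  by_cases h124416 : e < 124928
  · exact Cert.edgesOK_spec M (facts_hold M) proofsE124416_ok e (by omega) (by rw [proofsE124416_len]; omega)
  by_cases h124928 : e < 125440
  · exact Cert.edgesOK_spec M (facts_hold M) proofsE124928_ok e (by omega) (by rw [proofsE124928_len]; omega)
  by_cases h125440 : e < 125952
  · exact Cert.edgesOK_spec M (facts_hold M) proofsE125440_ok e (by omega) (by rw [proofsE125440_len]; omega)
  by_cases h125952 : e < 126464
  · exact Cert.edgesOK_spec M (facts_hold M) proofsE125952_ok e (by omega) (by rw [proofsE125952_len]; omega)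
  exact Cert.edgesOK_spec M (facts_hold M) proofsE126464_ok e (by omega) (by rw [proofsE126464_len]; omega)

/-- Every element is in one of the cosets. -/
theorem covers (M : Cert.Model cert φ K) : ∀ x ∈ Subgroup.closure (φ '' Set.Iio 9),
    ∃ i < 14080, x * (cert.pt φ (nodeOf ord i))⁻¹ ∈ K :=
  Cert.cover (P := tab) (ord := ord) M.inv rfl (by decide +kernel) (by decide +kernel)
    (fun e he => edges_hold M e he)

end Cfsg.Agent.Lib.SporPres.FiTwentyThree.S14080
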