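import Cfsg.Agent.Lib.SporPres.FiTwentyThree.S728Part0
import Cfsg.Agent.Lib.SporPres.FiTwentyThree.S728Part1
import Cfsg.Agent.Lib.SporPres.FiTwentyThree.S728Part2

/-! # Generated coset enumeration data: S728 -/

set_option autoImplicit false

namespace Cfsg.Agent.Lib.SporPres.FiTwentyThree.S728

open Cfsg.Agent.Lib.Coset

variable {Γ : Type*} [Group Γ] {φ : ℕ → Γ} {K : Subgroup Γ}

theorem facts_hold (M : Cert.Model cert φ K) : ∀ j < cert.nfacts, cert.Holds φ K j := by
  have h : ∀ j < 0, cert.Holds φ K j := fun j hj => absurd hj (Nat.not_lt_zero j)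
  have h : ∀ j < 512, cert.Holds φ K j := fun j hj =>
    Cert.blockOK_spec M h proofsB0_ok j (by rw [proofsB0_len]; omega)
  have h : ∀ j < 1024, cert.Holds φ K j := fun j hj =>
    Cert.blockOK_spec M h proofsB512_ok j (by rw [proofsB512_len]; omega)
  have h : ∀ j < 1536, cert.Holds φ K j := fun j hj =>
    Cert.blockOK_spec M h proofsB1024_ok j (by rw [proofsB1024_len]; omega)
  have h : ∀ j < 2048, cert.Holds φ K j := fun j hj =>
    Cert.blockOK_spec M h proofsB1536_ok j (by rw [proofsB1536_len]; omega)
  have h : ∀ j < 2560, cert.Holds φ K j := fun j hj =>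
    Cert.blockOK_spec M h proofsB2048_ok j (by rw [proofsB2048_len]; omega)
  have h : ∀ j < 3072, cert.Holds φ K j := fun j hj =>
    Cert.blockOK_spec M h proofsB2560_ok j (by rw [proofsB2560_len]; omega)
  have h : ∀ j < 3584, cert.Holds φ K j := fun j hj =>
    Cert.blockOK_spec M h proofsB3072_ok j (by rw [proofsB3072_len]; omega)
  have h : ∀ j < 4096, cert.Holds φ K j := fun j hj =>
    Cert.blockOK_spec M h proofsB3584_ok j (by rw [proofsB3584_len]; omega)
  have h : ∀ j < 4608, cert.Holds φ K j := fun j hj =>
    Cert.blockOK_spec M h proofsB4096_ok j (by rw [proofsB4096_len]; omega)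
  have h : ∀ j < 5120, cert.Holds φ K j := fun j hj =>
    Cert.blockOK_spec M h proofsB4608_ok j (by rw [proofsB4608_len]; omega)
  have h : ∀ j < 5632, cert.Holds φ K j := fun j hj =>
    Cert.blockOK_spec M h proofsB5120_ok j (by rw [proofsB5120_len]; omega)
  have h : ∀ j < 6144, cert.Holds φ K j := fun j hj =>
    Cert.blockOK_spec M h proofsB5632_ok j (by rw [proofsB5632_len]; omega)
  have h : ∀ j < 6656, cert.Holds φ K j := fun j hj =>
    Cert.blockOK_spec M h proofsB6144_ok j (by rw [proofsB6144_len]; omega)
  have h : ∀ j < 7168, cert.Holds φ K j := fun j hj =>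
    Cert.blockOK_spec M h proofsB6656_ok j (by rw [proofsB6656_len]; omega)
  have h : ∀ j < 7680, cert.Holds φ K j := fun j hj =>
    Cert.blockOK_spec M h proofsB7168_ok j (by rw [proofsB7168_len]; omega)
  have h : ∀ j < 8192, cert.Holds φ K j := fun j hj =>
    Cert.blockOK_spec M h proofsB7680_ok j (by rw [proofsB7680_len]; omega)
  have h : ∀ j < 8704, cert.Holds φ K j := fun j hj =>
    Cert.blockOK_spec M h proofsB8192_ok j (by rw [proofsB8192_len]; omega)
  have h : ∀ j < 9216, cert.Holds φ K j := fun j hj =>
    Cert.blockOK_spec M h proofsB8704_ok j (by rw [proofsB8704_len]; omega)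
  have h : ∀ j < 9728, cert.Holds φ K j := fun j hj =>
    Cert.blockOK_spec M h proofsB9216_ok j (by rw [proofsB9216_len]; omega)
  have h : ∀ j < 10240, cert.Holds φ K j := fun j hj =>
    Cert.blockOK_spec M h proofsB9728_ok j (by rw [proofsB9728_len]; omega)
  have h : ∀ j < 10752, cert.Holds φ K j := fun j hj =>
    Cert.blockOK_spec M h proofsB10240_ok j (by rw [proofsB10240_len]; omega)
  have h : ∀ j < 11264, cert.Holds φ K j := fun j hj =>
    Cert.blockOK_spec M h proofsB10752_ok j (by rw [proofsB10752_len]; omega)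
  have h : ∀ j < 11776, cert.Holds φ K j := fun j hj =>
    Cert.blockOK_spec M h proofsB11264_ok j (by rw [proofsB11264_len]; omega)
  have h : ∀ j < 12288, cert.Holds φ K j := fun j hj =>
    Cert.blockOK_spec M h proofsB11776_ok j (by rw [proofsB11776_len]; omega)
  have h : ∀ j < 12800, cert.Holds φ K j := fun j hj =>
    Cert.blockOK_spec M h proofsB12288_ok j (by rw [proofsB12288_len]; omega)
  have h : ∀ j < 13312, cert.Holds φ K j := fun j hj =>
    Cert.blockOK_spec M h proofsB12800_ok j (by rw [proofsB12800_len]; omega)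
  have h : ∀ j < 13824, cert.Holds φ K j := fun j hj =>
    Cert.blockOK_spec M h proofsB13312_ok j (by rw [proofsB13312_len]; omega)
  have h : ∀ j < 14336, cert.Holds φ K j := fun j hj =>
    Cert.blockOK_spec M h proofsB13824_ok j (by rw [proofsB13824_len]; omega)
  have h : ∀ j < 14848, cert.Holds φ K j := fun j hj =>
    Cert.blockOK_spec M h proofsB14336_ok j (by rw [proofsB14336_len]; omega)
  have h : ∀ j < 15360, cert.Holds φ K j := fun j hj =>
    Cert.blockOK_spec M h proofsB14848_ok j (by rw [proofsB14848_len]; omega)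
  have h : ∀ j < 15872, cert.Holds φ K j := fun j hj =>
    Cert.blockOK_spec M h proofsB15360_ok j (by rw [proofsB15360_len]; omega)
  have h : ∀ j < 16384, cert.Holds φ K j := fun j hj =>
    Cert.blockOK_spec M h proofsB15872_ok j (by rw [proofsB15872_len]; omega)
  have h : ∀ j < 16896, cert.Holds φ K j := fun j hj =>
    Cert.blockOK_spec M h proofsB16384_ok j (by rw [proofsB16384_len]; omega)
  have h : ∀ j < 17408, cert.Holds φ K j := fun j hj =>
    Cert.blockOK_spec M h proofsB16896_ok j (by rw [proofsB16896_len]; omega)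
  have h : ∀ j < 17920, cert.Holds φ K j := fun j hj =>
    Cert.blockOK_spec M h proofsB17408_ok j (by rw [proofsB17408_len]; omega)
  have h : ∀ j < 18432, cert.Holds φ K j := fun j hj =>
    Cert.blockOK_spec M h proofsB17920_ok j (by rw [proofsB17920_len]; omega)
  have h : ∀ j < 18944, cert.Holds φ K j := fun j hj =>
    Cert.blockOK_spec M h proofsB18432_ok j (by rw [proofsB18432_len]; omega)
  have h : ∀ j < 19456, cert.Holds φ K j := fun j hj =>
    Cert.blockOK_spec M h proofsB18944_ok j (by rw [proofsB18944_len]; omega)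
  have h : ∀ j < 19968, cert.Holds φ K j := fun j hj =>
    Cert.blockOK_spec M h proofsB19456_ok j (by rw [proofsB19456_len]; omega)
  have h : ∀ j < 20480, cert.Holds φ K j := fun j hj =>
    Cert.blockOK_spec M h proofsB19968_ok j (by rw [proofsB19968_len]; omega)
  have h : ∀ j < 20992, cert.Holds φ K j := fun j hj =>
    Cert.blockOK_spec M h proofsB20480_ok j (by rw [proofsB20480_len]; omega)
  have h : ∀ j < 21504, cert.Holds φ K j := fun j hj =>
    Cert.blockOK_spec M h proofsB20992_ok j (by rw [proofsB20992_len]; omega)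
  have h : ∀ j < 22016, cert.Holds φ K j := fun j hj =>
    Cert.blockOK_spec M h proofsB21504_ok j (by rw [proofsB21504_len]; omega)
  have h : ∀ j < 22528, cert.Holds φ K j := fun j hj =>
    Cert.blockOK_spec M h proofsB22016_ok j (by rw [proofsB22016_len]; omega)
  have h : ∀ j < 23040, cert.Holds φ K j := fun j hj =>
    Cert.blockOK_spec M h proofsB22528_ok j (by rw [proofsB22528_len]; omega)
  have h : ∀ j < 23552, cert.Holds φ K j := fun j hj =>
    Cert.blockOK_spec M h proofsB23040_ok j (by rw [proofsB23040_len]; omega)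
  have h : ∀ j < 24064, cert.Holds φ K j := fun j hj =>
    Cert.blockOK_spec M h proofsB23552_ok j (by rw [proofsB23552_len]; omega)
  have h : ∀ j < 24576, cert.Holds φ K j := fun j hj =>
    Cert.blockOK_spec M h proofsB24064_ok j (by rw [proofsB24064_len]; omega)
  have h : ∀ j < 25088, cert.Holds φ K j := fun j hj =>
    Cert.blockOK_spec M h proofsB24576_ok j (by rw [proofsB24576_len]; omega)
  have h : ∀ j < 25600, cert.Holds φ K j := fun j hj =>
    Cert.blockOK_spec M h proofsB25088_ok j (by rw [proofsB25088_len]; omega)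
  have h : ∀ j < 26112, cert.Holds φ K j := fun j hj =>
    Cert.blockOK_spec M h proofsB25600_ok j (by rw [proofsB25600_len]; omega)
  have h : ∀ j < 26624, cert.Holds φ K j := fun j hj =>
    Cert.blockOK_spec M h proofsB26112_ok j (by rw [proofsB26112_len]; omega)
  have h : ∀ j < 27136, cert.Holds φ K j := fun j hj =>
    Cert.blockOK_spec M h proofsB26624_ok j (by rw [proofsB26624_len]; omega)
  have h : ∀ j < 27648, cert.Holds φ K j := fun j hj =>
    Cert.blockOK_spec M h proofsB27136_ok j (by rw [proofsB27136_len]; omega)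
  have h : ∀ j < 28160, cert.Holds φ K j := fun j hj =>
    Cert.blockOK_spec M h proofsB27648_ok j (by rw [proofsB27648_len]; omega)
  have h : ∀ j < 28224, cert.Holds φ K j := fun j hj =>
    Cert.blockOK_spec M h proofsB28160_ok j (by rw [proofsB28160_len]; omega)
  exact h

theorem edges_hold (M : Cert.Model cert φ K) :
    ∀ e < 5824, cert.EdgeHolds φ K tab ord (e / tab.gens) (e % tab.gens) := by
  intro e he
  by_cases h0 : e < 512
  · exact Cert.edgesOK_spec M (facts_hold M) proofsE0_ok e (by omega) (by rw [proofsE0_len]; omega)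
  by_cases h512 : e < 1024
  · exact Cert.edgesOK_spec M (facts_hold M) proofsE512_ok e (by omega) (by rw [proofsE512_len]; omega)
  by_cases h1024 : e < 1536
  · exact Cert.edgesOK_spec M (facts_hold M) proofsE1024_ok e (by omega) (by rw [proofsE1024_len]; omega)
  by_cases h1536 : e < 2048
  · exact Cert.edgesOK_spec M (facts_hold M) proofsE1536_ok e (by omega) (by rw [proofsE1536_len]; omega)
  by_cases h2048 : e < 2560
  · exact Cert.edgesOK_spec M (facts_hold M) proofsE2048_ok e (by omega) (by rw [proofsE2048_len]; omega)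
  by_cases h2560 : e < 3072
  · exact Cert.edgesOK_spec M (facts_hold M) proofsE2560_ok e (by omega) (by rw [proofsE2560_len]; omega)
  by_cases h3072 : e < 3584
  · exact Cert.edgesOK_spec M (facts_hold M) proofsE3072_ok e (by omega) (by rw [proofsE3072_len]; omega)
  by_cases h3584 : e < 4096
  · exact Cert.edgesOK_spec M (facts_hold M) proofsE3584_ok e (by omega) (by rw [proofsE3584_len]; omega)
  by_cases h4096 : e < 4608
  · exact Cert.edgesOK_spec M (facts_hold M) proofsE4096_ok e (by omega) (by rw [proofsE4096_len]; omega)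
  by_cases h4608 : e < 5120
  · exact Cert.edgesOK_spec M (facts_hold M) proofsE4608_ok e (by omega) (by rw [proofsE4608_len]; omega)
  by_cases h5120 : e < 5632
  · exact Cert.edgesOK_spec M (facts_hold M) proofsE5120_ok e (by omega) (by rw [proofsE5120_len]; omega)
  exact Cert.edgesOK_spec M (facts_hold M) proofsE5632_ok e (by omega) (by rw [proofsE5632_len]; omega)

/-- Every element is in one of the cosets. -/
theorem covers (M : Cert.Model cert φ K) : ∀ x ∈ Subgroup.closure (φ '' Set.Iio 8),
    ∃ i < 728, x * (cert.pt φ (nodeOf ord i))⁻¹ ∈ K :=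
  Cert.cover (P := tab) (ord := ord) M.inv rfl (by decide +kernel) (by decide +kernel)
    (fun e he => edges_hold M e he)

end Cfsg.Agent.Lib.SporPres.FiTwentyThree.S728
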