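import Cfsg.Agent.Lib.SporPres.FiTwentyThree.Pres
import Cfsg.Agent.Lib.SporPres.FiTwentyTwo.S6
import Cfsg.Agent.Lib.SporPres.FiTwentyTwo.S4
import Cfsg.Agent.Lib.SporPres.FiTwentyTwo.S5
import Cfsg.Agent.Lib.SporPres.FiTwentyTwo.S16
import Cfsg.Agent.Lib.SporPres.FiTwentyTwo.S27
import Cfsg.Agent.Lib.SporPres.FiTwentyTwo.S243
import Cfsg.Agent.Lib.SporPres.FiTwentyThree.S728
import Cfsg.Agent.Lib.SporPres.FiTwentyThree.S14080

/-! # An upper bound for the subgroup of index 31671 of the presented Fi23 -/

set_option autoImplicit false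

namespace Cfsg.Agent.Lib.SporPres.FiTwentyThree

open Cfsg.Agent.Lib.Coset

open Cfsg.Agent.Lib.SporPres

theorem model {C : Cert} {L L' : List ℕ}
    (hr : (C.rels.all fun r => isRot pres.base (r.map fun k => L.getD k 0)) = true)
    (hs : (C.subs.all fun w => w.all fun a => L'.contains (L.getD a 0)) = true) :
    Cert.Model C (pickGen φ L) (letSub φ L') :=
  model_letters pres.φ_inv pres.base_eq_one hr hs

/-- The letters of the subgroup of index 31671. -/
abbrev lettersNine : List ℕ := [0, 1, 2, 3, 4, 5, 6, 7, 8]

theorem nine : (letSub φ lettersNine : Set Cfsg.Spor.Fi23).Finite ∧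
    Nat.card (letSub φ lettersNine) ≤ 129123503308800 := by
  have h6 := letters_step (L := [2, 3]) rfl (card_letSub_nil φ)
    (FiTwentyTwo.S6.covers (model (by decide +kernel) (by decide +kernel)))
  have h4 := letters_step (L := [2, 3, 4]) rfl h6
    (FiTwentyTwo.S4.covers (model (by decide +kernel) (by decide +kernel)))
  have h5 := letters_step (L := [2, 3, 4, 5]) rfl h4
    (FiTwentyTwo.S5.covers (model (by decide +kernel) (by decide +kernel)))
  have h16 := letters_step (L := [2, 3, 4, 5, 7]) rfl h5
    (FiTwentyTwo.S16.covers (model (by decide +kernel) (by decide +kernel)))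
  have h27 := letters_step (L := [2, 3, 4, 5, 7, 8]) rfl h16
    (FiTwentyTwo.S27.covers (model (by decide +kernel) (by decide +kernel)))
  have h243 := letters_step (L := [1, 2, 3, 4, 5, 7, 8]) rfl h27
    (FiTwentyTwo.S243.covers (model (by decide +kernel) (by decide +kernel)))
  have h728 := letters_step (L := [1, 2, 3, 4, 5, 6, 7, 8]) rfl h243
    (S728.covers (model (by decide +kernel) (by decide +kernel)))
  exact letters_step (L := lettersNine) rfl h728
    (S14080.covers (model (by decide +kernel) (by decide +kernel)))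

end Cfsg.Agent.Lib.SporPres.FiTwentyThree
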