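import Cfsg.Prelude.Def_Sporadic
import Cfsg.Agent.Lib.SporPres.FiTwentyThree.Upper
import Cfsg.Agent.Lib.SporPres.FiTwentyThree.S31671
import Cfsg.Agent.Lib.SporPres.FiTwentyThree.CoverAct

/-! # Cosets, order and suborbits of the presented Fi23 -/

set_option autoImplicit false

namespace Cfsg.Agent.Lib.SporPres.FiTwentyThree

open Cfsg.Agent.Lib.Coset

theorem subK_eq_letSub : subK = letSub φ lettersNine := by
  refine congrArg Subgroup.closure ?_
  ext x
  simp [subWords, lettersNine, ev_cons, ev_nil, eq_comm]

theorem model31671 : Cert.Model S31671.cert φ subK :=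
  model_of pres.φ_inv pres.base_eq_one (by decide +kernel) (fun s hs => by
    have h : (S31671.cert.subs.all fun w => subWords.contains w) = true := by decide +kernel
    have := List.all_eq_true.1 h s hs
    exact Subgroup.subset_closure ⟨s, List.contains_iff_mem.1 this, rfl⟩)

theorem gen : Subgroup.closure (φ '' Set.Iio 10) = ⊤ := pres.gen

theorem pos : 0 < tab.size := by decide +kernel

/-- The representation on the cosets. -/
noncomputable def rep : Rep Cfsg.Spor.Fi23 tab :=
  mkRep tab S31671.cert S31671.ord φ subK act good act_φ pos gen (by decide +kernel)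
    (fun e he => S31671.edges_hold model31671 e he) (S31671.covers model31671) back_ok
    (fix_of act_φ pos (by decide +kernel) (by decide +kernel) le_rfl)

theorem index_subK : subK.index = 31671 := rep.index_eq

theorem group_le : Finite Cfsg.Spor.Fi23 ∧ Nat.card Cfsg.Spor.Fi23 ≤ 4089470473293004800 := by
  have hK := nine
  rw [← subK_eq_letSub] at hK
  have h := card_le_of_cover hK.1 (S31671.covers model31671)
  rw [gen, Subgroup.card_top] at h
  refine ⟨?_, h.2.trans ((Nat.mul_le_mul le_rfl hK.2).trans (by norm_num))⟩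
  have h1 := h.1
  rw [Subgroup.coe_top] at h1
  exact Set.finite_univ_iff.1 h1

theorem range_ge : 4089470473293004800 ≤ Nat.card act.range := by
  have h2 : Nat.card (subK.map act) ≤ Nat.card (MulAction.stabilizer rep.ρ.range rep.z) := by
    refine Nat.card_le_card_of_injective (fun x => ⟨⟨(x : Equiv.Perm (Fin tab.size)), by
      obtain ⟨y, -, hy⟩ := x.2
      exact ⟨y, hy⟩⟩, by
      obtain ⟨y, hy, he⟩ := x.2
      show (x : Equiv.Perm (Fin tab.size)) rep.z = rep.z
      rw [← he]
      exact rep.fix y hy⟩) fun x y hxy => Subtype.ext ?_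
    exact congrArg (fun q : MulAction.stabilizer rep.ρ.range rep.z =>
      ((q : rep.ρ.range) : Equiv.Perm (Fin tab.size))) hxy
  have h3 := rep.card_range_ge (map_subK_card.trans h2)
  refine le_trans (le_of_eq ?_) h3
  rw [size_eq]

theorem card_and_inj : Nat.card Cfsg.Spor.Fi23 = 4089470473293004800 ∧ Function.Injective act :=
  rep.order group_le.1 group_le.2 range_ge

theorem card_subK : Nat.card subK = 129123503308800 := by
  have h := Subgroup.index_mul_card subK
  rw [index_subK, card_and_inj.1] at h
  exact Nat.eq_of_mul_eq_mul_left (by norm_num : 0 < 31671)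
    (h.trans (by norm_num : 4089470473293004800 = 31671 * 129123503308800))

theorem base0_lt : orb0.pt 0 < tab.size := by decide +kernel

theorem base1_lt : orb1.pt 0 < tab.size := by decide +kernel

theorem map_subK : subK.map act = Subgroup.closure (ev (tab.perm good) '' {w | w ∈ subWords}) :=
  map_wordSub act φ (tab.perm good) act_φ (by decide +kernel)

theorem orbit0 : (MulAction.orbit (subK.map act) (⟨orb0.pt 0, base0_lt⟩ : Fin tab.size)).ncard = 3510 ∧
    ∀ x : Fin tab.size, x ∈ MulAction.orbit (subK.map act) (⟨orb0.pt 0, base0_lt⟩ : Fin tab.size) ↔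
      orb0.has x = true :=
  BigOrbit.orbit_eq good (by decide +kernel) (by norm_num : 0 < 1500) orb0_ok map_subK
    (by decide +kernel) _ rfl

theorem orbit1 : (MulAction.orbit (subK.map act) (⟨orb1.pt 0, base1_lt⟩ : Fin tab.size)).ncard = 28160 ∧
    ∀ x : Fin tab.size, x ∈ MulAction.orbit (subK.map act) (⟨orb1.pt 0, base1_lt⟩ : Fin tab.size) ↔
      orb1.has x = true :=
  BigOrbit.orbit_eq good (by decide +kernel) (by norm_num : 0 < 1500) orb1_ok map_subK
    (by decide +kernel) _ rfl

theorem exists_suborbits : ∃ q₁ q₂ : Cfsg.Spor.Fi23 ⧸ subK,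
    (MulAction.orbit subK q₁).ncard = 3510 ∧ (MulAction.orbit subK q₂).ncard = 28160 := by
  obtain ⟨q0, h0⟩ := rep.exists_orbit base0_lt
  obtain ⟨q1, h1⟩ := rep.exists_orbit base1_lt
  refine ⟨q0, q1, ?_, ?_⟩
  · refine (rep.ncard_orbit q0).trans ?_
    rw [h0]; exact orbit0.1
  · refine (rep.ncard_orbit q1).trans ?_
    rw [h1]; exact orbit1.1

theorem sup_subK (N : Subgroup Cfsg.Spor.Fi23) [N.Normal] (hne : N ≠ ⊥) : rep.K ⊔ N = ⊤ := by
  have hsep : orb0.has 0 = false ∧ orb1.has 0 = false ∧ orb0.has (orb1.pt 0) = false := by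
    decide +kernel
  refine rep.sup_eq_top_two card_and_inj.2 orbit0.1 orbit1.1 ?_ ?_ ?_ (by rw [size_eq])
    (by rw [size_eq]; norm_num) (by rw [size_eq]; norm_num) N hne
  · exact fun h => by
      have := (orbit0.2 rep.z).1 h
      exact Bool.false_ne_true (hsep.1.symm.trans this)
  · exact fun h => by
      have := (orbit1.2 rep.z).1 h
      exact Bool.false_ne_true (hsep.2.1.symm.trans this)
  · exact fun h => by
      have := (orbit0.2 _).1 h
      exact Bool.false_ne_true (hsep.2.2.symm.trans this)

end Cfsg.Agent.Lib.SporPres.FiTwentyThree
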