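import Cfsg.Prelude.Def_SporadicB
import Cfsg.Agent.Lib.SporPres.FiTwentyThree.Order

/-! # The subgroup of index 31671 of the presented Fi23 is a double cover of the presented Fi22 -/

set_option autoImplicit false

namespace Cfsg.Agent.Lib.SporPres.FiTwentyThree

open Cfsg.Agent.Lib.Coset

theorem card_ker : Nat.card coverHom.ker = 2 := by
  have h := coverHom.ker.card_mul_index
  rw [Subgroup.index_ker, range_coverHom,
    ← Nat.card_congr (MonoidHom.ofInjective FiTwentyTwo.card_and_inj.2).toEquiv,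
    FiTwentyTwo.card_and_inj.1, card_subK] at h
  exact Nat.eq_of_mul_eq_mul_right (by norm_num : 0 < 64561751654400)
    (h.trans (by norm_num : 129123503308800 = 2 * 64561751654400))

/-- The quotient map onto the presented Fi22. -/
noncomputable def toSmall : subK ⧸ coverHom.ker ≃* Cfsg.Spor.Fi22 :=
  (QuotientGroup.quotientKerEquivRange coverHom).trans
    ((MulEquiv.subgroupCongr range_coverHom).trans
      (MonoidHom.ofInjective FiTwentyTwo.card_and_inj.2).symm)

theorem center_small : Subgroup.center Cfsg.Spor.Fi22 = ⊥ := by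
  have : IsSimpleGroup Cfsg.Spor.Fi22 := FiTwentyTwo.isFiTwentyTwo.1
  refine (Subgroup.Normal.eq_bot_or_eq_top inferInstance).resolve_right fun h => ?_
  have hc : FiTwentyTwo.φ 0 * FiTwentyTwo.φ 1 = FiTwentyTwo.φ 1 * FiTwentyTwo.φ 0 :=
    (Subgroup.mem_center_iff.1 (h ▸ Subgroup.mem_top (FiTwentyTwo.φ 1))) _
  have h1 := congrArg FiTwentyTwo.act hc
  rw [map_mul, map_mul, FiTwentyTwo.act_φ 0 (by decide +kernel),
    FiTwentyTwo.act_φ 1 (by decide +kernel)] at h1
  have hne : FiTwentyTwo.tab.app [0, 1] 0 ≠ FiTwentyTwo.tab.app [1, 0] 0 := by decide +kernel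
  refine hne ?_
  have h2 := congrArg (fun σ : Equiv.Perm (Fin FiTwentyTwo.tab.size) =>
    ((σ ⟨0, FiTwentyTwo.pos⟩ : Fin _) : ℕ)) h1
  simp only [Equiv.Perm.mul_apply, Tab.perm] at h2
  rw [dif_pos (show 0 < FiTwentyTwo.tab.gens by decide +kernel),
    dif_pos (show 1 < FiTwentyTwo.tab.gens by decide +kernel)] at h2
  exact h2

theorem center_eq : Subgroup.center subK = coverHom.ker := by
  refine le_antisymm (fun z hz => ?_) (fun z hz => ?_)
  · have h1 : toSmall (QuotientGroup.mk' _ z) ∈ Subgroup.center Cfsg.Spor.Fi22 :=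
      Subgroup.mem_center_iff.2 fun g => by
        obtain ⟨t, rfl⟩ := toSmall.surjective g
        obtain ⟨x, rfl⟩ := QuotientGroup.mk'_surjective _ t
        rw [← map_mul, ← map_mul, ← map_mul, ← map_mul, Subgroup.mem_center_iff.1 hz x]
    rw [center_small, Subgroup.mem_bot, ← map_one toSmall] at h1
    exact (QuotientGroup.eq_one_iff z).1 (toSmall.injective h1)
  · refine Subgroup.mem_center_iff.2 fun g => ?_
    have := group_le.1
    have hzg : g * z * g⁻¹ ∈ coverHom.ker := coverHom.normal_ker.conj_mem z hz g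
    obtain ⟨u, -, hu⟩ := Nat.card_eq_two_iff' (1 : coverHom.ker) |>.1 card_ker
    rcases eq_or_ne z 1 with rfl | hz1
    · simp
    · have e1 : (⟨z, hz⟩ : coverHom.ker) = u := hu _ fun h => hz1 (congrArg Subtype.val h)
      have e2 : (⟨g * z * g⁻¹, hzg⟩ : coverHom.ker) = u := hu _ fun h => hz1 (by
        simpa using congrArg Subtype.val h)
      have := congrArg Subtype.val (e2.trans e1.symm)
      simpa using mul_inv_eq_iff_eq_mul.1 this

/-- The pairs of adjacent letters. -/
def links : List (ℕ × ℕ) := [(0, 1), (1, 2), (2, 3), (3, 4), (4, 5), (5, 6), (3, 7), (7, 8)]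

theorem eq_top_of_squares (L : Subgroup subK) [L.Normal] (hsq : ∀ y : subK ⧸ L, y * y = 1) :
    L = ⊤ := by
  let q := QuotientGroup.mk' L
  let x : ℕ → subK := fun g =>
    if h : g < 9 then ⟨_, Subgroup.subset_closure ⟨_, letter_mem g h, rfl⟩⟩ else 1
  have hxv : ∀ g < 9, ((x g : subK) : Cfsg.Spor.Fi23) = pres.φ g := fun g hg => by
    simp only [x, dif_pos hg, ev_cons, ev_nil, mul_one]
  have hlink : ∀ p ∈ links, q (x p.1) = q (x p.2) := by
    intro p hp
    have hlt : p.1 < 9 ∧ p.2 < 9 ∧ List.elem (Coset.rep 3 [p.1, p.2]) pres.base = true :=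
      (by decide +kernel : ∀ p ∈ links, p.1 < 9 ∧ p.2 < 9 ∧
        List.elem (Coset.rep 3 [p.1, p.2]) pres.base = true) p hp
    have h1 := pres.base_eq_one _ (List.elem_iff.1 hlt.2.2)
    rw [ev_rep, ev_cons, ev_cons, ev_nil, mul_one, ← hxv _ hlt.1, ← hxv _ hlt.2.1,
      ← Subgroup.coe_mul, ← SubgroupClass.coe_pow, OneMemClass.coe_eq_one] at h1
    have h2 := congrArg q h1
    rw [map_pow, map_mul, map_one, pow_succ, pow_two, hsq, one_mul] at h2
    exact (mul_eq_one_iff_eq_inv.1 h2).trans (inv_eq_of_mul_eq_one_right (hsq _))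
  have e : ∀ i j, (i, j) ∈ links → q (x i) = q (x j) := fun i j h => hlink (i, j) h
  have e01 := e 0 1 (by simp [links])
  have e02 := e01.trans (e 1 2 (by simp [links]))
  have e03 := e02.trans (e 2 3 (by simp [links]))
  have e04 := e03.trans (e 3 4 (by simp [links]))
  have e05 := e04.trans (e 4 5 (by simp [links]))
  have e06 := e05.trans (e 5 6 (by simp [links]))
  have e07 := e03.trans (e 3 7 (by simp [links]))
  have e08 := e07.trans (e 7 8 (by simp [links]))
  have hr : (x 0 * (x 1 * (x 2 * (x 3 * (x 4 * (x 5 * x 7)))))) ^ 9 = 1 := Subtype.ext (by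
    have h := pres.base_eq_one (Coset.rep 9 [0, 1, 2, 3, 4, 5, 7]) (by simp [Pres.base, pres])
    simp only [ev_rep, ev_cons, ev_nil, mul_one] at h
    simp only [SubgroupClass.coe_pow, Subgroup.coe_mul, OneMemClass.coe_one]
    rw [hxv 0 (by norm_num), hxv 1 (by norm_num), hxv 2 (by norm_num), hxv 3 (by norm_num),
      hxv 4 (by norm_num), hxv 5 (by norm_num), hxv 7 (by norm_num)]
    exact h)
  have h0 : q (x 0) = 1 := by
    have h := congrArg q hr
    simp only [map_pow, map_mul, map_one, ← e01, ← e02, ← e03, ← e04, ← e05, ← e07, hsq, mul_one] at h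
    rwa [show (9 : ℕ) = 2 * 4 + 1 from rfl, pow_succ, pow_mul, pow_two, hsq, one_pow, one_mul] at h
  have htop : (⊤ : Subgroup subK) ≤ L := by
    suffices hall : ∀ y, y ∈ L from fun y _ => hall y
    rintro ⟨y, hy⟩
    induction hy using Subgroup.closure_induction with
    | mem y hy =>
      obtain ⟨w, hw, rfl⟩ := hy
      obtain ⟨g, hg, rfl⟩ : ∃ g < 9, w = [g] :=
        (by decide +kernel : ∀ w ∈ subWords, ∃ g < 9, w = [g]) w hw
      have hg1 : q (x g) = 1 := by
        interval_cases g
        exacts [h0, e01 ▸ h0, e02 ▸ h0, e03 ▸ h0, e04 ▸ h0, e05 ▸ h0, e06 ▸ h0, e07 ▸ h0,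
          e08 ▸ h0]
      have := (QuotientGroup.eq_one_iff _).1 hg1
      simpa only [x, dif_pos hg] using this
    | one => exact L.one_mem
    | mul a b ha hb iha ihb => exact L.mul_mem iha ihb
    | inv a ha iha => exact L.inv_mem iha
  exact top_le_iff.1 htop

theorem no_complement (L : Subgroup subK) : ¬ (Subgroup.center subK).IsComplement' L := by
  intro hL
  have hidx : L.index = 2 := by rw [hL.index_eq_card, center_eq, card_ker]
  have := Subgroup.normal_of_index_eq_two hidx
  have hq2 : Nat.card (subK ⧸ L) = 2 := hidx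
  rw [eq_top_of_squares L fun y => by rw [← pow_two, ← hq2]; exact pow_card_eq_one',
    Subgroup.index_top] at hidx
  exact absurd hidx (by norm_num)

theorem isDoubleCover : Cfsg.IsNonsplitDoubleCover subK Cfsg.Spor.Fi22 :=
  ⟨by rw [center_eq]; exact card_ker,
    ⟨(QuotientGroup.quotientMulEquivOfEq center_eq).trans toSmall⟩, no_complement⟩

end Cfsg.Agent.Lib.SporPres.FiTwentyThree
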