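import Cfsg.Agent.Lib.SporPres.FiTwentyThree.NormalElemChecks
import Cfsg.Agent.Lib.SporPres.FiTwentyThree.LiftData
import Cfsg.Agent.Lib.SporPres.FiTwentyThree.LiftTools
import Cfsg.Agent.Lib.SporPres.FiTwentyThree.Pres

/-! # Checks for lifting the relations of the presented Fi23 to a central extension -/

set_option autoImplicit false

namespace Cfsg.Agent.Lib.SporPres.FiTwentyThree.Lift

open Cfsg.Agent.Lib.Coset NormalElem

/-- The word of the spider relation. -/
def spiderRel : List ℕ := rep 10 [3, 2, 1, 3, 4, 5, 3, 7, 8]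

/-- The Coxeter word of the second relation. -/
def coxWord : List ℕ := [0, 1, 2, 3, 4, 5, 7]

/-- The second element of the commutator, modified so that it is inverted. -/
def otherWord : List ℕ := linearWord ++ (linearWord ++ (shiftWord ++ shiftWord))

theorem words_eq : pres.words = [spiderRel, rep 9 coxWord] := rfl

theorem comm_moves : moves commMoves (shiftWord ++ (linearWord ++ (shiftWord.reverse ++ (linearWord.reverse ++
    (conjWord ++ (spiderRel ++ conjWord.reverse)))))) = some [] := by
  decide +kernel

theorem three_moves : moves threeMoves (spiderRel ++ (conjWordB ++ (spiderRel ++ (conjWordB.reverse ++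
    (conjWordC ++ (spiderRel ++ conjWordC.reverse)))))) = some [] := by
  decide +kernel

theorem rev_moves : rotMoves revMoves coxWord = some coxWord.reverse := by decide +kernel

theorem letters_ok' : ([shiftWord, linearWord, conjWord, conjWordB, conjWordC, invertWord, spiderRel, coxWord] ++
    pairData.map fun p => p.2.2).all (fun w => w.all (· < pointTab.gens)) = true := by
  decide +kernel

theorem pairs_cover : ∀ i < 10, ∀ j < 10, apart i j = true → pairData.any (fun p =>
    (Nat.beq p.1 i && Nat.beq p.2.1 j) || (Nat.beq p.1 j && Nat.beq p.2.1 i)) = true := by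
  decide +kernel

theorem pairs_ok : pairData.all (fun p => decide (p.1 < 10) && decide (p.2.1 < 10) &&
    sameOnGens (p.2.2 ++ ([9] ++ p.2.2.reverse)) [p.1] &&
    sameOnGens (p.2.2 ++ ([0] ++ p.2.2.reverse)) [p.2.1]) = true := by
  decide +kernel

theorem invert_ok : sameOnGens (invertWord ++ (shiftWord ++ invertWord.reverse)) shiftWord = true ∧
    sameOnGens (invertWord ++ (otherWord ++ invertWord.reverse)) otherWord.reverse = true := by
  decide +kernel

theorem label_ok : ∀ i < 10, ∀ j < 10,
    (i = j ∧ Cfsg.Spor.coxLabel Cfsg.Spor.Fi23.edges (pres.gl.getD i pres.dflt) (pres.gl.getD j pres.dflt) = 1) ∨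
    (joined i j = true ∧
      Cfsg.Spor.coxLabel Cfsg.Spor.Fi23.edges (pres.gl.getD i pres.dflt) (pres.gl.getD j pres.dflt) = 3) ∨
    (apart i j = true ∧
      Cfsg.Spor.coxLabel Cfsg.Spor.Fi23.edges (pres.gl.getD i pres.dflt) (pres.gl.getD j pres.dflt) = 2) := by
  decide +kernel

theorem edges_base : ∀ i < 10, ∀ j < 10, joined i j = true →
    List.elem (Coset.rep 3 [i, j]) pres.base = true := by
  decide +kernel

theorem apart_lt {a b : ℕ} (h : apart a b = true) : a < 10 ∧ b < 10 := by
  simp only [apart, Bool.and_eq_true, decide_eq_true_eq] at h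
  exact ⟨h.1.1.1, h.1.1.2⟩

theorem joined_lt {a b : ℕ} (h : joined a b = true) : a < 10 ∧ b < 10 := by
  simp only [joined, List.any_cons, List.any_nil, Bool.or_eq_true, Bool.and_eq_true, Nat.beq_eq,
    Bool.or_false] at h
  omega

end Cfsg.Agent.Lib.SporPres.FiTwentyThree.Lift
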