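import Cfsg.Agent.Lib.SporPres.FiTwentyThree.NormalElem
import Cfsg.Agent.Lib.SporPres.FiTwentyThree.LiftChecks
import Cfsg.Prelude.Def_KGroupFacts

/-!
# Central extensions of the presented Fi23 split

The generators lift to conjugate involutions satisfying the Coxeter relations and the second relation
exactly. The spider relation lifts to a central element `r`; computations in the affine Weyl group of
type E6 give `r ^ 3 = 1` and express `r` as a commutator, and an element centralising one entry and
inverting the other gives `r ^ 4 = 1`.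
-/

set_option autoImplicit false

namespace Cfsg.Agent.Lib.SporPres.FiTwentyThree.Lift

open Cfsg.Agent.Lib.Coset NormalElem

variable {E : Type} [Group E] (σ : E →* Cfsg.Spor.Fi23)

theorem rot_conj (a b : E) : (a * b) * a * (a * b)⁻¹ = a * b * a * b⁻¹ * a⁻¹ := by group

theorem exists_lifts (hs : Function.Surjective σ) (hker : σ.ker ≤ Subgroup.center E) :
    ∃ x : ℕ → E, (∀ k < 10, σ (x k) = φ k) ∧ (∀ k, x k * x k = 1) ∧
      (∀ a b, apart a b = true → Commute (x a) (x b)) ∧
      (∀ a b, joined a b = true → x a * x b * x a = x b * x a * x b) ∧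
      ev x coxWord ^ 9 = 1 := by
  classical
  have hcen : ∀ a : E, σ a = 1 → ∀ g, Commute a g := fun a ha g =>
    (Subgroup.mem_center_iff.1 (hker ha) g).symm
  choose z hz using fun k => hs (φ k)
  let cj : E → E → E := fun a b => (a * b) * a * (a * b)⁻¹
  let y0 := z 0
  let y1 := cj y0 (z 1)
  let y2 := cj y1 (z 2)
  let y3 := cj y2 (z 3)
  let y4 := cj y3 (z 4)
  let y5 := cj y4 (z 5)
  let y6 := cj y5 (z 6)
  let y9 := cj y6 (z 9)
  let y7 := cj y3 (z 7)
  let y8 := cj y7 (z 8)
  let y : ℕ → E := fun k => [y0, y1, y2, y3, y4, y5, y6, y7, y8, y9].getD k y0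
  have hinv : ∀ k, (φ k)⁻¹ = φ k := fun k => inv_eq_of_mul_eq_one_right (pres.φ_inv k)
  have hstep : ∀ (i j : ℕ) (a : E), i < 10 → j < 10 → joined i j = true → σ a = φ i →
      σ (cj a (z j)) = φ j := fun i j a hi hj h ha => by
    show σ ((a * z j) * a * (a * z j)⁻¹) = φ j
    rw [map_mul, map_mul, map_inv, map_mul, ha, hz, mul_inv_rev, hinv, hinv, ← mul_assoc]
    exact braid i j (edges_base i hi j hj h)
  have s0 : σ y0 = φ 0 := hz 0
  have s1 : σ y1 = φ 1 := hstep 0 1 y0 (by norm_num) (by norm_num) rfl s0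
  have s2 : σ y2 = φ 2 := hstep 1 2 y1 (by norm_num) (by norm_num) rfl s1
  have s3 : σ y3 = φ 3 := hstep 2 3 y2 (by norm_num) (by norm_num) rfl s2
  have s4 : σ y4 = φ 4 := hstep 3 4 y3 (by norm_num) (by norm_num) rfl s3
  have s5 : σ y5 = φ 5 := hstep 4 5 y4 (by norm_num) (by norm_num) rfl s4
  have s6 : σ y6 = φ 6 := hstep 5 6 y5 (by norm_num) (by norm_num) rfl s5
  have s9 : σ y9 = φ 9 := hstep 6 9 y6 (by norm_num) (by norm_num) rfl s6
  have s7 : σ y7 = φ 7 := hstep 3 7 y3 (by norm_num) (by norm_num) rfl s3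
  have s8 : σ y8 = φ 8 := hstep 7 8 y7 (by norm_num) (by norm_num) rfl s7
  have hy : ∀ k < 10, σ (y k) = φ k := by
    intro k hk
    interval_cases k <;> assumption
  set s := y0 * y0 with hsdef
  have hscen : ∀ g, Commute s g := hcen s (by rw [hsdef, map_mul, s0]; exact pres.φ_inv 0)
  have hsq : ∀ (a b : E), a * a = s → cj a b * cj a b = s := fun a b ha => by
    calc cj a b * cj a b = (a * b) * (a * a) * (a * b)⁻¹ := by simp only [cj]; group
      _ = s := by rw [ha, ← (hscen (a * b)).eq, mul_inv_cancel_right]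
  have q1 : y1 * y1 = s := hsq y0 _ rfl
  have q2 : y2 * y2 = s := hsq y1 _ q1
  have q3 : y3 * y3 = s := hsq y2 _ q2
  have q4 : y4 * y4 = s := hsq y3 _ q3
  have q5 : y5 * y5 = s := hsq y4 _ q4
  have q6 : y6 * y6 = s := hsq y5 _ q5
  have q9 : y9 * y9 = s := hsq y6 _ q6
  have q7 : y7 * y7 = s := hsq y3 _ q3
  have q8 : y8 * y8 = s := hsq y7 _ q7
  have hyy : ∀ k, y k * y k = s := by
    intro k
    rcases Nat.lt_or_ge k 10 with hk | hk
    · interval_cases k <;> first | rfl | assumption
    · simp only [y, List.getD_eq_default _ _ (show [y0, y1, y2, y3, y4, y5, y6, y7, y8, y9].length ≤ k from hk)]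
      rfl
  have hbr : ∀ (i j : ℕ), i < 10 → j < 10 → y j = cj (y i) (z j) →
      y i * y j * y i = y j * y i * y j := by
    intro i j hi hj he
    have hd : ∀ g, Commute ((y j)⁻¹ * z j) g := hcen _ (by rw [map_mul, map_inv, hy j hj, hz, inv_mul_cancel])
    have h2 : y j = y i * y j * y i * (y j)⁻¹ * (y i)⁻¹ := by
      calc y j = cj (y i) (z j) := he
        _ = y i * y j * (((y j)⁻¹ * z j) * y i) * ((y j)⁻¹ * z j)⁻¹ * (y j)⁻¹ * (y i)⁻¹ := by
          simp only [cj]; group
        _ = _ := by rw [(hd (y i)).eq]; group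
    calc y i * y j * y i = y i * y j * y i * (y j)⁻¹ * (y i)⁻¹ * y i * y j := by group
      _ = y j * y i * y j := by rw [← h2]
  have e1 := hbr 0 1 (by norm_num) (by norm_num) rfl
  have e2 := hbr 1 2 (by norm_num) (by norm_num) rfl
  have e3 := hbr 2 3 (by norm_num) (by norm_num) rfl
  have e4 := hbr 3 4 (by norm_num) (by norm_num) rfl
  have e5 := hbr 4 5 (by norm_num) (by norm_num) rfl
  have e6 := hbr 5 6 (by norm_num) (by norm_num) rfl
  have e9 := hbr 6 9 (by norm_num) (by norm_num) rfl
  have e7 := hbr 3 7 (by norm_num) (by norm_num) rfl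
  have e8 := hbr 7 8 (by norm_num) (by norm_num) rfl
  have hbraid : ∀ a b, joined a b = true → y a * y b * y a = y b * y a * y b := by
    intro a b h
    simp only [joined, List.any_cons, List.any_nil, Bool.or_eq_true, Bool.and_eq_true, Nat.beq_eq,
      Bool.or_false] at h
    rcases h with h | h | h | h | h | h | h | h | h <;> rcases h with ⟨rfl, rfl⟩ | ⟨rfl, rfl⟩ <;>
      first | assumption | exact Eq.symm ‹_›
  -- the commutators of commuting generators
  have hcomm : ∀ a b : E, Commute (σ a) (σ b) → ∀ g, Commute (comm a b) g := fun a b h =>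
    hcen _ (by simp only [comm, map_mul, map_inv]; rw [h.eq]; group)
  have happ : ∀ a b, apart a b = true → Commute (σ (y a)) (σ (y b)) := fun a b h => by
    obtain ⟨ha, hb⟩ := apart_lt h
    rw [hy a ha, hy b hb]
    have hlab := (label_ok a ha b hb).resolve_left (fun h' => by
      simp only [apart, h'.1, Nat.beq_refl, Bool.not_true, Bool.and_false, Bool.false_and] at h
      exact Bool.false_ne_true h)
    rcases hlab with h' | ⟨-, hl⟩
    · simp only [apart, h'.1, Bool.not_true, Bool.and_false] at h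
      exact absurd h Bool.false_ne_true
    · have hw := pres.base_eq_one (Coset.rep 2 [a, b]) (by
        refine List.mem_cons_of_mem _ (List.mem_append_left _ ?_)
        simp only [coxWords, List.mem_flatMap, List.mem_map, List.mem_range]
        exact ⟨a, ha, b, hb, by rw [hl]⟩)
      rw [ev_rep, ev_cons, ev_cons, ev_nil, mul_one, pow_two] at hw
      calc φ a * φ b = (φ a * φ b)⁻¹ := eq_inv_of_mul_eq_one_left hw
        _ = φ b * φ a := by rw [mul_inv_rev, hinv, hinv]
  set e := comm (y 9) (y 0) with hedef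
  have hecen : ∀ g, Commute e g := hcomm _ _ (happ 9 0 rfl)
  have hchain : ∀ i j, apart 9 i = true → apart 9 j = true → joined i j = true →
      comm (y 9) (y j) = comm (y 9) (y i) := by
    intro i j hi hj hij
    have ci := hcomm _ _ (happ 9 i hi)
    have cj' := hcomm _ _ (happ 9 j hj)
    have h := congrArg (comm (y 9)) (hbraid i j hij)
    rw [comm_mul_right ci, comm_mul_right cj', comm_mul_right cj', comm_mul_right ci,
      (cj' (comm (y 9) (y i))).eq] at h
    exact (mul_left_cancel h).symm
  have k1 : comm (y 9) (y 1) = e := hchain 0 1 rfl rfl rfl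
  have k2 : comm (y 9) (y 2) = e := (hchain 1 2 rfl rfl rfl).trans k1
  have k3 : comm (y 9) (y 3) = e := (hchain 2 3 rfl rfl rfl).trans k2
  have k4 : comm (y 9) (y 4) = e := (hchain 3 4 rfl rfl rfl).trans k3
  have k5 : comm (y 9) (y 5) = e := (hchain 4 5 rfl rfl rfl).trans k4
  have k7 : comm (y 9) (y 7) = e := (hchain 3 7 rfl rfl rfl).trans k3
  have hlen : ∀ L : List ℕ, (∀ a ∈ L, a ∈ coxWord) → comm (y 9) (ev y L) = e ^ L.length := by
    intro L hL
    induction L with
    | nil => simp [ev_nil, comm]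
    | cons a L ih =>
      have ih' := ih fun b hb => hL b (by simp [hb])
      rw [ev_cons, comm_mul_right (ih' ▸ fun g => (hecen g).pow_left _), ih', List.length_cons, pow_succ']
      have := hL a (by simp)
      simp only [coxWord, List.mem_cons, List.not_mem_nil, or_false] at this
      rcases this with rfl | rfl | rfl | rfl | rfl | rfl | rfl
      exacts [rfl, by rw [k1], by rw [k2], by rw [k3], by rw [k4], by rw [k5], by rw [k7]]
  have hv9 : σ (ev y (Coset.rep 9 coxWord)) = 1 := by
    rw [ev_comp, ev, List.map_congr_left (f := ⇑σ ∘ y) (g := φ) fun a ha => hy a ?_, ← ev]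
    · exact pres.base_eq_one _ (List.mem_cons_of_mem _ (List.mem_append_right _ (by simp [words_eq])))
    · exact (show ∀ a ∈ Coset.rep 9 coxWord, a < 10 by decide +kernel) a ha
  have he63 : e ^ 63 = 1 := by
    have h := hlen (Coset.rep 9 coxWord) (by decide +kernel)
    rw [show (Coset.rep 9 coxWord).length = 63 from rfl] at h
    rw [← h, comm, mul_assoc, mul_assoc, ← mul_assoc (ev y (Coset.rep 9 coxWord)),
      (hcen _ hv9 (y 9)⁻¹).eq, mul_inv_cancel_right, mul_inv_cancel]
  have he2 : e * e = 1 := by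
    rw [hedef, ← comm_mul_left hecen, hyy]
    simp only [comm]
    rw [(hscen (y 0)).eq]
    group
  have he : e = 1 := by
    have : e ^ 63 = e * (e * e) ^ 31 := by rw [← pow_two, ← pow_mul, ← pow_succ']
    rw [this, he2, one_pow, mul_one] at he63
    exact he63
  have hword : ∀ w : List ℕ, w.all (· < tab.gens) = true → σ (ev y w) = ev φ w := fun w hw => by
    rw [ev_comp, ev, List.map_congr_left (f := ⇑σ ∘ y) (g := φ) fun a ha =>
      hy a (of_decide_eq_true (List.all_eq_true.1 hw a ha)), ← ev]
  have hcomy : ∀ a b, apart a b = true → Commute (y a) (y b) := by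
    intro a b h
    obtain ⟨ha, hb⟩ := apart_lt h
    obtain ⟨p, hp, hpij⟩ := List.any_eq_true.1 (pairs_cover a ha b hb h)
    have hok := List.all_eq_true.1 pairs_ok p hp
    simp only [Bool.and_eq_true, decide_eq_true_eq] at hok
    obtain ⟨⟨⟨h1, h2⟩, h3⟩, h4⟩ := hok
    have hl : p.2.2.all (· < tab.gens) = true :=
      List.all_eq_true.1 letters_ok' _ (List.mem_append_right _ (List.mem_map.2 ⟨p, hp, rfl⟩))
    set g := ev y p.2.2
    have conjEq : ∀ k i, k < 10 → i < 10 → sameOnGens (p.2.2 ++ ([k] ++ p.2.2.reverse)) [i] = true →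
        ∀ t, Commute ((y i)⁻¹ * (g * y k * g⁻¹)) t := by
      intro k i hk hi hsame
      refine hcen _ ?_
      have hk' : [k].all (· < tab.gens) = true := by
        simp only [List.all_cons, List.all_nil, Bool.and_true, decide_eq_true_eq]; exact hk
      have hi' : [i].all (· < tab.gens) = true := by
        simp only [List.all_cons, List.all_nil, Bool.and_true, decide_eq_true_eq]; exact hi
      have := eq_of_same (all_app hl (all_app hk' (all_rev hl))) hi' hsame
      rw [ev_append, ev_append, rev_eq, ev_cons, ev_nil, mul_one, ev_cons, ev_nil, mul_one, ← mul_assoc] at this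
      rw [map_mul, map_inv, map_mul, map_mul, map_inv, hword _ hl, hy k hk, hy i hi, this, inv_mul_cancel]
    have hc1 := conjEq 9 p.1 (by norm_num) h1 h3
    have hc2 := conjEq 0 p.2.1 (by norm_num) h2 h4
    have hzero : comm (y p.1) (y p.2.1) = 1 := by
      have h5 : comm (g * y 9 * g⁻¹) (g * y 0 * g⁻¹) = 1 := by
        rw [comm_conj, ← hedef, he, mul_one, mul_inv_cancel]
      rw [← mul_inv_cancel_left (y p.1) (g * y 9 * g⁻¹), ← mul_inv_cancel_left (y p.2.1) (g * y 0 * g⁻¹),
        comm_central_left hc1, comm_central_right hc2] at h5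
      exact h5
    have hc : Commute (y p.1) (y p.2.1) := by
      simp only [comm] at hzero
      show y p.1 * y p.2.1 = y p.2.1 * y p.1
      calc y p.1 * y p.2.1 =
          (y p.1 * y p.2.1 * (y p.1)⁻¹ * (y p.2.1)⁻¹) * (y p.2.1 * y p.1) := by group
        _ = y p.2.1 * y p.1 := by rw [hzero, one_mul]
    simp only [Bool.or_eq_true, Bool.and_eq_true, Nat.beq_eq] at hpij
    rcases hpij with ⟨e1, e2⟩ | ⟨e1, e2⟩
    · rwa [e1, e2] at hc
    · rw [e1, e2] at hc; exact hc.symm
  -- adjust the squares and the second relation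
  set r2 := ev y coxWord ^ 9 with hr2
  have hr2cen : ∀ g, Commute r2 g := hcen _ (by rw [hr2, ← ev_rep, hv9])
  have hrevmul : ∀ L : List ℕ, ev y L.reverse * ev y L = s ^ L.length := by
    intro L
    induction L with
    | nil => simp [ev_nil]
    | cons a L ih =>
      rw [List.reverse_cons, ev_append, ev_cons, ev_cons, ev_nil, mul_one, mul_assoc (ev y L.reverse),
        ← mul_assoc (y a), hyy, (hscen (ev y L)).eq, ← mul_assoc, ih, List.length_cons, pow_succ]
  have hr2sq : r2 * r2 = s ^ 63 := by
    have hR : ev y coxWord.reverse ^ 9 = r2 := rotMoves_spec hcomy _ _ _ rev_moves hr2cen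
    have h7 := hrevmul coxWord
    rw [← eq_mul_inv_iff_mul_eq] at h7
    rw [h7, ((hscen _).pow_left _).inv_right.mul_pow, inv_pow, ← hr2, ← pow_mul,
      show coxWord.length * 9 = 63 from rfl, mul_inv_eq_iff_eq_mul] at hR
    exact hR.symm
  set c := r2 * (s ^ 31)⁻¹ with hcdef
  have hccen : ∀ g, Commute c g := fun g => (hr2cen g).mul_left ((hscen g).pow_left 31).inv_left
  have hcc : c * c = s := by
    rw [← pow_two, hcdef, (hr2cen _).mul_pow, pow_two r2, hr2sq, inv_pow, ← pow_mul]
    rw [mul_inv_eq_iff_eq_mul, ← pow_succ']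
  refine ⟨fun k => y k * c⁻¹, fun k hk => ?_, fun k => ?_, fun a b h => ?_, fun a b h => ?_, ?_⟩
  · have hσc : σ c = 1 := by
      rw [hcdef, hr2, ← ev_rep, map_mul, hv9, map_inv, map_pow, hsdef, map_mul, s0, pres.φ_inv, one_pow]
      simp
    rw [map_mul, map_inv, hσc, hy k hk, inv_one, mul_one]
  · show y k * c⁻¹ * (y k * c⁻¹) = 1
    rw [mul_assoc, ← mul_assoc c⁻¹, ((hccen (y k)).inv_left).eq, mul_assoc, ← mul_assoc, hyy, ← hcc]
    group
  · exact ((hcomy a b h).mul_right (hccen _).inv_left.symm).mul_left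
      (((hccen (y b)).inv_left).mul_right (Commute.refl _))
  · have hmove : ∀ p q : E, p * c⁻¹ * (q * c⁻¹) = p * q * (c⁻¹ * c⁻¹) := fun p q => by
      rw [mul_assoc, ← mul_assoc c⁻¹, ((hccen q).inv_left).eq]; group
    have hthree : ∀ p q : E, p * c⁻¹ * (q * c⁻¹) * (p * c⁻¹) = p * q * p * (c⁻¹ * c⁻¹ * c⁻¹) := fun p q => by
      rw [hmove, mul_assoc (p * q), ← mul_assoc (c⁻¹ * c⁻¹),
        (((hccen p).inv_left).mul_left ((hccen p).inv_left)).eq]
      simp only [mul_assoc]
    show y a * c⁻¹ * (y b * c⁻¹) * (y a * c⁻¹) = y b * c⁻¹ * (y a * c⁻¹) * (y b * c⁻¹)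
    rw [hthree, hthree, hbraid a b h]
  · have hev : ∀ L : List ℕ, ev (fun k => y k * c⁻¹) L = ev y L * c⁻¹ ^ L.length := by
      intro L
      induction L with
      | nil => simp [ev_nil]
      | cons a L ih =>
        rw [ev_cons, ev_cons, ih, List.length_cons, pow_succ', mul_assoc, ← mul_assoc c⁻¹,
          ((hccen (ev y L)).inv_left).eq]
        simp only [mul_assoc]
    rw [hev, ((hccen _).inv_left.pow_left _).symm.mul_pow, ← pow_mul, ← hr2, inv_pow, mul_inv_eq_one,
      show coxWord.length * 9 = 2 * 31 + 1 from rfl, pow_succ', pow_mul, pow_two, hcc, hcdef,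
      inv_mul_cancel_right]

theorem exists_section (hs : Function.Surjective σ) (hker : σ.ker ≤ Subgroup.center E) :
    ∃ τ : Cfsg.Spor.Fi23 →* E, σ.comp τ = MonoidHom.id Cfsg.Spor.Fi23 := by
  obtain ⟨x, hx, hsq, hc, hb, h9⟩ := exists_lifts σ hs hker
  have hcen : ∀ a : E, σ a = 1 → ∀ g, Commute a g := fun a ha g =>
    (Subgroup.mem_center_iff.1 (hker ha) g).symm
  have hword : ∀ w : List ℕ, w.all (· < tab.gens) = true → σ (ev x w) = ev φ w := fun w hw => by
    rw [ev_comp, ev, List.map_congr_left (f := ⇑σ ∘ x) (g := φ) fun a ha =>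
      hx a (of_decide_eq_true (List.all_eq_true.1 hw a ha)), ← ev]
  have hlet : ∀ w ∈ [shiftWord, linearWord, conjWord, conjWordB, conjWordC, invertWord, spiderRel, coxWord],
      w.all (· < tab.gens) = true := fun w hw =>
    List.all_eq_true.1 letters_ok' w (List.mem_append_left _ hw)
  have hrev : ∀ w : List ℕ, ev x w.reverse = (ev x w)⁻¹ := fun w => ev_reverse x w fun a _ => hsq a
  have hmv : ∀ ms w w', moves ms w = some w' → ev x w = ev x w' := moves_spec (fun a _ => hsq a) hc hb
  set r := ev x spiderRel with hr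
  have hσr : σ r = 1 := by
    rw [hr, hword _ (hlet _ (by simp))]
    exact pres.base_eq_one _ (List.mem_cons_of_mem _ (List.mem_append_right _ (by simp [words_eq])))
  have hrc : ∀ g, Commute r g := hcen r hσr
  have hconj : ∀ g, g * r * g⁻¹ = r := fun g => by rw [← (hrc g).eq, mul_inv_cancel_right]
  have hr3 : r ^ 3 = 1 := by
    have h := hmv _ _ _ three_moves
    simp only [ev_append, hrev, ev_nil, ← hr] at h
    calc r ^ 3 = r * (ev x conjWordB * r * (ev x conjWordB)⁻¹) * (ev x conjWordC * r * (ev x conjWordC)⁻¹) := by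
          rw [hconj, hconj, pow_succ, pow_two]
      _ = 1 := by
          rw [← h]
          simp only [mul_assoc]
  set U := ev x shiftWord with hU
  set W := ev x linearWord with hW
  have hUW : comm U W = r⁻¹ := by
    have h := hmv _ _ _ comm_moves
    simp only [ev_append, hrev, ev_nil, ← hr, ← hU, ← hW] at h
    rw [← mul_assoc (ev x conjWord), hconj] at h
    refine eq_inv_of_mul_eq_one_left ?_
    rw [← h]
    simp only [comm, mul_assoc]
  set V := ev x otherWord with hV
  have hVeq : V = W * (W * (U * U)) := by simp only [hV, otherWord, ev_append, hU, hW]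
  have hUU : comm U U = 1 := by simp [comm]
  have hrc' : ∀ g, Commute r⁻¹ g := fun g => (hrc g).inv_left
  have hUV : comm U V = r⁻¹ * r⁻¹ := by
    have h1 : comm U (U * U) = 1 := by
      rw [comm_mul_right (by rw [hUU]; exact Commute.one_left), hUU, one_mul]
    have h2 : comm U (W * (U * U)) = r⁻¹ := by
      rw [comm_mul_right (by rw [h1]; exact Commute.one_left), h1, hUW, mul_one]
    rw [hVeq, comm_mul_right (by rw [h2]; exact hrc'), h2, hUW]
  set P := ev x invertWord with hP
  have hlo : otherWord.all (· < tab.gens) = true :=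
    all_app (hlet _ (by simp)) (all_app (hlet _ (by simp)) (all_app (hlet _ (by simp)) (hlet _ (by simp))))
  have hcl : ∀ w w', w.all (· < tab.gens) = true → w'.all (· < tab.gens) = true →
      sameOnGens (invertWord ++ (w ++ invertWord.reverse)) w' = true →
      ∀ t, Commute ((ev x w')⁻¹ * (P * ev x w * P⁻¹)) t := by
    intro w w' hw hw' hsame
    refine hcen _ ?_
    have hli : invertWord.all (· < tab.gens) = true := hlet _ (by simp)
    have := eq_of_same (all_app hli (all_app hw (all_rev hli))) hw' hsame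
    rw [ev_append, ev_append, rev_eq, ← mul_assoc] at this
    rw [map_mul, map_inv, map_mul, map_mul, map_inv, hP, hword _ hli, hword _ hw, hword _ hw', this,
      inv_mul_cancel]
  have hUlet : shiftWord.all (· < tab.gens) = true := hlet _ (by simp)
  have c1 := hcl shiftWord shiftWord hUlet hUlet invert_ok.1
  have c2 := hcl otherWord otherWord.reverse hlo (all_rev hlo) invert_ok.2
  have hneg : comm U V⁻¹ = comm U V := by
    have h : comm (P * U * P⁻¹) (P * V * P⁻¹) = comm U V := by
      rw [comm_conj, hUV, ← ((hrc' P).mul_left (hrc' P)).eq, mul_inv_cancel_right]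
    rw [← mul_inv_cancel_left U (P * U * P⁻¹), ← mul_inv_cancel_left V⁻¹ (P * V * P⁻¹)] at h
    rw [hU, comm_central_left c1, hV, ← hrev, comm_central_right c2, hrev] at h
    exact h
  have hr4 : r ^ 4 = 1 := by
    have hc2 : ∀ g, Commute (comm U V) g := fun g => hUV ▸ (hrc' g).mul_left (hrc' g)
    have h1 : comm U (V⁻¹ * V) = comm U V⁻¹ * comm U V := comm_mul_right hc2
    rw [inv_mul_cancel, hneg, hUV] at h1
    have h0 : comm U (1 : E) = 1 := by simp [comm]
    rw [h0] at h1
    calc r ^ 4 = (r⁻¹ * r⁻¹ * (r⁻¹ * r⁻¹))⁻¹ := by simp [pow_succ, mul_assoc]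
      _ = 1 := by rw [← h1, inv_one]
  have hr1 : r = 1 := by
    rw [show r ^ 4 = r ^ 3 * r from pow_succ r 3, hr3, one_mul] at hr4
    exact hr4
  have hrel : ∀ w ∈ pres.base, ev x w = 1 := by
    intro w hw
    simp only [Pres.base, List.mem_cons, List.mem_append] at hw
    rcases hw with rfl | hw | hw
    · rfl
    · simp only [coxWords, List.mem_flatMap, List.mem_map, List.mem_range] at hw
      obtain ⟨i, hi, j, hj, rfl⟩ := hw
      rw [ev_rep, ev_cons, ev_cons, ev_nil, mul_one]
      rcases label_ok i hi j hj with ⟨rfl, hl⟩ | ⟨hjo, hl⟩ | ⟨ha, hl⟩ <;> rw [hl]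
      · rw [pow_one, hsq]
      · rw [pow_succ, pow_two]
        calc x i * x j * (x i * x j) * (x i * x j)
            = (x i * x j * x i) * (x j * x i * x j) := by simp only [mul_assoc]
          _ = (x j * x i * x j) * (x j * x i * x j) := by rw [hb i j hjo]
          _ = 1 := by
            simp only [mul_assoc]
            rw [← mul_assoc (x j) (x j), hsq, one_mul, ← mul_assoc (x i) (x i), hsq, one_mul, hsq]
      · rw [(hc i j ha).mul_pow, pow_two, pow_two, hsq, hsq, one_mul]
    · rw [words_eq] at hw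
      simp only [List.mem_cons, List.not_mem_nil, or_false] at hw
      rcases hw with rfl | rfl
      · exact hr1
      · rw [ev_rep]; exact h9
  refine ⟨PresentedGroup.toGroup (pres.lift_rels x hsq hrel idx idx_lt gl_idx idx_gl words_lt),
    PresentedGroup.ext fun a => ?_⟩
  rw [MonoidHom.comp_apply, PresentedGroup.toGroup.of, hx _ (idx_lt a), MonoidHom.id_apply]
  exact congrArg PresentedGroup.of (gl_idx a)

theorem ker_eq_bot (hσ : Cfsg.IsStemExtension σ) : σ.ker = ⊥ := by
  obtain ⟨τ, hτ⟩ := exists_section σ hσ.1 hσ.2.1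
  have hid : ∀ g, σ (τ g) = g := fun g => DFunLike.congr_fun hτ g
  have hle : commutator E ≤ τ.range := by
    rw [commutator_def, Subgroup.commutator_le]
    intro a _ b _
    have key : ∀ a : E, ∃ z, (∀ g, Commute z g) ∧ a = τ (σ a) * z := fun a =>
      ⟨(τ (σ a))⁻¹ * a, fun g => (Subgroup.mem_center_iff.1
        (hσ.2.1 (by rw [MonoidHom.mem_ker, map_mul, map_inv, hid, inv_mul_cancel])) g).symm, by group⟩
    obtain ⟨za, hza, ea⟩ := key a
    obtain ⟨zb, hzb, eb⟩ := key b
    have : comm a b = comm (τ (σ a)) (τ (σ b)) := by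
      conv_lhs => rw [ea, eb]
      rw [comm_central_left hza, comm_central_right hzb]
    refine ⟨comm (σ a) (σ b), ?_⟩
    rw [commutatorElement_def, ← comm, this]
    simp [comm]
  refine (Subgroup.eq_bot_iff_forall _).2 fun z hz => ?_
  obtain ⟨g, rfl⟩ := hle (hσ.2.2 hz)
  rw [MonoidHom.mem_ker, hid] at hz
  rw [hz, map_one]

end Cfsg.Agent.Lib.SporPres.FiTwentyThree.Lift
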