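import Cfsg.Agent.Lib.Coset.Action
import Mathlib.Data.Nat.Bitwise
import Mathlib.SetTheory.Cardinal.Finite

/-!
# Products selected by exponent masks

Words selected from a list by a bit mask, the linear maps and permutations belonging to such products,
and a clique bound by exhaustive search.
-/

set_option autoImplicit false

namespace Cfsg.Agent.Lib.SporPres.FiTwentyThree.NormalElem

open Cfsg.Agent.Lib.Coset

/-- The concatenation of the words whose bit is set in a mask. -/
def sel : List (List ℕ) → ℕ → List ℕ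
  | [], _ => []
  | w :: l, a => bif a.testBit 0 then w ++ sel l (a >>> 1) else sel l (a >>> 1)

/-- The linear map with the given images of the unit vectors. -/
def lin : List ℕ → ℕ → ℕ
  | [], _ => 0
  | m :: l, a => bif a.testBit 0 then m ^^^ lin l (a >>> 1) else lin l (a >>> 1)

/-- The linear map of a selected product. -/
def matAct : List (List ℕ) → ℕ → ℕ → ℕ
  | [], _, v => v
  | M :: l, a, v => bif a.testBit 0 then lin M (matAct l (a >>> 1) v) else matAct l (a >>> 1) v

/-- The permutation of a selected product, on indices. -/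
def psel : List (List ℕ) → ℕ → ℕ → ℕ
  | [], _, i => i
  | p :: l, a, i => bif a.testBit 0 then p.getD (psel l (a >>> 1) i) 0 else psel l (a >>> 1) i

theorem sel_zero : ∀ l : List (List ℕ), sel l 0 = []
  | [] => rfl
  | w :: l => by simp [sel, sel_zero l]

theorem sel_all {P : ℕ → Bool} : ∀ (l : List (List ℕ)) (a : ℕ), (∀ w ∈ l, w.all P = true) → (sel l a).all P = true
  | [], _, _ => rfl
  | w :: l, a, h => by
    have h1 := h w (by simp)
    have h2 := sel_all l (a >>> 1) fun w hw => h w (by simp [hw])
    cases hb : a.testBit 0 <;> simp [sel, hb, List.all_append, h1, h2]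

theorem lin_lt {n : ℕ} : ∀ (M : List ℕ) (a : ℕ), (∀ m ∈ M, m < 2 ^ n) → lin M a < 2 ^ n
  | [], _, _ => Nat.two_pow_pos n
  | m :: l, a, h => by
    have h1 := h m (by simp)
    have h2 := lin_lt l (a >>> 1) fun w hw => h w (by simp [hw])
    cases hb : a.testBit 0 <;> simp [lin, hb, h2, Nat.xor_lt_two_pow h1 h2]

theorem matAct_lt {n : ℕ} : ∀ (l : List (List ℕ)) (a : ℕ) {v : ℕ}, v < 2 ^ n →
    (∀ M ∈ l, ∀ m ∈ M, m < 2 ^ n) → matAct l a v < 2 ^ n
  | [], _, _, hv, _ => hv
  | M :: l, a, v, hv, h => by
    have h2 := matAct_lt l (a >>> 1) hv fun w hw => h w (by simp [hw])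
    cases hb : a.testBit 0 <;> simp [matAct, hb, h2, lin_lt M _ (h M (by simp))]

section Group

variable {Γ Δ : Type*} [Group Γ] [Group Δ] (φ : ℕ → Γ)

/-- The value of a selected product. -/
def evSel (l : List (List ℕ)) (a : ℕ) : Γ := ev φ (sel l a)

theorem evSel_nil (a : ℕ) : evSel φ [] a = 1 := rfl

theorem evSel_zero (l : List (List ℕ)) : evSel φ l 0 = 1 := by rw [evSel, sel_zero, ev_nil]

theorem evSel_cons (w : List ℕ) (l : List (List ℕ)) (a : ℕ) :
    evSel φ (w :: l) a = (if a.testBit 0 then ev φ w else 1) * evSel φ l (a >>> 1) := by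
  cases hb : a.testBit 0 <;> simp [evSel, sel, hb, ev_append]

theorem evSel_mem {H : Subgroup Γ} : ∀ (l : List (List ℕ)) (a : ℕ),
    (∀ (i : ℕ) (hi : i < l.length), a.testBit i = true → ev φ l[i] ∈ H) → evSel φ l a ∈ H
  | [], _, _ => one_mem H
  | w :: l, a, h => by
    rw [evSel_cons]
    refine mul_mem ?_ (evSel_mem l _ fun i hi hb => ?_)
    · split
      · next hb => exact h 0 (by simp) hb
      · exact one_mem H
    · rw [Nat.testBit_shiftRight, add_comm] at hb
      exact h (i + 1) (Nat.succ_lt_succ hi) hb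

theorem evSel_single : ∀ (l : List (List ℕ)) (i : ℕ) (hi : i < l.length), evSel φ l (2 ^ i) = ev φ l[i]
  | [], i, hi => absurd hi (by simp)
  | w :: l, 0, _ => by simp [evSel_cons, evSel_zero]
  | w :: l, i + 1, hi => by
    have h1 : (2 ^ (i + 1) : ℕ).testBit 0 = false := by
      rw [Nat.testBit_two_pow]; simp
    have h2 : (2 ^ (i + 1) : ℕ) >>> 1 = 2 ^ i := by
      rw [Nat.shiftRight_eq_div_pow, pow_succ]; simp
    rw [evSel_cons, h1, h2]
    simpa using evSel_single l i (by simpa using hi)

/-- Commuting involutions give a vector space. -/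
theorem evSel_xor : ∀ (l : List (List ℕ)), (∀ w ∈ l, ∀ w' ∈ l, Commute (ev φ w) (ev φ w')) →
    (∀ w ∈ l, ev φ w * ev φ w = 1) → ∀ a b : ℕ, evSel φ l (a ^^^ b) = evSel φ l a * evSel φ l b
  | [], _, _, a, b => by simp [evSel_nil]
  | w :: l, hc, hs, a, b => by
    have ih := evSel_xor l (fun u hu u' hu' => hc u (by simp [hu]) u' (by simp [hu']))
      (fun u hu => hs u (by simp [hu])) (a >>> 1) (b >>> 1)
    have hcl : ∀ c, Commute (ev φ w) (evSel φ l c) := fun c => by
      have : evSel φ l c ∈ Subgroup.centralizer {ev φ w} := evSel_mem φ l c fun i hi _ =>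
        Subgroup.mem_centralizer_singleton_iff.mpr (hc w (by simp) l[i] (by simp)).eq.symm
      exact (Subgroup.mem_centralizer_singleton_iff.mp this).symm
    have hw := hs w (by simp)
    rw [evSel_cons, evSel_cons, evSel_cons, Nat.shiftRight_xor_distrib, ih, Nat.testBit_xor]
    cases ha : a.testBit 0 <;> cases hb : b.testBit 0
    · simp
    · simp [← mul_assoc, (hcl (a >>> 1)).eq]
    · simp [mul_assoc]
    · simp only [bne_self_eq_false, Bool.false_eq_true, if_false, if_true, one_mul]
      rw [mul_assoc, ← mul_assoc (evSel φ l (a >>> 1)), ← (hcl (a >>> 1)).eq, mul_assoc, ← mul_assoc (ev φ w),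
        hw, one_mul]

/-- A homomorphism sends a selected product to the product of the images. -/
theorem map_evSel {T : List (List ℕ)} (hc : ∀ w ∈ T, ∀ w' ∈ T, Commute (ev φ w) (ev φ w'))
    (hs : ∀ w ∈ T, ev φ w * ev φ w = 1) {ψ : ℕ → Δ} (f : Δ →* Γ) :
    ∀ (L : List (List ℕ)) (M : List ℕ), L.length = M.length →
      (∀ (i : ℕ) (hi : i < L.length), f (ev ψ L[i]) = evSel φ T (M.getD i 0)) →
      ∀ v, f (evSel ψ L v) = evSel φ T (lin M v)
  | [], [], _, _, v => by simp [lin, evSel_nil, evSel_zero]
  | w :: L, m :: M, hlen, h, v => by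
    have ih := map_evSel hc hs f L M (by simpa using hlen)
      (fun i hi => h (i + 1) (Nat.succ_lt_succ hi)) (v >>> 1)
    have hw : f (ev ψ w) = evSel φ T m := h 0 (by simp)
    cases hb : v.testBit 0 <;> simp [evSel_cons, lin, hb, ih, hw, evSel_xor φ T hc hs]
  | [], _ :: _, h, _, _ => absurd h (by simp)
  | _ :: _, [], h, _, _ => absurd h (by simp)

/-- Conjugation by a selected product. -/
theorem conj_evSel {T : List (List ℕ)} (hc : ∀ w ∈ T, ∀ w' ∈ T, Commute (ev φ w) (ev φ w'))
    (hs : ∀ w ∈ T, ev φ w * ev φ w = 1) :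
    ∀ (L Ms : List (List ℕ)), L.length = Ms.length →
      (∀ (i : ℕ) (hi : i < L.length), (Ms.getD i []).length = T.length ∧ ∀ (j : ℕ) (hj : j < T.length),
        ev φ L[i] * ev φ T[j] * (ev φ L[i])⁻¹ = evSel φ T ((Ms.getD i []).getD j 0)) →
      ∀ a v, evSel φ L a * evSel φ T v * (evSel φ L a)⁻¹ = evSel φ T (matAct Ms a v)
  | [], [], _, _, a, v => by simp [matAct, evSel_nil]
  | w :: L, M :: Ms, hlen, h, a, v => by
    have ih := conj_evSel hc hs L Ms (by simpa using hlen)
      (fun i hi => h (i + 1) (Nat.succ_lt_succ hi)) (a >>> 1) v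
    obtain ⟨hM, hMj⟩ := h 0 (by simp)
    have key := map_evSel φ hc hs (MulAut.conj (ev φ w)).toMonoidHom T M (by simpa using hM.symm)
      (fun j hj => by simpa using hMj j hj) (matAct Ms (a >>> 1) v)
    simp only [MulEquiv.coe_toMonoidHom, MulAut.conj_apply] at key
    cases hb : a.testBit 0
    · simp [evSel_cons, matAct, hb, ih]
    · simp only [evSel_cons, matAct, hb, if_true, cond_true, mul_inv_rev]
      rw [← key, ← ih]
      group
  | [], _ :: _, h, _, _, _ => absurd h (by simp)
  | _ :: _, [], h, _, _, _ => absurd h (by simp)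

/-- Adjoining an element normalising a subgroup and squaring into it at most doubles the order. -/
theorem card_closure_insert_le [Finite Γ] {S : Set Γ} {x : Γ}
    (hx : ∀ s ∈ S, x * s * x⁻¹ ∈ Subgroup.closure S) (hxx : x * x ∈ Subgroup.closure S) :
    Nat.card (Subgroup.closure (insert x S)) ≤ 2 * Nat.card (Subgroup.closure S) := by
  set H := Subgroup.closure S
  have hc : ∀ h ∈ H, x * h * x⁻¹ ∈ H := by
    have : H ≤ H.comap (MulAut.conj x).toMonoidHom := (Subgroup.closure_le _).mpr fun s hs => hx s hs
    exact fun h hh => this hh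
  have hc' : ∀ h ∈ H, x⁻¹ * h * x ∈ H := fun h hh => by
    rw [show x⁻¹ * h * x = (x * x)⁻¹ * (x * h * x⁻¹) * (x * x) by group]
    exact mul_mem (mul_mem (inv_mem hxx) (hc h hh)) hxx
  let K : Subgroup Γ :=
    { carrier := {y | y ∈ H ∨ x⁻¹ * y ∈ H}
      one_mem' := Or.inl (one_mem H)
      mul_mem' := by
        rintro a b (ha | ha) (hb | hb)
        · exact Or.inl (mul_mem ha hb)
        · refine Or.inr ?_
          rw [show x⁻¹ * (a * b) = (x⁻¹ * a * x) * (x⁻¹ * b) by group]
          exact mul_mem (hc' a ha) hb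
        · refine Or.inr ?_
          rw [← mul_assoc]
          exact mul_mem ha hb
        · refine Or.inl ?_
          rw [show a * b = (x * (x⁻¹ * a) * x⁻¹) * (x * x) * (x⁻¹ * b) by group]
          exact mul_mem (mul_mem (hc _ ha) hxx) hb
      inv_mem' := by
        rintro a (ha | ha)
        · exact Or.inl (inv_mem ha)
        · refine Or.inr ?_
          rw [show x⁻¹ * a⁻¹ = (x⁻¹ * (x⁻¹ * a)⁻¹ * x) * (x * x)⁻¹ by group]
          exact mul_mem (hc' _ (inv_mem ha)) (inv_mem hxx) }
  have hle : Subgroup.closure (insert x S) ≤ K := (Subgroup.closure_le _).mpr fun s hs => by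
    rcases hs with rfl | hs
    · exact Or.inr (by simp)
    · exact Or.inl (Subgroup.subset_closure hs)
  have h1 : (K : Set Γ) ⊆ (H : Set Γ) ∪ (x * ·) '' (H : Set Γ) := by
    rintro y (hy | hy)
    · exact Or.inl hy
    · exact Or.inr ⟨_, hy, by group⟩
  calc Nat.card (Subgroup.closure (insert x S)) ≤ Nat.card K :=
        Nat.card_le_card_of_injective _ (Subgroup.inclusion_injective hle)
    _ = (K : Set Γ).ncard := Nat.card_coe_set_eq _
    _ ≤ ((H : Set Γ) ∪ (x * ·) '' (H : Set Γ)).ncard := Set.ncard_le_ncard h1 (Set.toFinite _)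
    _ ≤ (H : Set Γ).ncard + ((x * ·) '' (H : Set Γ)).ncard := Set.ncard_union_le _ _
    _ ≤ (H : Set Γ).ncard + (H : Set Γ).ncard := by
        exact Nat.add_le_add_left (Set.ncard_image_le (Set.toFinite _)) _
    _ = 2 * Nat.card H := by rw [← Nat.card_coe_set_eq, two_mul]; rfl

end Group

section Table

variable (P : Tab)

theorem app_append (u v : List ℕ) (i : ℕ) : P.app (u ++ v) i = P.app u (P.app v i) := by
  induction u with
  | nil => rfl
  | cons g u ih => exact congrArg (P.act g) ih

/-- The permutation of a selected product on a block of points. -/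
theorem app_sel {B : List ℕ} : ∀ (L ps : List (List ℕ)), L.length = ps.length →
    (∀ (k : ℕ) (hk : k < L.length), ∀ i < B.length, (ps.getD k []).getD i 0 < B.length ∧
      P.app L[k] (B.getD i 0) = B.getD ((ps.getD k []).getD i 0) 0) →
    ∀ (a i : ℕ), i < B.length →
      psel ps a i < B.length ∧ P.app (sel L a) (B.getD i 0) = B.getD (psel ps a i) 0
  | [], [], _, _, a, i, hi => ⟨hi, rfl⟩
  | w :: L, p :: ps, hlen, h, a, i, hi => by
    obtain ⟨h1, h2⟩ := app_sel L ps (by simpa using hlen)
      (fun k hk => h (k + 1) (Nat.succ_lt_succ hk)) (a >>> 1) i hi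
    obtain ⟨h3, h4⟩ := h 0 (by simp) (psel ps (a >>> 1) i) h1
    cases hb : a.testBit 0
    · simp only [psel, sel, hb, cond_false]
      exact ⟨h1, h2⟩
    · simp only [psel, sel, hb, cond_true, app_append, h2]
      exact ⟨h3, h4⟩
  | [], _ :: _, h, _, _, _, _ => absurd h (by simp)
  | _ :: _, [], h, _, _, _, _ => absurd h (by simp)

end Table

theorem rec_const_eq_true : ∀ b : Bool, Bool.rec (motive := fun _ => Bool) true true b = true
  | false => rfl
  | true => rfl

/-- Whether a list contains `k` entries pairwise in relation, in the order of the list. -/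
noncomputable def hasClique (adj : ℕ → ℕ → Bool) : ℕ → List ℕ → Bool :=
  Nat.rec (motive := fun _ => List ℕ → Bool) (fun _ => true) fun k prev =>
    List.rec (motive := fun _ => Bool) false fun a l ih =>
      Bool.rec ih true (Bool.rec false (prev (l.filter (adj a))) (Nat.ble k l.length))

theorem hasClique_of_subset {adj : ℕ → ℕ → Bool} : ∀ (k : ℕ) (l : List ℕ) (S : Finset ℕ),
    k ≤ S.card → (∀ a ∈ S, a ∈ l) → (∀ a ∈ S, ∀ b ∈ S, a ≠ b → adj a b = true) →
    hasClique adj k l = true := by
  intro k
  induction k with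
  | zero => intros; rfl
  | succ k ih =>
    intro l
    induction l with
    | nil =>
      intro S hS hl _
      have : S = ∅ := Finset.eq_empty_of_forall_notMem fun a ha => by simpa using hl a ha
      simp [this] at hS
    | cons x l ih' =>
      intro S hS hl hadj
      by_cases hx : x ∈ S
      · have h1 : k ≤ (S.erase x).card := by rw [Finset.card_erase_of_mem hx]; omega
        have h2 : ∀ a ∈ S.erase x, a ∈ l := fun a ha => by
          obtain ⟨h3, h4⟩ := Finset.mem_erase.mp ha
          exact (List.mem_cons.mp (hl a h4)).resolve_left h3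
        have h3 : ∀ a ∈ S.erase x, a ∈ l.filter (adj x) := fun a ha =>
          List.mem_filter.mpr ⟨h2 a ha, hadj x hx a (Finset.mem_of_mem_erase ha)
            (Finset.ne_of_mem_erase ha).symm⟩
        have h4 : (S.erase x).card ≤ l.length := by
          refine le_trans (Finset.card_le_card fun a ha => List.mem_toFinset.mpr (h2 a ha)) ?_
          exact List.toFinset_card_le l
        have h5 := ih _ (S.erase x) h1 h3 fun a ha b hb =>
          hadj a (Finset.mem_of_mem_erase ha) b (Finset.mem_of_mem_erase hb)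
        have h6 : Nat.ble k l.length = true := Nat.ble_eq_true_of_le (h1.trans h4)
        show Bool.rec _ true (Bool.rec false (hasClique adj k (l.filter (adj x))) (Nat.ble k l.length)) = true
        rw [h6, h5]
      · have h1 := ih' S hS (fun a ha => (List.mem_cons.mp (hl a ha)).resolve_left fun h => hx (h ▸ ha)) hadj
        show Bool.rec (hasClique adj (k + 1) l) true _ = true
        rw [h1]
        exact rec_const_eq_true _

end Cfsg.Agent.Lib.SporPres.FiTwentyThree.NormalElem
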