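import Cfsg.Agent.Lib.SporPres.FiTwentyThree.NormalElemData
import Cfsg.Agent.Lib.SporPres.FiTwentyThree.NormalElemTools
import Cfsg.Agent.Lib.SporPres.FiTwentyThree.S31671Tab
import Cfsg.Agent.Lib.Coset.Action

/-!
# Checks for the elementary abelian subgroup of order 2^11 of the presented Fi23

Words are compared on the ten points of the generators; the lists of points, matrices and permutations are
compared with the ones computed from the words.
-/

set_option autoImplicit false

namespace Cfsg.Agent.Lib.SporPres.FiTwentyThree.NormalElem

open Cfsg.Agent.Lib.Coset

/-- The table. -/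
abbrev pointTab : Tab := S31671.tab

/-- Two words agree on the points of the generators. -/
noncomputable def sameOnGens (u w : List ℕ) : Bool :=
  genPts.all fun p => Nat.beq (pointTab.app u p) (pointTab.app w p)

theorem letters_ok : (genCarry ++ (eWords ++ xWords)).all (fun w => w.all (· < pointTab.gens)) = true := by
  decide +kernel

theorem points_lt : (genPts ++ (blk ++ orbPts.flatten)).all (fun p => decide (p < pointTab.size)) = true := by
  decide +kernel

theorem genCarry_app : ∀ k < 10, pointTab.app (genCarry.getD k []) 0 = genPts.getD k 0 := by
  decide +kernel

theorem eWords_ok : (eWords.all fun u => sameOnGens (u ++ u) [] &&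
    eWords.all fun w => sameOnGens (u ++ w) (w ++ u)) = true := by
  decide +kernel

theorem xMats_ok : ∀ k < 7, (List.range 11).all (fun j => decide ((xMats.getD k []).getD j 0 < 2 ^ 11) &&
    sameOnGens (xWords.getD k [] ++ (eWords.getD j [] ++ (xWords.getD k []).reverse))
      (sel eWords ((xMats.getD k []).getD j 0))) = true := by
  decide +kernel

theorem xRels_ok : ∀ k < 7, decide ((xRels.getD k []).length = k + 1) &&
    ((List.range k).all fun j =>
      decide (((xRels.getD k []).getD j (0, 0)).1 < 2 ^ k) &&
        sameOnGens (xWords.getD k [] ++ (xWords.getD j [] ++ (xWords.getD k []).reverse))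
          (sel xWords ((xRels.getD k []).getD j (0, 0)).1 ++
            sel eWords ((xRels.getD k []).getD j (0, 0)).2)) &&
      (decide (((xRels.getD k []).getD k (0, 0)).1 < 2 ^ k) &&
        sameOnGens (xWords.getD k [] ++ xWords.getD k [])
          (sel xWords ((xRels.getD k []).getD k (0, 0)).1 ++
            sel eWords ((xRels.getD k []).getD k (0, 0)).2)) = true := by
  decide +kernel

theorem xPerms_ok : ∀ k < 7, (List.range 23).all (fun i => decide ((xPerms.getD k []).getD i 0 < 23) &&
    Nat.beq (pointTab.app (xWords.getD k []) (blk.getD i 0)) (blk.getD ((xPerms.getD k []).getD i 0) 0)) =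
      true := by
  decide +kernel

theorem eWords_fix : eWords.all (fun w => blk.all fun p => Nat.beq (pointTab.app w p) p) = true := by
  decide +kernel

theorem blk_nodup : blk.Nodup := by decide +kernel

/-- The images of the twenty-three points, packed. -/
def permCode (a : ℕ) : ℕ :=
  (List.range 23).foldl (fun c i => c * 32 + psel xPerms a i) 0

theorem xCodes_ok : ((List.range 128).all fun a => Nat.beq (permCode a) (xCodes.getD a 0)) = true := by
  decide +kernel

theorem xCodes_nodup : xCodes.Nodup ∧ xCodes.length = 128 := by decide +kernel

/-- The translations of an orbit agree with the words. -/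
noncomputable def shiftOK (pts sh : List ℕ) : Bool :=
  decide (pts.length = 32) && decide (sh.length = 11) && (sh.all fun m => decide (m < 2 ^ 5)) &&
    (List.range 11).all fun i => (List.range 32).all fun c =>
      Nat.beq (pointTab.app (eWords.getD i []) (pts.getD c 0)) (pts.getD (c ^^^ sh.getD i 0) 0)

theorem shifts_ok : ∀ t < 3, shiftOK (orbPts.getD t []) (orbShifts.getD t []) = true := by
  decide +kernel

theorem orbPts_nodup : ∀ t < 3, (orbPts.getD t []).Nodup := by decide +kernel

theorem shifts_injective : ((List.range 2048).all fun v => Nat.beq v 0 ||
    (List.range 3).any fun t => !Nat.beq (lin (orbShifts.getD t []) v) 0) = true := by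
  decide +kernel

/-- The exponent masks of the involutions modulo the subgroup. -/
def invKeys : List ℕ := invMasks.map Prod.fst

/-- A product of the generators squares to the identity on the twenty-three points. -/
def involutive (a : ℕ) : Bool :=
  (List.range 23).all fun i => Nat.beq (psel xPerms a (psel xPerms a i)) i

theorem invKeys_ok : ((List.range 128).all fun a => Nat.beq a 0 || !involutive a || invKeys.contains a) =
    true := by
  decide +kernel

/-- Two products commute on the twenty-three points. -/
def commuting (a b : ℕ) : Bool :=
  (List.range 23).all fun i => Nat.beq (psel xPerms a (psel xPerms b i)) (psel xPerms b (psel xPerms a i))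

/-- The commuting relation read from the table. -/
def adjacent (a b : ℕ) : Bool := (adjMasks.getD a 0).testBit b

theorem adjacent_ok : (invKeys.all fun a => invKeys.all fun b =>
    Nat.beq a b || !commuting a b || adjacent a b) = true := by
  decide +kernel

theorem no_clique : hasClique adjacent 16 invKeys = false := by decide +kernel

theorem invMats_ok : ((List.range 35).all fun t => (List.range 11).all fun j =>
    Nat.beq (matAct xMats ((invKeys).getD t 0) (2 ^ j)) ((invMats.getD t []).getD j 0)) = true := by
  decide +kernel

theorem invLists_length : invKeys.length = 35 ∧ (∀ M ∈ invMats, M.length = 11) := by decide +kernel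

theorem fixMasks_ok : ((List.range 35).all fun t => (List.range 2048).all fun v =>
    !Nat.beq (lin (invMats.getD t []) v) v || (invMasks.getD t (0, 0)).2.testBit v) = true := by
  decide +kernel

theorem fixVecs_ok : ((List.range 35).all fun t => decide ((fixVecs.getD t []).length ≤ 128) &&
    Nat.beq ((fixVecs.getD t []).foldl (fun m v => m ||| 2 ^ v) 0) (invMasks.getD t (0, 0)).2) = true := by
  decide +kernel

theorem fixPairs_ok : ((List.range 35).all fun s => (List.range 35).all fun t =>
    Nat.beq s t || !adjacent (invKeys.getD s 0) (invKeys.getD t 0) ||
      decide (((fixVecs.getD s []).filter fun v => (invMasks.getD t (0, 0)).2.testBit v).length ≤ 64)) =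
      true := by
  decide +kernel

end Cfsg.Agent.Lib.SporPres.FiTwentyThree.NormalElem
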