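import Cfsg.Agent.Lib.SporPres.FiTwentyThree.Transposition
import Cfsg.Agent.Lib.SporPres.FiTwentyThree.NormalElemChecks
import Mathlib.GroupTheory.Sylow

/-!
# The elementary abelian subgroup of order 2^11 in a Sylow 2-subgroup of the presented Fi23

The ten generators are the transpositions of ten points, so an element fixing those points is central, hence
trivial. A subgroup `sylTwo` of order 2^18 is an extension of the subgroup `elEleven`, which is generated by
twenty-three commuting transpositions, by a group of order 128 acting on these transpositions. An elementary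
abelian subgroup of `sylTwo` with nontrivial image in that quotient has order below 2^11.
-/

set_option autoImplicit false

namespace Cfsg.Agent.Lib.SporPres.FiTwentyThree.NormalElem

open Cfsg.Agent.Lib.Coset

theorem gens_eq : tab.gens = 10 := rfl

theorem letters {w : List ℕ} (h : w ∈ genCarry ++ (eWords ++ xWords)) : w.all (· < tab.gens) = true :=
  List.all_eq_true.1 letters_ok w h

theorem letters_e {w : List ℕ} (h : w ∈ eWords) : w.all (· < tab.gens) = true := letters (by simp [h])

theorem letters_x {w : List ℕ} (h : w ∈ xWords) : w.all (· < tab.gens) = true := letters (by simp [h])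

theorem getD_mem {α : Type*} {l : List α} {k : ℕ} (d : α) (h : k < l.length) : l.getD k d ∈ l := by
  rw [List.getD_eq_getElem _ _ h]; exact List.getElem_mem h

theorem pt_lt {p : ℕ} (h : p ∈ genPts ++ (blk ++ orbPts.flatten)) : p < tab.size :=
  of_decide_eq_true (List.all_eq_true.1 points_lt p h)

theorem carry_conj : ∀ k < 10,
    ev φ (genCarry.getD k []) * dEl * (ev φ (genCarry.getD k []))⁻¹ = φ k := by
  have hinv : ∀ k, (φ k)⁻¹ = φ k := fun k => inv_eq_of_mul_eq_one_right (pres.φ_inv k)
  have base : ev φ (genCarry.getD 0 []) * dEl * (ev φ (genCarry.getD 0 []))⁻¹ = φ 0 := by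
    rw [show genCarry.getD 0 [] = carry.reverse by decide +kernel, rev_eq, dEl_eq]
    group
  have step : ∀ i j, List.elem (Coset.rep 3 [i, j]) pres.base = true →
      genCarry.getD j [] = [i, j] ++ genCarry.getD i [] →
      ev φ (genCarry.getD i []) * dEl * (ev φ (genCarry.getD i []))⁻¹ = φ i →
      ev φ (genCarry.getD j []) * dEl * (ev φ (genCarry.getD j []))⁻¹ = φ j := by
    intro i j h he hi
    rw [he, ev_append, ev_cons, ev_cons, ev_nil, mul_one, mul_inv_rev, mul_inv_rev, hinv, hinv]
    calc φ i * φ j * ev φ (genCarry.getD i []) * dEl * ((ev φ (genCarry.getD i []))⁻¹ * (φ j * φ i))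
        = φ i * φ j * (ev φ (genCarry.getD i []) * dEl * (ev φ (genCarry.getD i []))⁻¹) * φ j * φ i := by
          group
      _ = φ j := by rw [hi]; exact braid i j h
  have h1 := step 0 1 (by decide +kernel) (by decide +kernel) base
  have h2 := step 1 2 (by decide +kernel) (by decide +kernel) h1
  have h3 := step 2 3 (by decide +kernel) (by decide +kernel) h2
  have h4 := step 3 4 (by decide +kernel) (by decide +kernel) h3
  have h5 := step 4 5 (by decide +kernel) (by decide +kernel) h4
  have h6 := step 5 6 (by decide +kernel) (by decide +kernel) h5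
  have h9 := step 6 9 (by decide +kernel) (by decide +kernel) h6
  have h7 := step 3 7 (by decide +kernel) (by decide +kernel) h3
  have h8 := step 7 8 (by decide +kernel) (by decide +kernel) h7
  intro k hk
  interval_cases k <;> assumption

theorem eq_one_of_central {g : Cfsg.Spor.Fi23} (h : ∀ k < 10, g * φ k = φ k * g) : g = 1 := by
  have hc : g ∈ Subgroup.center Cfsg.Spor.Fi23 := by
    refine Subgroup.mem_center_iff.2 fun x => ?_
    have hx : x ∈ Subgroup.closure (φ '' Set.Iio 10) := by rw [gen]; exact Subgroup.mem_top x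
    have hle : Subgroup.closure (φ '' Set.Iio 10) ≤ Subgroup.centralizer ({g} : Set Cfsg.Spor.Fi23) :=
      (Subgroup.closure_le _).2 fun y hy => by
        obtain ⟨k, hk, rfl⟩ := hy
        exact Subgroup.mem_centralizer_singleton_iff.2 (h k hk).symm
    exact Subgroup.mem_centralizer_singleton_iff.1 (hle hx)
  have : IsSimpleGroup Cfsg.Spor.Fi23 := isFiTwentyThree.1
  have hn : (Subgroup.center Cfsg.Spor.Fi23).Normal := inferInstance
  rcases hn.eq_bot_or_eq_top with h0 | h0
  · rwa [h0, Subgroup.mem_bot] at hc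
  · exfalso
    have hb := braid 0 1 (by decide +kernel)
    have hcom : φ 0 * φ 1 = φ 1 * φ 0 :=
      Subgroup.mem_center_iff.1 (h0 ▸ Subgroup.mem_top (φ 1)) (φ 0)
    have hne := (link_facts ([0, 1], 1) (by simp [links'])).2
    refine hne ?_
    have h1 : φ 0 * φ 1 * φ 0 * φ 1 = 1 := by
      rw [mul_assoc (φ 0) (φ 1) (φ 0), ← hcom, ← mul_assoc,
        show φ 0 * φ 0 = 1 from pres.φ_inv 0, one_mul, show φ 1 * φ 1 = 1 from pres.φ_inv 1]
    calc φ 0 = φ 0 * φ 1 * φ 0 * φ 1 * φ 0 := by rw [h1, one_mul]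
      _ = φ 1 := hb

theorem act_pt {u : List ℕ} (hu : u.all (· < tab.gens) = true) {p : ℕ} (hp : p < tab.size) :
    ((act (ev φ u) ⟨p, hp⟩ : Fin tab.size) : ℕ) = tab.app u p :=
  act_app hu _

theorem eq_of_same {u w : List ℕ} (hu : u.all (· < tab.gens) = true) (hw : w.all (· < tab.gens) = true)
    (h : sameOnGens u w = true) : ev φ u = ev φ w := by
  suffices (ev φ w)⁻¹ * ev φ u = 1 from (inv_mul_eq_one.1 this).symm
  refine eq_one_of_central fun k hk => ?_
  set g := (ev φ w)⁻¹ * ev φ u with hg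
  set y := ev φ (genCarry.getD k []) with hy
  have hp : genPts.getD k 0 ∈ genPts := getD_mem 0 hk
  have hlt : genPts.getD k 0 < tab.size := pt_lt (List.mem_append_left _ hp)
  have hyl : (genCarry.getD k []).all (· < tab.gens) = true :=
    letters (List.mem_append_left _ (getD_mem [] hk))
  have hz : act y rep.z = ⟨genPts.getD k 0, hlt⟩ := by
    refine Fin.ext ((act_app hyl rep.z).trans ?_)
    exact genCarry_app k hk
  have hfix : act g (act y rep.z) = act y rep.z := by
    rw [hz, hg, map_mul, map_inv, Equiv.Perm.mul_apply, Equiv.Perm.inv_eq_iff_eq]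
    refine Fin.ext ((act_pt hu hlt).trans (Eq.trans ?_ (act_pt hw hlt).symm))
    exact Nat.eq_of_beq_eq_true (List.all_eq_true.1 h _ hp)
  have hmem : y⁻¹ * g * y ∈ subK := by
    refine (rep.mem_iff _).2 ?_
    show act (y⁻¹ * g * y) rep.z = rep.z
    rw [map_mul, map_mul, map_inv, Equiv.Perm.mul_apply, Equiv.Perm.mul_apply, hfix,
      Equiv.Perm.inv_eq_iff_eq]
  rw [← carry_conj k hk, ← hy]
  calc g * (y * dEl * y⁻¹) = y * (y⁻¹ * g * y * dEl) * y⁻¹ := by group
    _ = y * (dEl * (y⁻¹ * g * y)) * y⁻¹ := by rw [dEl_commute hmem]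
    _ = y * dEl * y⁻¹ * g := by group

theorem sel_letters {L : List (List ℕ)} (hL : ∀ w ∈ L, w.all (· < tab.gens) = true) (a : ℕ) :
    (sel L a).all (· < tab.gens) = true :=
  sel_all L a hL

theorem all_app {u w : List ℕ} (hu : u.all (· < tab.gens) = true) (hw : w.all (· < tab.gens) = true) :
    (u ++ w).all (· < tab.gens) = true := by
  simp only [List.all_append, hu, hw, Bool.and_self]

theorem all_rev {u : List ℕ} (hu : u.all (· < tab.gens) = true) :
    u.reverse.all (· < tab.gens) = true := by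
  rwa [List.all_reverse]

theorem e_comm : ∀ u ∈ eWords, ∀ w ∈ eWords, Commute (ev φ u) (ev φ w) := by
  intro u hu w hw
  have h := List.all_eq_true.1 eWords_ok u hu
  simp only [Bool.and_eq_true] at h
  have := eq_of_same (all_app (letters_e hu) (letters_e hw)) (all_app (letters_e hw) (letters_e hu))
    (List.all_eq_true.1 h.2 w hw)
  rwa [ev_append, ev_append] at this

theorem e_sq : ∀ u ∈ eWords, ev φ u * ev φ u = 1 := by
  intro u hu
  have h := List.all_eq_true.1 eWords_ok u hu
  simp only [Bool.and_eq_true] at h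
  have := eq_of_same (all_app (letters_e hu) (letters_e hu)) (w := []) rfl h.1
  rwa [ev_append, ev_nil] at this

/-- The element of the elementary abelian subgroup with given exponents. -/
noncomputable def eE (v : ℕ) : Cfsg.Spor.Fi23 := evSel φ eWords v

/-- The product of the generators above it with given exponents. -/
noncomputable def xE (a : ℕ) : Cfsg.Spor.Fi23 := evSel φ xWords a

theorem eE_xor (v w : ℕ) : eE (v ^^^ w) = eE v * eE w := evSel_xor φ eWords e_comm e_sq v w

theorem eE_zero : eE 0 = 1 := evSel_zero φ eWords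

theorem xE_zero : xE 0 = 1 := evSel_zero φ xWords

theorem eE_self (v : ℕ) : eE v * eE v = 1 := by rw [← eE_xor, Nat.xor_self, eE_zero]

theorem eE_comm (v w : ℕ) : eE v * eE w = eE w * eE v := by rw [← eE_xor, ← eE_xor, Nat.xor_comm]

theorem eWords_length : eWords.length = 11 := rfl

theorem xWords_length : xWords.length = 7 := rfl

theorem app_shift {pts : List ℕ} (hlen : pts.length = 32) :
    ∀ (L : List (List ℕ)) (sh : List ℕ), L.length = sh.length → (∀ m ∈ sh, m < 2 ^ 5) →
      (∀ (i : ℕ) (hi : i < L.length), ∀ c < 32,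
        tab.app L[i] (pts.getD c 0) = pts.getD (c ^^^ sh.getD i 0) 0) →
      ∀ (v c : ℕ), c < 32 → tab.app (sel L v) (pts.getD c 0) = pts.getD (c ^^^ lin sh v) 0
  | [], [], _, _, _, v, c, _ => by
    show pts.getD c 0 = pts.getD (c ^^^ lin [] v) 0
    simp [lin]
  | w :: L, m :: sh, hl, hs, h, v, c, hc => by
    have ih := app_shift hlen L sh (by simpa using hl) (fun x hx => hs x (by simp [hx]))
      (fun i hi => h (i + 1) (Nat.succ_lt_succ hi)) (v >>> 1) c hc
    cases hb : v.testBit 0
    · simp only [sel, lin, hb, cond_false]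
      exact ih
    · simp only [sel, lin, hb, cond_true, app_append, ih]
      have hlt : c ^^^ lin sh (v >>> 1) < 32 :=
        Nat.xor_lt_two_pow (n := 5) hc (lin_lt sh _ fun x hx => hs x (by simp [hx]))
      have h' := h 0 (by simp) _ hlt
      rw [List.getElem_cons_zero, List.getD_cons_zero] at h'
      rw [h', Nat.xor_comm m, Nat.xor_assoc]
  | [], _ :: _, h, _, _, _, _, _ => absurd h (by simp)
  | _ :: _, [], h, _, _, _, _, _ => absurd h (by simp)

theorem eE_ne_one {v : ℕ} (hv : v < 2 ^ 11) (h : eE v = 1) : v = 0 := by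
  have key : ∀ t < 3, lin (orbShifts.getD t []) v = 0 := by
    intro t ht
    have hok := shifts_ok t ht
    simp only [shiftOK, Bool.and_eq_true, decide_eq_true_eq, List.all_eq_true, List.mem_range,
      Nat.beq_eq] at hok
    obtain ⟨⟨⟨hp, hs⟩, hm⟩, happ⟩ := hok
    have hsh := app_shift hp eWords (orbShifts.getD t []) (by rw [eWords_length, hs]) hm
      (fun i hi c hc => by
        have := happ i (by simpa [eWords_length] using hi) c hc
        rwa [List.getD_eq_getElem _ _ hi] at this) v 0 (by norm_num)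
    rw [Nat.zero_xor] at hsh
    have hmem : (orbPts.getD t []).getD 0 0 ∈ orbPts.flatten :=
      List.mem_flatten.2 ⟨_, getD_mem [] (show t < orbPts.length from ht),
        getD_mem 0 (lt_of_lt_of_eq (by norm_num : 0 < 32) hp.symm)⟩
    have hlt := pt_lt (p := (orbPts.getD t []).getD 0 0)
      (List.mem_append_right _ (List.mem_append_right _ hmem))
    have happ0 := act_pt (sel_letters (fun w hw => letters_e hw) v) hlt
    rw [show ev φ (sel eWords v) = 1 from h, map_one] at happ0
    have he : (orbPts.getD t []).getD (lin (orbShifts.getD t []) v) 0 = (orbPts.getD t []).getD 0 0 :=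
      hsh.symm.trans happ0.symm
    have hl : lin (orbShifts.getD t []) v < 2 ^ 5 := lin_lt _ _ hm
    have h0 : 0 < (orbPts.getD t []).length := lt_of_lt_of_eq (by norm_num : 0 < 32) hp.symm
    have h1 : lin (orbShifts.getD t []) v < (orbPts.getD t []).length := lt_of_lt_of_eq hl hp.symm
    rw [List.getD_eq_getElem (hn := h1), List.getD_eq_getElem (hn := h0)] at he
    exact (orbPts_nodup t ht).getElem_inj_iff.1 he
  have hc := List.all_eq_true.1 shifts_injective v (List.mem_range.2 hv)
  simp only [Bool.or_eq_true, Nat.beq_eq, List.any_eq_true, List.mem_range, Bool.not_eq_true'] at hc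
  rcases hc with hc | ⟨t, ht, hne⟩
  · exact hc
  · rw [key t ht] at hne
    exact absurd hne (by simp)

theorem eE_inj {v w : ℕ} (hv : v < 2 ^ 11) (hw : w < 2 ^ 11) (h : eE v = eE w) : v = w := by
  have := eE_ne_one (Nat.xor_lt_two_pow hv hw) (by rw [eE_xor, h, eE_self])
  exact Nat.xor_eq_zero_iff.1 this

/-- The elementary abelian subgroup of order 2^11. -/
noncomputable def elEleven : Subgroup Cfsg.Spor.Fi23 where
  carrier := {g | ∃ v, v < 2 ^ 11 ∧ eE v = g}
  one_mem' := ⟨0, by norm_num, eE_zero⟩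
  mul_mem' := by
    rintro _ _ ⟨v, hv, rfl⟩ ⟨w, hw, rfl⟩
    exact ⟨v ^^^ w, Nat.xor_lt_two_pow hv hw, eE_xor v w⟩
  inv_mem' := by
    rintro _ ⟨v, hv, rfl⟩
    exact ⟨v, hv, (inv_eq_of_mul_eq_one_right (eE_self v)).symm⟩

theorem card_elEleven : Nat.card elEleven = 2 ^ 11 := by
  have h : Nat.card (Fin (2 ^ 11)) = Nat.card elEleven :=
    Nat.card_eq_of_bijective (fun v => ⟨eE v, v, v.2, rfl⟩)
      ⟨fun v w he => Fin.ext (eE_inj v.2 w.2 (congrArg Subtype.val he)),
        fun ⟨_, v, hv, he⟩ => ⟨⟨v, hv⟩, Subtype.ext he⟩⟩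
  rw [← h, Nat.card_fin]

/-- The generators above the elementary abelian subgroup. -/
noncomputable def xGen (k : ℕ) : Cfsg.Spor.Fi23 := ev φ (xWords.getD k [])

theorem xE_mem {H : Subgroup Cfsg.Spor.Fi23} {n a : ℕ} (ha : a < 2 ^ n)
    (h : ∀ j < n, j < 7 → xGen j ∈ H) : xE a ∈ H := by
  refine evSel_mem φ xWords a fun i hi hb => ?_
  have hin : i < n := by
    by_contra hn
    rw [Nat.testBit_lt_two_pow (lt_of_lt_of_le ha (Nat.pow_le_pow_right (by norm_num) (by omega)))] at hb
    exact Bool.false_ne_true hb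
  have := h i hin hi
  rwa [xGen, List.getD_eq_getElem _ _ hi] at this

theorem xMats_lt : ∀ M ∈ xMats, ∀ m ∈ M, m < 2 ^ 11 := by decide +kernel

theorem xMats_shape : xMats.length = 7 ∧ ∀ k < 7, (xMats.getD k []).length = 11 := by decide +kernel

theorem xE_conj (a v : ℕ) : xE a * eE v * (xE a)⁻¹ = eE (matAct xMats a v) := by
  refine conj_evSel φ e_comm e_sq xWords xMats xMats_shape.1.symm (fun k hk => ?_) a v
  refine ⟨xMats_shape.2 k hk, fun j hj => ?_⟩
  have h := List.all_eq_true.1 (xMats_ok k hk) j (List.mem_range.2 hj)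
  simp only [Bool.and_eq_true] at h
  have hx : xWords.getD k [] ∈ xWords := getD_mem [] hk
  have he : eWords.getD j [] ∈ eWords := getD_mem [] hj
  have := eq_of_same (all_app (letters_x hx) (all_app (letters_e he) (all_rev (letters_x hx))))
    (sel_letters (fun w hw => letters_e hw) _) h.2
  rw [ev_append, ev_append, rev_eq, ← mul_assoc] at this
  rw [List.getD_eq_getElem _ _ hk, List.getD_eq_getElem _ _ hj] at this
  exact this

theorem matAct_bound (a : ℕ) {v : ℕ} (hv : v < 2 ^ 11) : matAct xMats a v < 2 ^ 11 :=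
  matAct_lt xMats a hv xMats_lt

/-- The chain of subgroups above the elementary abelian one. -/
noncomputable def upTo (k : ℕ) : Subgroup Cfsg.Spor.Fi23 :=
  Subgroup.closure ((elEleven : Set Cfsg.Spor.Fi23) ∪ xGen '' Set.Iio k)

theorem elEleven_le_upTo (k : ℕ) : elEleven ≤ upTo k := fun _ h => Subgroup.subset_closure (Or.inl h)

theorem xGen_mem_upTo {j k : ℕ} (h : j < k) : xGen j ∈ upTo k :=
  Subgroup.subset_closure (Or.inr ⟨j, h, rfl⟩)

theorem rel_spec {k : ℕ} (hk : k < 7) :
    (∀ j < k, ∃ a v, a < 2 ^ k ∧ xGen k * xGen j * (xGen k)⁻¹ = xE a * eE v) ∧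
      ∃ a v, a < 2 ^ k ∧ xGen k * xGen k = xE a * eE v := by
  have h := xRels_ok k hk
  simp only [Bool.and_eq_true, decide_eq_true_eq, List.all_eq_true, List.mem_range] at h
  obtain ⟨⟨-, hj'⟩, ha, hs⟩ := h
  have hx : ∀ i < 7, (xWords.getD i []).all (· < tab.gens) = true := fun i hi => letters_x (getD_mem [] hi)
  have hX : ∀ a v, (sel xWords a ++ sel eWords v).all (· < tab.gens) = true := fun a v =>
    all_app (sel_letters (fun w hw => letters_x hw) a) (sel_letters (fun w hw => letters_e hw) v)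
  refine ⟨fun j hj => ?_, ((xRels.getD k []).getD k (0, 0)).1, ((xRels.getD k []).getD k (0, 0)).2, ha, ?_⟩
  · obtain ⟨ha', hs'⟩ := hj' j hj
    refine ⟨((xRels.getD k []).getD j (0, 0)).1, ((xRels.getD k []).getD j (0, 0)).2, ha', ?_⟩
    have := eq_of_same (all_app (hx k hk) (all_app (hx j (by omega)) (all_rev (hx k hk)))) (hX _ _) hs'
    rw [ev_append, ev_append, ev_append, rev_eq, ← mul_assoc] at this
    exact this
  · have := eq_of_same (all_app (hx k hk) (hx k hk)) (hX _ _) hs
    rw [ev_append, ev_append] at this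
    exact this

theorem eE_mem (v : ℕ) : eE v ∈ elEleven := by
  refine evSel_mem φ eWords v fun i hi _ => ?_
  exact ⟨2 ^ i, Nat.pow_lt_pow_right (by norm_num) (by simpa [eWords_length] using hi),
    evSel_single φ eWords i hi⟩

theorem card_upTo_le : ∀ k ≤ 7, Nat.card (upTo k) ≤ 2 ^ (11 + k) := by
  have : Finite Cfsg.Spor.Fi23 := group_le.1
  intro k
  induction k with
  | zero =>
    intro _
    refine le_of_eq ?_
    have : upTo 0 = elEleven := by
      rw [upTo, show Set.Iio (0 : ℕ) = ∅ by ext; simp, Set.image_empty, Set.union_empty,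
        Subgroup.closure_eq]
    rw [this, card_elEleven]
  | succ k ih =>
    intro hk
    obtain ⟨hc, a, v, ha, hs⟩ := rel_spec (show k < 7 by omega)
    have hX : ∀ a v, a < 2 ^ k → xE a * eE v ∈ upTo k := fun a v ha =>
      mul_mem (xE_mem ha fun j hj _ => xGen_mem_upTo hj) (elEleven_le_upTo k (eE_mem v))
    have heq : ((elEleven : Set Cfsg.Spor.Fi23) ∪ xGen '' Set.Iio (k + 1)) =
        insert (xGen k) ((elEleven : Set Cfsg.Spor.Fi23) ∪ xGen '' Set.Iio k) := by
      rw [show Set.Iio (k + 1) = insert k (Set.Iio k) by ext; simp [Nat.lt_succ_iff_lt_or_eq, or_comm], Set.image_insert_eq,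
        Set.union_insert]
    have hle := card_closure_insert_le (x := xGen k)
      (S := (elEleven : Set Cfsg.Spor.Fi23) ∪ xGen '' Set.Iio k) (fun s hs' => ?_)
      (hs ▸ hX a v ha)
    · rw [upTo, heq]
      refine hle.trans ?_
      rw [show 2 ^ (11 + (k + 1)) = 2 * 2 ^ (11 + k) by rw [← add_assoc, pow_succ']]
      exact Nat.mul_le_mul le_rfl (ih (by omega))
    · rcases hs' with ⟨w, hw, rfl⟩ | ⟨j, hj, rfl⟩
      · have : xGen k = xE (2 ^ k) := by
          rw [xGen, List.getD_eq_getElem _ _ (show k < xWords.length by rw [xWords_length]; omega)]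
          exact (evSel_single φ xWords k _).symm
        rw [this, xE_conj]
        exact elEleven_le_upTo k (eE_mem _)
      · obtain ⟨a', v', ha', he⟩ := hc j hj
        rw [he]
        exact hX a' v' ha'

/-- A Sylow 2-subgroup. -/
noncomputable def sylTwo : Subgroup Cfsg.Spor.Fi23 := upTo 7

theorem prod_mem {a : ℕ} (ha : a < 128) (v : ℕ) : xE a * eE v ∈ sylTwo :=
  mul_mem (xE_mem (n := 7) ha fun _ hj _ => xGen_mem_upTo hj) (elEleven_le_upTo 7 (eE_mem v))

theorem blk_lt (i : ℕ) (hi : i < 23) : blk.getD i 0 < tab.size :=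
  pt_lt (List.mem_append_right _ (List.mem_append_left _ (getD_mem 0 (show i < blk.length from hi))))

theorem psel_spec (a : ℕ) {i : ℕ} (hi : i < 23) :
    psel xPerms a i < 23 ∧ tab.app (sel xWords a) (blk.getD i 0) = blk.getD (psel xPerms a i) 0 := by
  refine app_sel tab (B := blk) xWords xPerms (by decide +kernel) (fun k hk j hj => ?_) a i hi
  have h := List.all_eq_true.1 (xPerms_ok k hk) j (List.mem_range.2 hj)
  simp only [Bool.and_eq_true, decide_eq_true_eq, Nat.beq_eq] at h
  refine ⟨h.1, ?_⟩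
  rw [List.getD_eq_getElem _ _ hk] at h
  exact h.2

theorem psel_lt (a : ℕ) {i : ℕ} (hi : i < 23) : psel xPerms a i < 23 := (psel_spec a hi).1

/-- The point of an index in the list of twenty-three. -/
def blkPt (i : ℕ) (hi : i < 23) : Fin tab.size := ⟨blk.getD i 0, blk_lt i hi⟩

theorem blkPt_inj {i j : ℕ} {hi : i < 23} {hj : j < 23} (h : blkPt i hi = blkPt j hj) : i = j := by
  have h' : blk.getD i 0 = blk.getD j 0 := congrArg Fin.val h
  rw [List.getD_eq_getElem _ _ (show i < blk.length from hi),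
    List.getD_eq_getElem _ _ (show j < blk.length from hj)] at h'
  exact blk_nodup.getElem_inj_iff.1 h'

theorem act_prod (a v : ℕ) {i : ℕ} (hi : i < 23) :
    act (xE a * eE v) (blkPt i hi) = blkPt (psel xPerms a i) (psel_lt a hi) := by
  have hE : eE v ∈ (MulAction.stabilizer (Equiv.Perm (Fin tab.size)) (blkPt i hi)).comap act := by
    refine evSel_mem φ eWords v fun j hj _ => ?_
    show act (ev φ eWords[j]) (blkPt i hi) = blkPt i hi
    refine Fin.ext ((act_pt (letters_e (List.getElem_mem hj)) (blk_lt i hi)).trans ?_)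
    have h := List.all_eq_true.1 (List.all_eq_true.1 eWords_fix _ (List.getElem_mem hj)) _
      (getD_mem 0 (show i < blk.length from hi))
    exact Nat.eq_of_beq_eq_true h
  have hE' : act (eE v) (blkPt i hi) = blkPt i hi := hE
  rw [map_mul, Equiv.Perm.mul_apply, hE']
  exact Fin.ext ((act_pt (sel_letters (fun w hw => letters_x hw) a) (blk_lt i hi)).trans (psel_spec a hi).2)

theorem eq_of_psel {a b : ℕ} (ha : a < 128) (hb : b < 128)
    (h : ∀ i < 23, psel xPerms a i = psel xPerms b i) : a = b := by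
  have hcode : ∀ c, c < 128 → permCode c = xCodes.getD c 0 := fun c hc =>
    Nat.eq_of_beq_eq_true (List.all_eq_true.1 xCodes_ok c (List.mem_range.2 hc))
  have hab : permCode a = permCode b := by
    unfold permCode
    exact List.foldl_ext _ _ _ fun c i hi => by rw [h i (List.mem_range.1 hi)]
  rw [hcode a ha, hcode b hb, List.getD_eq_getElem _ _ (by rw [xCodes_nodup.2]; exact ha),
    List.getD_eq_getElem _ _ (by rw [xCodes_nodup.2]; exact hb)] at hab
  exact xCodes_nodup.1.getElem_inj_iff.1 hab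

theorem prod_inj {a a' v v' : ℕ} (ha : a < 128) (ha' : a' < 128) (hv : v < 2 ^ 11) (hv' : v' < 2 ^ 11)
    (h : xE a * eE v = xE a' * eE v') : a = a' ∧ v = v' := by
  have : a = a' := eq_of_psel ha ha' fun i hi =>
    blkPt_inj ((act_prod a v hi).symm.trans ((by rw [h]; exact act_prod a' v' hi :
      act (xE a * eE v) (blkPt i hi) = blkPt (psel xPerms a' i) (psel_lt a' hi))))
  subst this
  exact ⟨rfl, eE_inj hv hv' (mul_left_cancel h)⟩

theorem card_and_surj : Nat.card sylTwo = 2 ^ 18 ∧
    ∀ y ∈ sylTwo, ∃ a v, a < 128 ∧ v < 2 ^ 11 ∧ xE a * eE v = y := by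
  have : Finite Cfsg.Spor.Fi23 := group_le.1
  let f : Fin 128 × Fin (2 ^ 11) → sylTwo := fun p => ⟨xE p.1 * eE p.2, prod_mem p.1.2 p.2⟩
  have hf : Function.Injective f := fun p q h => by
    obtain ⟨h1, h2⟩ := prod_inj p.1.2 q.1.2 p.2.2 q.2.2 (congrArg Subtype.val h)
    exact Prod.ext (Fin.ext h1) (Fin.ext h2)
  have hle : Nat.card sylTwo ≤ Nat.card (Fin 128 × Fin (2 ^ 11)) := by
    refine (card_upTo_le 7 le_rfl).trans (le_of_eq ?_)
    rw [Nat.card_prod, Nat.card_fin, Nat.card_fin]
    norm_num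
  have hb : Function.Bijective f := hf.bijective_of_nat_card_le hle
  refine ⟨?_, fun y hy => ?_⟩
  · rw [← Nat.card_eq_of_bijective f hb, Nat.card_prod, Nat.card_fin, Nat.card_fin]
    norm_num
  · obtain ⟨p, hp⟩ := hb.2 ⟨y, hy⟩
    exact ⟨p.1, p.2, p.1.2, p.2.2, congrArg Subtype.val hp⟩

theorem elEleven_le : elEleven ≤ sylTwo := elEleven_le_upTo 7

theorem elEleven_normal : ∀ y ∈ sylTwo, ∀ e ∈ elEleven, y * e * y⁻¹ ∈ elEleven := by
  rintro y hy e ⟨w, -, rfl⟩
  obtain ⟨a, v, -, -, rfl⟩ := card_and_surj.2 y hy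
  rw [show xE a * eE v * eE w * (xE a * eE v)⁻¹ = xE a * (eE v * eE w * (eE v)⁻¹) * (xE a)⁻¹ by group,
    eE_comm v w, mul_inv_cancel_right, xE_conj]
  exact eE_mem _

theorem testBit_foldl : ∀ (L : List ℕ) (m v : ℕ),
    (L.foldl (fun m v => m ||| 2 ^ v) m).testBit v = true → m.testBit v = true ∨ v ∈ L
  | [], m, v, h => Or.inl h
  | u :: L, m, v, h => by
    rcases testBit_foldl L _ v h with h1 | h1
    · rw [Nat.testBit_or, Bool.or_eq_true, Nat.testBit_two_pow, decide_eq_true_eq] at h1
      rcases h1 with h1 | h1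
      · exact Or.inl h1
      · exact Or.inr (by simp [h1])
    · exact Or.inr (by simp [h1])

theorem fixed_vec {t : ℕ} (ht : t < 35) {w : ℕ} (hw : w < 2 ^ 11)
    (h : matAct xMats (invKeys.getD t 0) w = w) :
    (invMasks.getD t (0, 0)).2.testBit w = true ∧ w ∈ fixVecs.getD t [] := by
  set a := invKeys.getD t 0
  set M := invMats.getD t [] with hM
  have hMlen : M.length = 11 :=
    invLists_length.2 M (getD_mem [] (by rw [show invMats.length = 35 from rfl]; exact ht))
  have hMj : ∀ j < 11, matAct xMats a (2 ^ j) = M.getD j 0 := fun j hj => by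
    have := List.all_eq_true.1 (List.all_eq_true.1 invMats_ok t (List.mem_range.2 ht)) j (List.mem_range.2 hj)
    exact Nat.eq_of_beq_eq_true this
  have hf := map_evSel φ e_comm e_sq (ψ := φ) (MulAut.conj (xE a)).toMonoidHom eWords M
    (by rw [eWords_length, hMlen]) (fun i hi => ?_) w
  · have hlin : lin M w < 2 ^ 11 := lin_lt M w fun m hm => by
      obtain ⟨j, hj, rfl⟩ := List.getElem_of_mem hm
      rw [← List.getD_eq_getElem _ 0 hj, ← hMj j (hMlen ▸ hj)]
      exact matAct_bound a (Nat.pow_lt_pow_right (by norm_num) (hMlen ▸ hj))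
    have hfix : lin M w = w := by
      refine eE_inj hlin hw (hf.symm.trans ?_)
      show xE a * eE w * (xE a)⁻¹ = eE w
      rw [xE_conj, h]
    have hmask := List.all_eq_true.1 (List.all_eq_true.1 fixMasks_ok t (List.mem_range.2 ht)) w
      (List.mem_range.2 hw)
    rw [← hM, hfix, Nat.beq_refl, Bool.not_true, Bool.false_or] at hmask
    refine ⟨hmask, ?_⟩
    have hv := List.all_eq_true.1 fixVecs_ok t (List.mem_range.2 ht)
    simp only [Bool.and_eq_true, Nat.beq_eq] at hv
    rw [← hv.2] at hmask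
    exact (testBit_foldl _ 0 w hmask).resolve_left (by simp)
  · show xE a * ev φ eWords[i] * (xE a)⁻¹ = eE (M.getD i 0)
    rw [← evSel_single φ eWords i hi, ← eE, xE_conj, hMj i (by simpa [eWords_length] using hi)]

theorem eq_elEleven {A : Subgroup Cfsg.Spor.Fi23} (hA : A ≤ sylTwo)
    (hc : ∀ x ∈ A, ∀ y ∈ A, x * y = y * x) (hs : ∀ x ∈ A, x * x = 1)
    (hcard : 2 ^ 11 ≤ Nat.card A) : A = elEleven := by
  classical
  have : Finite Cfsg.Spor.Fi23 := group_le.1
  obtain ⟨S, hSiff⟩ : ∃ S : Finset ℕ, ∀ a, a ∈ S ↔ a < 128 ∧ ∃ v, v < 2 ^ 11 ∧ xE a * eE v ∈ A :=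
    ⟨(Finset.range 128).filter fun a => ∃ v, v < 2 ^ 11 ∧ xE a * eE v ∈ A, fun a => by
      rw [Finset.mem_filter, Finset.mem_range]⟩
  obtain ⟨V, hViff⟩ : ∃ V : Finset ℕ, ∀ v, v ∈ V ↔ v < 2 ^ 11 ∧ eE v ∈ A :=
    ⟨(Finset.range (2 ^ 11)).filter fun v => eE v ∈ A, fun v => by
      rw [Finset.mem_filter, Finset.mem_range]⟩
  have hS : ∀ a ∈ S, a < 128 ∧ ∃ v, v < 2 ^ 11 ∧ xE a * eE v ∈ A := fun a ha => (hSiff a).1 ha
  choose! v0 hv0 hv0A using fun a ha => (hS a ha).2
  have hbound : Nat.card A ≤ S.card * V.card := by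
    have hsub : (A : Set Cfsg.Spor.Fi23) ⊆
        ↑((S ×ˢ V).image fun p => xE p.1 * eE (v0 p.1) * eE p.2) := by
      intro y hy
      have hy' : y ∈ sylTwo := hA (SetLike.mem_coe.1 hy)
      have hex := card_and_surj.2 y hy'
      obtain ⟨a, hex1⟩ := hex
      obtain ⟨v, ha, hv, he⟩ := hex1
      rw [← he, SetLike.mem_coe] at hy
      rw [← he]
      have haS : a ∈ S := (hSiff a).2 ⟨ha, v, hv, hy⟩
      have hw : eE (v0 a ^^^ v) ∈ A := by
        have := mul_mem (inv_mem (hv0A a haS)) hy
        rwa [mul_inv_rev, mul_assoc, inv_mul_cancel_left, inv_eq_of_mul_eq_one_right (eE_self _),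
          ← eE_xor] at this
      simp only [Finset.coe_image, Set.mem_image, Finset.mem_coe, Finset.mem_product]
      refine ⟨(a, v0 a ^^^ v), ⟨haS, ?_⟩, ?_⟩
      · exact (hViff _).2 ⟨Nat.xor_lt_two_pow (hv0 a haS) hv, hw⟩
      · show xE a * eE (v0 a) * eE (v0 a ^^^ v) = xE a * eE v
        rw [mul_assoc, ← eE_xor, ← Nat.xor_assoc, Nat.xor_self, Nat.zero_xor]
    rw [show Nat.card A = (A : Set Cfsg.Spor.Fi23).ncard from Nat.card_coe_set_eq _]
    refine (Set.ncard_le_ncard hsub (Finset.finite_toSet _)).trans ?_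
    rw [Set.ncard_coe_finset, ← Finset.card_product]
    exact Finset.card_image_le
  have hkey : ∀ a ∈ S, a ≠ 0 → a ∈ invKeys := by
    intro a ha hne
    have h := List.all_eq_true.1 invKeys_ok a (List.mem_range.2 (hS a ha).1)
    have hinv : involutive a = true := by
      simp only [involutive, List.all_eq_true, List.mem_range, Nat.beq_eq]
      intro i hi
      have hy := hs _ (hv0A a ha)
      refine blkPt_inj (hi := psel_lt a (psel_lt a hi)) (hj := hi) ?_
      rw [← act_prod a (v0 a) (psel_lt a hi), ← act_prod a (v0 a) hi, ← Equiv.Perm.mul_apply, ← map_mul,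
        hy, map_one]
      rfl
    simpa [hinv, hne] using h
  have hadj : ∀ a ∈ S, a ≠ 0 → ∀ b ∈ S, b ≠ 0 → a ≠ b → adjacent a b = true := by
    intro a ha ha0 b hb hb0 hab
    have h := List.all_eq_true.1 (List.all_eq_true.1 adjacent_ok a (hkey a ha ha0)) b (hkey b hb hb0)
    have hcomm : commuting a b = true := by
      simp only [commuting, List.all_eq_true, List.mem_range, Nat.beq_eq]
      intro i hi
      refine blkPt_inj (hi := psel_lt a (psel_lt b hi)) (hj := psel_lt b (psel_lt a hi)) ?_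
      rw [← act_prod a (v0 a) (psel_lt b hi), ← act_prod b (v0 b) hi,
        ← act_prod b (v0 b) (psel_lt a hi), ← act_prod a (v0 a) hi, ← Equiv.Perm.mul_apply,
        ← Equiv.Perm.mul_apply, ← map_mul, ← map_mul, hc _ (hv0A a ha) _ (hv0A b hb)]
    simpa [hcomm, hab] using h
  have hidx : ∀ a ∈ invKeys, ∃ t < 35, invKeys.getD t 0 = a := fun a ha => by
    obtain ⟨t, ht, rfl⟩ := List.getElem_of_mem ha
    exact ⟨t, invLists_length.1 ▸ ht, List.getD_eq_getElem _ _ ht⟩
  have hVfix : ∀ a ∈ S, ∀ w ∈ V, matAct xMats a w = w := by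
    intro a ha w hw'
    have hw : w < 2 ^ 11 ∧ eE w ∈ A := (hViff w).1 hw'
    refine eE_inj (matAct_bound a hw.1) hw.1 ?_
    have h := hc _ (hv0A a ha) _ hw.2
    rw [← xE_conj, mul_inv_eq_iff_eq_mul]
    refine mul_right_cancel (b := eE (v0 a)) ?_
    rw [mul_assoc, eE_comm w, ← mul_assoc, h, mul_assoc]
  let S0 := S.erase 0
  have hS0 : S0.card < 16 := by
    by_contra hge
    have := hasClique_of_subset (adj := adjacent) 16 invKeys S0 (by omega)
      (fun a ha => hkey a (Finset.mem_of_mem_erase ha) (Finset.ne_of_mem_erase ha))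
      (fun a ha b hb => hadj a (Finset.mem_of_mem_erase ha) (Finset.ne_of_mem_erase ha) b
        (Finset.mem_of_mem_erase hb) (Finset.ne_of_mem_erase hb))
    rw [no_clique] at this
    exact Bool.false_ne_true this
  have hSle : S.card ≤ S0.card + 1 := by
    have := Finset.pred_card_le_card_erase (s := S) (a := 0)
    show S.card ≤ (S.erase 0).card + 1
    omega
  rcases Nat.lt_or_ge S0.card 1 with h0 | h1
  · refine Subgroup.eq_of_le_of_card_ge (fun y hy => ?_) (card_elEleven.le.trans hcard)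
    obtain ⟨a, v, ha, hv, rfl⟩ := card_and_surj.2 y (hA hy)
    have haS : a ∈ S := (hSiff a).2 ⟨ha, v, hv, hy⟩
    have : a = 0 := by
      by_contra hne
      have : 0 < S0.card := Finset.card_pos.2 ⟨a, Finset.mem_erase.2 ⟨hne, haS⟩⟩
      omega
    rw [this, xE_zero, one_mul]
    exact eE_mem v
  exfalso
  obtain ⟨a, ha⟩ := Finset.card_pos.1 h1
  obtain ⟨hane, haS⟩ := Finset.mem_erase.1 ha
  obtain ⟨s, hs35, hsa⟩ := hidx a (hkey a haS hane)
  have hfa : ∀ w ∈ V, (invMasks.getD s (0, 0)).2.testBit w = true ∧ w ∈ fixVecs.getD s [] := fun w hw =>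
    fixed_vec hs35 ((hViff w).1 hw).1 (hsa.symm ▸ hVfix a haS w hw)
  rcases Nat.lt_or_ge S0.card 2 with h2 | h2
  · have hV : V.card ≤ 128 := by
      have hv := List.all_eq_true.1 fixVecs_ok s (List.mem_range.2 hs35)
      simp only [Bool.and_eq_true, decide_eq_true_eq] at hv
      refine le_trans ?_ ((List.toFinset_card_le _).trans hv.1)
      exact Finset.card_le_card fun w hw => List.mem_toFinset.2 (hfa w hw).2
    have := Nat.mul_le_mul (show S.card ≤ 2 by omega) hV
    omega
  · obtain ⟨b, hb, hba⟩ := Finset.exists_mem_ne h2 a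
    obtain ⟨hbne, hbS⟩ := Finset.mem_erase.1 hb
    obtain ⟨t, ht35, htb⟩ := hidx b (hkey b hbS hbne)
    have hV : V.card ≤ 64 := by
      have hp := List.all_eq_true.1 (List.all_eq_true.1 fixPairs_ok s (List.mem_range.2 hs35)) t
        (List.mem_range.2 ht35)
      have hst : s ≠ t := fun h => hba (by rw [← hsa, ← htb, h])
      simp only [Bool.or_eq_true, Nat.beq_eq, hst, hsa, htb, hadj a haS hane b hbS hbne hba.symm,
        Bool.not_true, Bool.false_eq_true, or_false, false_or, decide_eq_true_eq] at hp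
      refine le_trans ?_ ((List.toFinset_card_le _).trans hp)
      exact Finset.card_le_card fun w hw => List.mem_toFinset.2 (List.mem_filter.2 ⟨(hfa w hw).2,
        (fixed_vec ht35 ((hViff w).1 hw).1
          (htb.symm ▸ hVfix b hbS w hw)).1⟩)
    have := Nat.mul_le_mul (show S.card ≤ 16 by omega) hV
    omega

theorem exists_sylow_eq : ∃ P : Sylow 2 Cfsg.Spor.Fi23, (P : Subgroup Cfsg.Spor.Fi23) = sylTwo := by
  have : Finite Cfsg.Spor.Fi23 := group_le.1
  have : Fact (Nat.Prime 2) := ⟨Nat.prime_two⟩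
  obtain ⟨P, hP⟩ := (IsPGroup.of_card card_and_surj.1).exists_le_sylow (p := 2)
  refine ⟨P, (Subgroup.eq_of_le_of_card_ge hP ?_).symm⟩
  obtain ⟨n, hn⟩ := IsPGroup.iff_card.1 P.isPGroup'
  have hd : 2 ^ n ∣ 4089470473293004800 := card_and_inj.1 ▸ hn ▸ Subgroup.card_subgroup_dvd_card _
  have : n ≤ 18 := by
    by_contra h
    exact absurd ((pow_dvd_pow 2 (show 19 ≤ n by omega)).trans hd) (by norm_num)
  rw [card_and_surj.1, hn]
  exact Nat.pow_le_pow_right (by norm_num) this

end Cfsg.Agent.Lib.SporPres.FiTwentyThree.NormalElem
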