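import Cfsg.Agent.Lib.SporPres.FiTwentyThree.Cover
import Cfsg.Agent.Lib.SporPres.FiTwentyThree.FixData

/-! # The presented Fi23 is simple -/

set_option autoImplicit false

namespace Cfsg.Agent.Lib.SporPres.FiTwentyThree

open Cfsg.Agent.Lib.Coset

/-- The letters commuting with the last one. -/
abbrev lettersEightJ : List ℕ := [0, 1, 2, 3, 4, 5, 7, 8]

theorem roots_fix : (roots.all fun p => p.2.all fun w =>
    FiTwentyTwo.tab.app w p.1 == p.1 && w.all fun a => lettersEightJ.contains a) = true := by
  decide +kernel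

/-- Checks that the words of a root move every other point of a range. -/
noncomputable def onlyRange (p : ℕ × List (List ℕ)) (lo len : ℕ) : Bool :=
  (List.range len).all fun k => lo + k == p.1 ||
    p.2.any fun w => !(FiTwentyTwo.tab.app w (lo + k) == lo + k)

theorem roots_only (p : ℕ × List (List ℕ)) (hp : p ∈ roots) (i : ℕ) (hi : i < 3510)
    (hne : i ≠ p.1) : ∃ w ∈ p.2, FiTwentyTwo.tab.app w i ≠ i := by
  have hchunk : ∀ k < 4, (roots.all fun p => onlyRange p (k * 900) (min 900 (3510 - k * 900))) = true := by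
    intro k hk
    interval_cases k <;> decide +kernel
  have hd := Nat.div_add_mod' i 900
  have := List.all_eq_true.1 (hchunk (i / 900) (by omega)) p hp
  simp only [onlyRange, List.all_eq_true, List.mem_range] at this
  have := this (i % 900) (lt_min (Nat.mod_lt _ (by norm_num)) (by omega))
  rw [hd] at this
  simpa [hne] using this

/-- Checks that every point of a range is a root or is led towards one by its letter. -/
noncomputable def forestRange (lo len : ℕ) : Bool :=
  (List.range len).all fun k => roots.any (fun p => p.1 == lo + k) ||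
    (lettersEightJ.contains (nodeOf forestS (lo + k) % 16) &&
      decide (nodeOf forestS (FiTwentyTwo.tab.act (nodeOf forestS (lo + k) % 16) (lo + k)) / 16 <
        nodeOf forestS (lo + k) / 16))

theorem forest (i : ℕ) (hi : i < 3510) : (∃ p ∈ roots, p.1 = i) ∨
    ∃ g ∈ lettersEightJ, nodeOf forestS (FiTwentyTwo.tab.act g i) / 16 < nodeOf forestS i / 16 := by
  have hchunk : ∀ k < 4, forestRange (k * 900) (min 900 (3510 - k * 900)) = true := by
    intro k hk
    interval_cases k <;> decide +kernel
  have hd := Nat.div_add_mod' i 900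
  have := hchunk (i / 900) (by omega)
  simp only [forestRange, List.all_eq_true, List.mem_range] at this
  have := this (i % 900) (lt_min (Nat.mod_lt _ (by norm_num)) (by omega))
  rw [hd] at this
  simp only [Bool.or_eq_true, Bool.and_eq_true, List.any_eq_true, beq_iff_eq,
    List.contains_iff_mem, decide_eq_true_eq] at this
  exact this.imp id fun h => ⟨_, h.1, h.2⟩

theorem lettersEightJ_lt : ∀ g ∈ lettersEightJ, g < 9 := by decide +kernel

/-- A permutation of the 3510 points commuting with eight transpositions is trivial. -/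
theorem eq_one_of_commute (σ : Equiv.Perm (Fin FiTwentyTwo.tab.size))
    (hσ : ∀ g ∈ lettersEightJ,
      σ * FiTwentyTwo.tab.perm FiTwentyTwo.good g = FiTwentyTwo.tab.perm FiTwentyTwo.good g * σ) :
    σ = 1 := by
  have hword : ∀ w : List ℕ, (∀ a ∈ w, a ∈ lettersEightJ) →
      σ * ev (FiTwentyTwo.tab.perm FiTwentyTwo.good) w =
        ev (FiTwentyTwo.tab.perm FiTwentyTwo.good) w * σ := by
    intro w
    induction w with
    | nil => intro _; simp [ev_nil]
    | cons a w ih =>
      intro h
      rw [ev_cons, ← mul_assoc, hσ a (h a (by simp)), mul_assoc,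
        ih fun b hb => h b (List.mem_cons_of_mem _ hb), mul_assoc]
  have key : ∀ d, ∀ i : Fin FiTwentyTwo.tab.size, nodeOf forestS i / 16 = d → σ i = i := by
    intro d
    induction d using Nat.strong_induction_on with
    | _ d ih =>
      intro i hd
      rcases forest i i.2 with ⟨p, hp, hpi⟩ | ⟨g, hg, hlt⟩
      · by_contra hne
        obtain ⟨w, hw, hmove⟩ := roots_only p hp (σ i) (σ i).2 fun h => hne (Fin.ext (h.trans hpi))
        have hfix := List.all_eq_true.1 (List.all_eq_true.1 roots_fix p hp) w hw
        simp only [Bool.and_eq_true, beq_iff_eq, List.all_eq_true, List.contains_iff_mem] at hfix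
        have hl : ∀ a ∈ w, a < FiTwentyTwo.tab.gens := fun a ha => lettersEightJ_lt a (hfix.2 a ha)
        have hi : ev (FiTwentyTwo.tab.perm FiTwentyTwo.good) w i = i :=
          Fin.ext ((Tab.ev_perm_apply FiTwentyTwo.good w hl i).trans (hpi ▸ hfix.1))
        have h2 : σ (ev (FiTwentyTwo.tab.perm FiTwentyTwo.good) w i) =
            ev (FiTwentyTwo.tab.perm FiTwentyTwo.good) w (σ i) :=
          congrArg (fun τ : Equiv.Perm (Fin FiTwentyTwo.tab.size) => τ i) (hword w hfix.2)
        rw [hi] at h2
        exact hmove ((Tab.ev_perm_apply FiTwentyTwo.good w hl (σ i)).symm.trans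
          (congrArg Fin.val h2.symm))
      · have hg9 : g < FiTwentyTwo.tab.gens := lettersEightJ_lt g hg
        set j := FiTwentyTwo.tab.perm FiTwentyTwo.good g i with hj
        have hjv : (j : ℕ) = FiTwentyTwo.tab.act g i := by
          rw [hj, Tab.perm, dif_pos hg9]; rfl
        have hjfix : σ j = j := ih _ (hd ▸ hjv ▸ hlt) j rfl
        have h2 : σ j = FiTwentyTwo.tab.perm FiTwentyTwo.good g (σ i) :=
          congrArg (fun τ : Equiv.Perm (Fin FiTwentyTwo.tab.size) => τ i) (hσ g hg)
        rw [hjfix, hj] at h2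
        exact ((FiTwentyTwo.tab.perm FiTwentyTwo.good g).injective h2).symm
  exact Equiv.ext fun i => key _ i rfl

theorem perm_val {P : Tab} (h : P.Good) {g : ℕ} (hg : g < P.gens) (i : Fin P.size) :
    ((P.perm h g i : Fin P.size) : ℕ) = P.act g i := by
  rw [Tab.perm, dif_pos hg]
  rfl

theorem perm_ne_one {P : Tab} (h : P.Good) {g i : ℕ} (hg : g < P.gens) (hi : i < P.size)
    (hne : P.act g i ≠ i) : P.perm h g ≠ 1 := fun he => hne (by
  have h1 := perm_val h hg ⟨i, hi⟩
  rw [he] at h1
  exact h1.symm)

/-- An element of the subgroup agreeing with the last generator modulo a normal subgroup meeting the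
subgroup in its centre gives a contradiction. -/
theorem le_normal (N : Subgroup Cfsg.Spor.Fi23) [hN : N.Normal] (hsup : subK ⊔ N = ⊤) :
    subK ≤ N := by
  have hKN : ∀ t : subK, (t : Cfsg.Spor.Fi23) ∈ N ↔ t ∈ N.subgroupOf subK := fun _ => Iff.rfl
  have : (N.subgroupOf subK).Normal := hN.comap subK.subtype
  set L := N.subgroupOf subK with hL
  suffices L = ⊤ by
    intro x hx
    exact (hKN ⟨x, hx⟩).2 (this ▸ Subgroup.mem_top _)
  have : IsSimpleGroup Cfsg.Spor.Fi22 := FiTwentyTwo.isFiTwentyTwo.1
  set f : subK →* Cfsg.Spor.Fi22 := toSmall.toMonoidHom.comp (QuotientGroup.mk' _) with hf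
  have hfs : Function.Surjective f := toSmall.surjective.comp (QuotientGroup.mk'_surjective _)
  have hfk : f.ker = coverHom.ker := by
    ext t
    rw [MonoidHom.mem_ker, hf]
    show toSmall (QuotientGroup.mk' _ t) = 1 ↔ _
    rw [← map_one toSmall, toSmall.injective.eq_iff]
    exact QuotientGroup.eq_one_iff t
  rcases (Subgroup.Normal.map (inferInstance : L.Normal) f hfs).eq_bot_or_eq_top with hbot | htop
  · exfalso
    rw [Subgroup.map_eq_bot_iff, hfk] at hbot
    obtain ⟨k, hk, n, hn, hkn⟩ := Subgroup.mem_sup_of_normal_right.1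
      (show φ 9 ∈ subK ⊔ N by rw [hsup]; trivial)
    set kk : subK := ⟨k, hk⟩
    have hq : QuotientGroup.mk' N (φ 9) = QuotientGroup.mk' N k := by
      rw [← hkn, map_mul, show QuotientGroup.mk' N n = 1 from (QuotientGroup.eq_one_iff n).2 hn,
        mul_one]
    have hcongr : ∀ s t : subK, QuotientGroup.mk' N (s : Cfsg.Spor.Fi23) =
        QuotientGroup.mk' N (t : Cfsg.Spor.Fi23) → coverHom s = coverHom t := fun s t h => by
      have h1 : s⁻¹ * t ∈ L := by
        show (s : Cfsg.Spor.Fi23)⁻¹ * t ∈ N
        exact QuotientGroup.eq.1 h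
      have h2 := hbot h1
      rw [MonoidHom.mem_ker, map_mul, map_inv, inv_mul_eq_one] at h2
      exact h2
    let x : ℕ → subK := fun g =>
      if h : g < 9 then ⟨_, Subgroup.subset_closure ⟨_, letter_mem g h, rfl⟩⟩ else 1
    have hxv : ∀ g < 9, ((x g : subK) : Cfsg.Spor.Fi23) = pres.φ g := fun g hg => by
      simp only [x, dif_pos hg, ev_cons, ev_nil, mul_one]
    have hxc : ∀ g < 9, coverHom (x g) = FiTwentyTwo.tab.perm FiTwentyTwo.good g := fun g hg => by
      rw [← FiTwentyTwo.act_φ g hg]
      exact coverHom_eq _ (by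
        simp only [x, dif_pos hg]
        exact compat_gen g hg)
    have hone : coverHom kk = 1 := by
      refine eq_one_of_commute _ fun g hg => ?_
      have hg9 := lettersEightJ_lt g hg
      rw [← hxc g hg9, ← map_mul, ← map_mul]
      refine hcongr _ _ ?_
      have hrel : φ g * φ 9 * (φ g * φ 9) = 1 := by
        have hm : List.elem (Coset.rep 2 [g, 9]) pres.base = true :=
          (by decide +kernel : ∀ g ∈ lettersEightJ, List.elem (Coset.rep 2 [g, 9]) pres.base = true) g hg
        have h := pres.base_eq_one _ (List.elem_iff.1 hm)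
        rwa [ev_rep, ev_cons, ev_cons, ev_nil, mul_one, pow_two] at h
      have hc : φ 9 * φ g = φ g * φ 9 := by
        rw [mul_eq_one_iff_eq_inv, mul_inv_rev, inv_eq_of_mul_eq_one_right (pres.φ_inv g),
          inv_eq_of_mul_eq_one_right (pres.φ_inv 9)] at hrel
        exact hrel.symm
      rw [Subgroup.coe_mul, Subgroup.coe_mul, map_mul, map_mul, ← hq, hxv g hg9, ← map_mul,
        ← map_mul, hc]
    have h3 : coverHom ((x 6 * kk) ^ 3) = coverHom 1 := by
      refine hcongr _ _ ?_
      have h := pres.base_eq_one (Coset.rep 3 [6, 9]) (List.elem_iff.1 (by decide +kernel))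
      rw [ev_rep, ev_cons, ev_cons, ev_nil, mul_one] at h
      rw [SubgroupClass.coe_pow, Subgroup.coe_mul, hxv 6 (by norm_num), map_pow, map_mul, ← hq,
        ← map_mul, ← map_pow, h]
      rfl
    rw [map_pow, map_mul, hone, mul_one, map_one, hxc 6 (by norm_num), pow_succ, pow_two,
      Tab.perm_mul_self, one_mul] at h3
    have hlt : 13 < FiTwentyTwo.tab.size := by decide +kernel
    have hi : FiTwentyTwo.tab.act 6 13 ≠ 13 := by decide +kernel
    exact perm_ne_one FiTwentyTwo.good (by decide +kernel) hlt hi h3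
  · have hsupL : L ⊔ coverHom.ker = ⊤ := by
      rw [← hfk, ← Subgroup.comap_map_eq, htop, Subgroup.comap_top]
    refine eq_top_of_squares L fun y => ?_
    have hdvd : L.index ∣ 2 := by
      rw [← card_ker]
      have h := Subgroup.relIndex_dvd_card L coverHom.ker
      rwa [← Subgroup.relIndex_sup_right, sup_comm, hsupL, Subgroup.relIndex_top_right] at h
    rw [← pow_two]
    exact orderOf_dvd_iff_pow_eq_one.1 ((orderOf_dvd_natCard y).trans hdvd)

theorem isFiTwentyThree : Cfsg.IsFi23 Cfsg.Spor.Fi23 := by
  refine ⟨?_, card_and_inj.1⟩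
  have := group_le.1
  have hnt : Nontrivial Cfsg.Spor.Fi23 := by
    rw [← Finite.one_lt_card_iff_nontrivial, card_and_inj.1]
    norm_num
  refine ⟨fun N hN => or_iff_not_imp_left.2 fun hne => ?_⟩
  have hsup : subK ⊔ N = ⊤ := sup_subK N hne
  rw [← hsup]
  exact (sup_eq_right.2 (le_normal N hsup)).symm

end Cfsg.Agent.Lib.SporPres.FiTwentyThree
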