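import Cfsg.Agent.Lib.SporPres.FiTwentyThree.Act
import Cfsg.Agent.Lib.SporPres.FiTwentyThree.OrbitData

/-! # The suborbits and the tree of the action on 31671 points -/

set_option autoImplicit false

namespace Cfsg.Agent.Lib.SporPres.FiTwentyThree

open Cfsg.Agent.Lib.Coset

/-- Each coset of a range other than the first has an edge back to a smaller one. -/
noncomputable def backRange (P : Tab) (lo len : ℕ) : Bool :=
  (List.range len).all fun k => lo + k == 0 ||
    (List.range P.gens).any fun g => decide (P.act g (lo + k) < lo + k)

theorem back_ok : tab.backOK = true := by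
  simp only [Tab.backOK, List.all_eq_true, List.mem_range]
  intro i hi
  have hchunk : ∀ k, k * 2000 < tab.size → backRange tab (k * 2000) (min 2000 (tab.size - k * 2000)) = true := by
    intro k hk
    have hk' : k < 16 := by have := size_eq; omega
    interval_cases k <;> decide +kernel
  have hd := Nat.div_add_mod' i 2000
  have := hchunk (i / 2000) (by omega)
  simp only [backRange, List.all_eq_true, List.mem_range] at this
  have := this (i % 2000) (lt_min (Nat.mod_lt _ (by norm_num)) (by omega))
  rwa [hd] at this

/-- The words of the subgroup of index 31671. -/
def subWords : List (List ℕ) := [[0], [1], [2], [3], [4], [5], [6], [7], [8]]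

theorem orb0_ok : ∀ k, k * 1500 < orb0.len →
    orb0.rangeOK tab subWords (k * 1500) (min 1500 (orb0.len - k * 1500)) = true := by
  intro k hk
  have hk' : k < 3 := by
    have : orb0.len = 3510 := rfl
    omega
  interval_cases k <;> decide +kernel

theorem orb1_ok : ∀ k, k * 1500 < orb1.len →
    orb1.rangeOK tab subWords (k * 1500) (min 1500 (orb1.len - k * 1500)) = true := by
  intro k hk
  have hk' : k < 19 := by
    have : orb1.len = 28160 := rfl
    omega
  interval_cases k <;> decide +kernel

end Cfsg.Agent.Lib.SporPres.FiTwentyThree
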