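import Cfsg.Agent.Lib.SporPres.FiTwentyThree.Simple
import Cfsg.Agent.Lib.SporPres.FiTwentyTwo.Transposition

/-! # The class of 31671 transpositions of the presented Fi23 -/

set_option autoImplicit false

namespace Cfsg.Agent.Lib.SporPres.FiTwentyThree

open Cfsg.Agent.Lib.Coset

/-- A word carrying the point of the first generator to the first point. -/
def carry : List ℕ :=
  [9, 6, 5, 4, 3, 7, 2, 3, 4, 5, 6, 9, 1, 2, 3, 7, 4, 5, 3, 4, 2, 3, 7, 6, 5, 4, 3, 2, 0, 1]

/-- The transposition centralised by the subgroup of index 31671. -/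
def dWord : List ℕ := carry ++ ([0] ++ carry.reverse)

/-- The transposition centralised by the subgroup of index 31671. -/
noncomputable def dEl : Cfsg.Spor.Fi23 := ev φ dWord

theorem rev_eq (w : List ℕ) : ev φ w.reverse = (ev φ w)⁻¹ :=
  ev_reverse φ w fun a _ => pres.φ_inv a

theorem dEl_eq : dEl = ev φ carry * φ 0 * (ev φ carry)⁻¹ := by
  rw [dEl, dWord, ev_append, ev_append, rev_eq,
    ev_cons, ev_nil, mul_one, mul_assoc]

theorem fst_ne_one : φ 0 ≠ 1 := fun h => by
  have h1 := congrArg act h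
  rw [act_φ 0 (by decide +kernel), map_one] at h1
  exact perm_ne_one good (i := 8) (by decide +kernel) (by decide +kernel) (by decide +kernel) h1

theorem dEl_ne_one : dEl ≠ 1 := by
  rw [dEl_eq, ne_eq, conj_eq_one_iff]
  exact fst_ne_one

theorem act_app {w : List ℕ} (hw : w.all (· < tab.gens) = true) (x : Fin tab.size) :
    ((act (ev φ w) x : Fin tab.size) : ℕ) = tab.app w x := by
  rw [act_ev w hw]
  exact Tab.ev_perm_apply good w (fun g hg => decide_eq_true_eq.mp (List.all_eq_true.1 hw g hg)) x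

theorem act_app_z {w : List ℕ} (hw : w.all (· < tab.gens) = true) (h : tab.app w 0 < tab.size) :
    act (ev φ w) rep.z = ⟨tab.app w 0, h⟩ := Fin.ext (act_app hw rep.z)

theorem mem_subK_of_app {w : List ℕ} (hw : w.all (· < tab.gens) = true) (h : tab.app w 0 = 0) :
    ev φ w ∈ subK :=
  (rep.mem_iff _).2 (Fin.ext ((act_app hw rep.z).trans h))

theorem dEl_mem : dEl ∈ subK := mem_subK_of_app (by decide +kernel) (by decide +kernel)

/-- Checks that a word fixes the points of the smaller table in a range. -/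
noncomputable def fixRange (w : List ℕ) (lo len : ℕ) : Bool :=
  (List.range len).all fun k => Nat.beq (tab.app w (nodeOf iotaS (lo + k))) (nodeOf iotaS (lo + k))

theorem center_of_fix {w : List ℕ} (hm : ev φ w ∈ subK) (hw : w.all (· < tab.gens) = true)
    (hfix : ∀ k < 4, fixRange w (k * 900) (min 900 (3510 - k * 900)) = true) :
    (⟨ev φ w, hm⟩ : subK) ∈ Subgroup.center subK := by
  rw [center_eq]
  refine coverHom_eq _ (σ := 1) fun i => Fin.ext ?_
  have hi : (i : ℕ) < 3510 := i.2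
  have hd := Nat.div_add_mod' (i : ℕ) 900
  have h := hfix ((i : ℕ) / 900) (by omega)
  simp only [fixRange, List.all_eq_true, List.mem_range, Nat.beq_eq] at h
  have h' := h ((i : ℕ) % 900) (lt_min (Nat.mod_lt _ (by norm_num)) (by omega))
  rw [hd] at h'
  refine (act_app hw _).trans ?_
  show tab.app w (nodeOf iotaS i % 31671) = nodeOf iotaS i % 31671
  rw [Nat.mod_eq_of_lt (iota_spec i).1]
  exact h'

theorem dEl_center : (⟨dEl, dEl_mem⟩ : subK) ∈ Subgroup.center subK :=
  center_of_fix dEl_mem (by decide +kernel) fun k hk => by interval_cases k <;> decide +kernel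

theorem dEl_commute {x : Cfsg.Spor.Fi23} (hx : x ∈ subK) : x * dEl = dEl * x :=
  congrArg Subtype.val (Subgroup.mem_center_iff.1 dEl_center ⟨x, hx⟩)

/-- Conjugating words for the two suborbits, with the generator they send the first one to. -/
def links' : List (List ℕ × ℕ) := [([0, 1], 1), ([1, 2, 0, 1], 2)]

/-- The word leading to a suborbit. -/
def leadWord (v : List ℕ) : List ℕ := carry ++ (v ++ carry.reverse)

theorem lead_spec : ∀ p ∈ links', (leadWord p.1).all (· < tab.gens) = true ∧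
    tab.app (leadWord p.1) 0 < tab.size := by decide +kernel

theorem lead_orbit : orb1.has (tab.app (leadWord [0, 1]) 0) = true ∧
    orb0.has (tab.app (leadWord [1, 2, 0, 1]) 0) = true := by decide +kernel

theorem braid (i j : ℕ) (h : List.elem (Coset.rep 3 [i, j]) pres.base = true) :
    φ i * φ j * φ i * φ j * φ i = φ j := by
  have h1 := pres.base_eq_one _ (List.elem_iff.1 h)
  rw [ev_rep, ev_cons, ev_cons, ev_nil, mul_one, pow_succ, pow_two] at h1
  have h2 : φ i * φ j * φ i * φ j * φ i * φ j = 1 := by rw [← h1]; simp only [mul_assoc]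
  exact (mul_eq_one_iff_eq_inv.1 h2).trans (inv_eq_of_mul_eq_one_right (pres.φ_inv j))

theorem link_conj : ∀ p ∈ links', ev φ p.1 * φ 0 * (ev φ p.1)⁻¹ = φ p.2 := by
  intro p hp
  simp only [links', List.mem_cons, List.not_mem_nil, or_false] at hp
  have hinv : ∀ k, (φ k)⁻¹ = φ k := fun k => inv_eq_of_mul_eq_one_right (pres.φ_inv k)
  have hab := braid 0 1 (by decide +kernel)
  have hbc := braid 1 2 (by decide +kernel)
  rcases hp with rfl | rfl
  · simp only [ev_cons, ev_nil, mul_one, mul_inv_rev, hinv]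
    simpa only [mul_assoc] using hab
  · simp only [ev_cons, ev_nil, mul_one, mul_inv_rev, hinv]
    calc φ 1 * (φ 2 * (φ 0 * φ 1)) * φ 0 * (φ 1 * φ 0 * φ 2 * φ 1)
        = φ 1 * φ 2 * (φ 0 * φ 1 * φ 0 * φ 1 * φ 0) * φ 2 * φ 1 := by simp only [mul_assoc]
      _ = φ 2 := by rw [hab]; exact hbc

theorem link_facts : ∀ p ∈ links', ((φ 0 * φ p.2) ^ 2 = 1 ∨ (φ 0 * φ p.2) ^ 3 = 1) ∧ φ 0 ≠ φ p.2 := by
  intro p hp
  have cox : ∀ i j m, List.elem (Coset.rep m [i, j]) pres.base = true → (φ i * φ j) ^ m = 1 :=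
    fun i j m h => by
      have := pres.base_eq_one _ (List.elem_iff.1 h)
      rwa [ev_rep, ev_cons, ev_cons, ev_nil, mul_one] at this
  have hne : ∀ t i, t < tab.gens → i < tab.size → tab.act 0 i ≠ tab.act t i → φ 0 ≠ φ t :=
    fun t i ht hi hd he => hd (by
      have h1 := congrArg act he
      rw [act_φ 0 (by decide +kernel), act_φ t ht] at h1
      have h2 := congrArg (fun σ : Equiv.Perm (Fin tab.size) => ((σ ⟨i, hi⟩ : Fin _) : ℕ)) h1
      simp only [perm_val good (show 0 < tab.gens by decide +kernel), perm_val good ht] at h2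
      exact h2)
  simp only [links', List.mem_cons, List.not_mem_nil, or_false] at hp
  rcases hp with rfl | rfl
  · exact ⟨Or.inr (cox 0 1 3 (by decide +kernel)),
      hne 1 6 (by decide +kernel) (by decide +kernel) (by decide +kernel)⟩
  · exact ⟨Or.inl (cox 0 2 2 (by decide +kernel)),
      hne 2 5 (by decide +kernel) (by decide +kernel) (by decide +kernel)⟩

theorem mem_orbit0 {x : ℕ} (h : x < tab.size) (hh : orb0.has x = true) :
    (⟨x, h⟩ : Fin tab.size) ∈ MulAction.orbit (subK.map act) (⟨orb0.pt 0, base0_lt⟩ : Fin tab.size) :=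
  (orbit0.2 _).2 hh

theorem mem_orbit1 {x : ℕ} (h : x < tab.size) (hh : orb1.has x = true) :
    (⟨x, h⟩ : Fin tab.size) ∈ MulAction.orbit (subK.map act) (⟨orb1.pt 0, base1_lt⟩ : Fin tab.size) :=
  (orbit1.2 _).2 hh

theorem factor {x : Cfsg.Spor.Fi23} (hx : x ∉ subK) :
    ∃ p ∈ links', ∃ k ∈ subK, ∃ k' ∈ subK, x = k * (ev φ (leadWord p.1) * k') := by
  have hp : act x rep.z ≠ rep.z := fun h => hx ((rep.mem_iff x).2 h)
  have hlead : ∀ p (hm : p ∈ links'), act (ev φ (leadWord p.1)) rep.z =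
      (⟨tab.app (leadWord p.1) 0, (lead_spec p hm).2⟩ : Fin tab.size) :=
    fun p hm => act_app_z (lead_spec p hm).1 _
  have hsep : orb0.has 0 = false ∧ orb1.has 0 = false ∧ orb0.has (orb1.pt 0) = false := by
    decide +kernel
  have hcov : act x rep.z ∈ MulAction.orbit (subK.map act) (⟨orb0.pt 0, base0_lt⟩ : Fin tab.size) ∨
      act x rep.z ∈ MulAction.orbit (subK.map act) (⟨orb1.pt 0, base1_lt⟩ : Fin tab.size) := by
    by_contra hcon
    push Not at hcon
    have hd : Disjoint (MulAction.orbit (subK.map act) (⟨orb0.pt 0, base0_lt⟩ : Fin tab.size))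
        (MulAction.orbit (subK.map act) (⟨orb1.pt 0, base1_lt⟩ : Fin tab.size)) :=
      Set.disjoint_left.2 fun q hq hq' => by
        have := (orbit0.2 ⟨orb1.pt 0, base1_lt⟩).1 (by
          rw [← MulAction.orbit_eq_iff.2 hq, MulAction.orbit_eq_iff.2 hq']
          exact MulAction.mem_orbit_self _)
        exact Bool.false_ne_true (hsep.2.2.symm.trans this)
    have hz0 : rep.z ∉ MulAction.orbit (subK.map act) (⟨orb0.pt 0, base0_lt⟩ : Fin tab.size) :=
      fun h => Bool.false_ne_true (hsep.1.symm.trans ((orbit0.2 rep.z).1 h))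
    have hz1 : rep.z ∉ MulAction.orbit (subK.map act) (⟨orb1.pt 0, base1_lt⟩ : Fin tab.size) :=
      fun h => Bool.false_ne_true (hsep.2.1.symm.trans ((orbit1.2 rep.z).1 h))
    have hcount := Set.ncard_le_ncard (s := insert (act x rep.z) (insert rep.z
      (MulAction.orbit (subK.map act) (⟨orb0.pt 0, base0_lt⟩ : Fin tab.size) ∪
        MulAction.orbit (subK.map act) (⟨orb1.pt 0, base1_lt⟩ : Fin tab.size))))
      (t := Set.univ) (Set.subset_univ _) (Set.toFinite _)
    rw [Set.ncard_univ, Nat.card_fin, Set.ncard_insert_of_notMem ?_ (Set.toFinite _),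
      Set.ncard_insert_of_notMem (fun h => h.elim hz0 hz1) (Set.toFinite _),
      Set.ncard_union_eq hd, orbit0.1, orbit1.1, size_eq] at hcount
    · omega
    · rintro (h | h | h)
      exacts [hp h, hcon.1 h, hcon.2 h]
  have fin : ∀ p (hm : p ∈ links'), act x rep.z ∈ MulAction.orbit (subK.map act)
      (⟨tab.app (leadWord p.1) 0, (lead_spec p hm).2⟩ : Fin tab.size) →
      ∃ k ∈ subK, ∃ k' ∈ subK, x = k * (ev φ (leadWord p.1) * k') := by
    intro p hm horb
    obtain ⟨⟨_, k, hk, rfl⟩, he⟩ := horb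
    refine ⟨k, hk, (ev φ (leadWord p.1))⁻¹ * k⁻¹ * x, (rep.mem_iff _).2 ?_, by group⟩
    show act ((ev φ (leadWord p.1))⁻¹ * k⁻¹ * x) rep.z = rep.z
    rw [map_mul, map_mul, map_inv, map_inv, Equiv.Perm.mul_apply, Equiv.Perm.mul_apply,
      Equiv.Perm.inv_eq_iff_eq, Equiv.Perm.inv_eq_iff_eq]
    exact he.symm.trans (congrArg (act k) (hlead p hm).symm)
  rcases hcov with h | h
  · refine ⟨([1, 2, 0, 1], 2), by simp [links'], fin _ (by simp [links']) ?_⟩
    have hmem := mem_orbit0 (lead_spec ([1, 2, 0, 1], 2) (by simp [links'])).2 lead_orbit.2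
    rw [MulAction.orbit_eq_iff.2 hmem]
    exact h
  · refine ⟨([0, 1], 1), by simp [links'], fin _ (by simp [links']) ?_⟩
    have hmem := mem_orbit1 (lead_spec ([0, 1], 1) (by simp [links'])).2 lead_orbit.1
    rw [MulAction.orbit_eq_iff.2 hmem]
    exact h

theorem lead_conj {p : List ℕ × ℕ} (hp : p ∈ links') :
    ev φ (leadWord p.1) * dEl * (ev φ (leadWord p.1))⁻¹ =
      ev φ carry * φ p.2 * (ev φ carry)⁻¹ := by
  rw [leadWord, ev_append, ev_append, rev_eq, dEl_eq, ← link_conj p hp]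
  group

theorem centralizer_dEl : Subgroup.centralizer ({dEl} : Set Cfsg.Spor.Fi23) = subK := by
  refine le_antisymm (fun x hx => ?_)
    fun x hx => Subgroup.mem_centralizer_singleton_iff.2 (dEl_commute hx)
  by_contra hn
  obtain ⟨p, hp, k, hk, k', hk', rfl⟩ := factor hn
  rw [Subgroup.mem_centralizer_singleton_iff] at hx
  have hC : ∀ y ∈ subK, y ∈ Subgroup.centralizer ({dEl} : Set Cfsg.Spor.Fi23) := fun y hy =>
    Subgroup.mem_centralizer_singleton_iff.2 (dEl_commute hy)
  have hl : ev φ (leadWord p.1) ∈ Subgroup.centralizer ({dEl} : Set Cfsg.Spor.Fi23) := by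
    have h := mul_mem (mul_mem (inv_mem (hC k hk)) (Subgroup.mem_centralizer_singleton_iff.2 hx))
      (inv_mem (hC k' hk'))
    simpa [mul_assoc] using h
  have h2 := lead_conj hp
  rw [Subgroup.mem_centralizer_singleton_iff.1 hl, mul_inv_cancel_right, dEl_eq] at h2
  exact (link_facts p hp).2 (mul_left_cancel (mul_right_cancel h2))

theorem conj_pow_small (x : Cfsg.Spor.Fi23) :
    (dEl * (x * dEl * x⁻¹)) ^ 2 = 1 ∨ (dEl * (x * dEl * x⁻¹)) ^ 3 = 1 := by
  by_cases hx : x ∈ subK
  · left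
    rw [dEl_commute hx, mul_inv_cancel_right]
    have : dEl * dEl = 1 := by
      rw [dEl_eq]
      calc _ = ev φ carry * (φ 0 * φ 0) * (ev φ carry)⁻¹ := by group
        _ = 1 := by rw [show φ 0 * φ 0 = 1 from pres.φ_inv 0, mul_one, mul_inv_cancel]
    rw [this, one_pow]
  obtain ⟨p, hp, k, hk, k', hk', rfl⟩ := factor hx
  have e : dEl * (k * (ev φ (leadWord p.1) * k') * dEl * (k * (ev φ (leadWord p.1) * k'))⁻¹) =
      k * (dEl * (ev φ (leadWord p.1) * dEl * (ev φ (leadWord p.1))⁻¹)) * k⁻¹ := by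
    calc dEl * (k * (ev φ (leadWord p.1) * k') * dEl * (k * (ev φ (leadWord p.1) * k'))⁻¹)
        = dEl * k * ev φ (leadWord p.1) * (k' * dEl) * k'⁻¹ * (ev φ (leadWord p.1))⁻¹ * k⁻¹ := by
          group
      _ = k * dEl * ev φ (leadWord p.1) * (dEl * k') * k'⁻¹ * (ev φ (leadWord p.1))⁻¹ * k⁻¹ := by
          rw [dEl_commute hk', dEl_commute hk]
      _ = k * (dEl * (ev φ (leadWord p.1) * dEl * (ev φ (leadWord p.1))⁻¹)) * k⁻¹ := by group
  rw [e, conj_pow, conj_pow, lead_conj hp, dEl_eq,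
    show ev φ carry * φ 0 * (ev φ carry)⁻¹ * (ev φ carry * φ p.2 * (ev φ carry)⁻¹) =
      ev φ carry * (φ 0 * φ p.2) * (ev φ carry)⁻¹ by group, conj_pow, conj_pow]
  rcases (link_facts p hp).1 with h | h
  · left; rw [h]; simp
  · right; rw [h]; simp

theorem card_class : Nat.card (conjugatesOf dEl) = 31671 := by
  have h : Nat.card (conjugatesOf dEl) = Nat.card (Cfsg.Spor.Fi23 ⧸ subK) := by
    refine (Nat.card_eq_of_bijective (α := Cfsg.Spor.Fi23 ⧸ subK) (β := conjugatesOf dEl)
      (Quotient.lift (fun x => ⟨x * dEl * x⁻¹, isConj_iff.2 ⟨x, rfl⟩⟩) fun a b h => ?_)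
      ⟨?_, ?_⟩).symm
    · have hab : a⁻¹ * b ∈ subK := QuotientGroup.leftRel_apply.1 h
      refine Subtype.ext ?_
      show a * dEl * a⁻¹ = b * dEl * b⁻¹
      calc a * dEl * a⁻¹ = a * (dEl * (a⁻¹ * b)) * b⁻¹ := by group
        _ = a * ((a⁻¹ * b) * dEl) * b⁻¹ := by rw [dEl_commute hab]
        _ = b * dEl * b⁻¹ := by group
    · intro a b
      induction a using Quotient.inductionOn with
      | _ a =>
        induction b using Quotient.inductionOn with
        | _ b =>
          intro h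
          have h' : a * dEl * a⁻¹ = b * dEl * b⁻¹ := congrArg Subtype.val h
          refine Quotient.sound (QuotientGroup.leftRel_apply.2 ?_)
          rw [← centralizer_dEl, Subgroup.mem_centralizer_singleton_iff]
          calc a⁻¹ * b * dEl = a⁻¹ * (b * dEl * b⁻¹) * b := by group
            _ = a⁻¹ * (a * dEl * a⁻¹) * b := by rw [h']
            _ = dEl * (a⁻¹ * b) := by group
    · rintro ⟨e, he⟩
      obtain ⟨x, rfl⟩ := isConj_iff.1 he
      exact ⟨Quotient.mk _ x, rfl⟩
  rw [h]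
  exact index_subK

theorem realization : ∃ (G : Type) (_ : Group G) (_ : Finite G), Cfsg.IsFi23 G ∧ ∃ D : Set G,
    Cfsg.IsThreeTranspositionClass D ∧ Nat.card D = 31671 ∧ ∀ d ∈ D,
      ∃ (K : Type) (_ : Group K), Cfsg.IsFi22 K ∧
        Cfsg.IsNonsplitDoubleCover (Subgroup.centralizer ({d} : Set G)) K := by
  refine ⟨Cfsg.Spor.Fi23, inferInstance, group_le.1, isFiTwentyThree, conjugatesOf dEl,
    ⟨⟨?_, ?_⟩, ⟨dEl, mem_conjugatesOf_self, rfl⟩, ?_⟩, card_class, ?_⟩
  · intro d hd
    obtain ⟨g, rfl⟩ := isConj_iff.1 hd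
    refine orderOf_eq_prime ?_ fun h => dEl_ne_one (conj_eq_one_iff.1 h)
    rw [conj_pow, dEl_eq, conj_pow, pow_two, show φ 0 * φ 0 = 1 from pres.φ_inv 0]
    simp
  · intro d hd e he
    obtain ⟨g, rfl⟩ := isConj_iff.1 hd
    obtain ⟨h, rfl⟩ := isConj_iff.1 he
    have key : g * dEl * g⁻¹ * (h * dEl * h⁻¹) =
        g * (dEl * ((g⁻¹ * h) * dEl * (g⁻¹ * h)⁻¹)) * g⁻¹ := by group
    rw [key, conj_pow, conj_pow]
    rcases conj_pow_small (g⁻¹ * h) with h' | h'
    · left; rw [h']; simp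
    · right; rw [h']; simp
  · have : IsSimpleGroup Cfsg.Spor.Fi23 := isFiTwentyThree.1
    have hN : (Subgroup.closure (conjugatesOf dEl)).Normal := by
      refine ⟨fun x hx g => ?_⟩
      induction hx using Subgroup.closure_induction with
      | mem x hx => exact Subgroup.subset_closure (hx.trans (isConj_iff.2 ⟨g, rfl⟩))
      | one => simp
      | mul x y _ _ h1 h2 =>
        rw [show g * (x * y) * g⁻¹ = (g * x * g⁻¹) * (g * y * g⁻¹) by group]
        exact mul_mem h1 h2
      | inv x _ h1 =>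
        rw [show g * x⁻¹ * g⁻¹ = (g * x * g⁻¹)⁻¹ by group]
        exact inv_mem h1
    refine hN.eq_bot_or_eq_top.resolve_left fun h => ?_
    have h1 : dEl ∈ Subgroup.closure (conjugatesOf dEl) :=
      Subgroup.subset_closure mem_conjugatesOf_self
    rw [h, Subgroup.mem_bot] at h1
    exact dEl_ne_one h1
  · intro d hd
    obtain ⟨g, rfl⟩ := isConj_iff.1 hd
    have := group_le.1
    refine ⟨Cfsg.Spor.Fi22, inferInstance, FiTwentyTwo.isFiTwentyTwo,
      FiTwentyTwo.Unit.double_cover_congr ?_ isDoubleCover⟩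
    refine (subK.equivMapOfInjective (MulAut.conj g).toMonoidHom (MulAut.conj g).injective).trans
      (MulEquiv.subgroupCongr ?_)
    rw [← centralizer_dEl]
    ext y
    simp only [Subgroup.mem_map, Subgroup.mem_centralizer_singleton_iff]
    constructor
    · rintro ⟨x, hx, rfl⟩
      show g * x * g⁻¹ * (g * dEl * g⁻¹) = g * dEl * g⁻¹ * (g * x * g⁻¹)
      rw [show g * x * g⁻¹ * (g * dEl * g⁻¹) = g * (x * dEl) * g⁻¹ by group, hx]
      group
    · intro hy
      refine ⟨g⁻¹ * y * g, ?_, by show g * (g⁻¹ * y * g) * g⁻¹ = y; group⟩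
      calc g⁻¹ * y * g * dEl = g⁻¹ * (y * (g * dEl * g⁻¹)) * g := by group
        _ = g⁻¹ * ((g * dEl * g⁻¹) * y) * g := by rw [hy]
        _ = dEl * (g⁻¹ * y * g) := by group

end Cfsg.Agent.Lib.SporPres.FiTwentyThree
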